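import Mathlib
import Groth.Prelude.Def_FlatFun
import Groth.Agent.HilbOne.Separated
import Groth.Agent.BigSiteLib.FpqcSheaf
import Groth.Agent.LimDesc.Tower

/-!
Subfunctors of the final functor given by a condition stable under base change: sheaf property and
limit preservation, and the conditions that come from a condition on `X`-schemes.
-/

set_option autoImplicit false
set_option linter.style.haveILetI false
set_option backward.isDefEq.respectTransparency false

universe u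

open CategoryTheory CategoryTheory.Limits AlgebraicGeometry Opposite

namespace Groth.Agent.FlatFunLib

variable {X S : Scheme.{u}}

/-- A stable condition descending along fpqc coverings gives an fpqc sheaf. -/
theorem isSheaf_genPSp (P : Over S → Prop) (hP : ∀ ⦃T T₀ : Over S⦄ (_ : T ⟶ T₀), P T₀ → P T)
    (hdesc : ∀ T : Over S,
      (∀ z : T.left, ∃ (T' : Over S) (g : T' ⟶ T), Flat g.left ∧ P T' ∧ ∃ w, g.left w = z) → P T) :
    Presheaf.IsSheaf (QuotSh.J Scheme.fpqcPrecoverage S) (FlatFun.genPSp S P) := by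
  rw [isSheaf_iff_isSheaf_of_type]
  intro T R hR x _
  have hT : P T := by
    obtain ⟨R₀, hR₀, hmem, hsurj⟩ := BigSiteLib.exists_fpqc_family hR
    obtain ⟨𝒰, -, e⟩ := Scheme.mem_propQCPrecoverage_iff_exists_quasiCompactCover.mp hR₀
    refine hdesc T fun z => ?_
    obtain ⟨i, w, hw⟩ := 𝒰.exists_eq z
    have hi : R₀ (𝒰.f i) := e ▸ Presieve.ofArrows.mk i
    exact ⟨Over.mk (𝒰.f i ≫ T.hom), Over.homMk (𝒰.f i), 𝒰.map_prop i,
      (FlatFun.genPSp_nonempty_iff_of_stable P hP _).1 ⟨x _ (hmem _ hi)⟩, w, hw⟩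
  exact ⟨⟨⟨⟨T, 𝟙 T, hT⟩⟩⟩, fun Y f hf => Subsingleton.elim _ _, fun _ _ => Subsingleton.elim _ _⟩

/-- A stable condition descending to a stage of a limit gives a limit preserving functor. -/
theorem isLimitPreserving_genPSp (P : Over S → Prop) (hP : ∀ ⦃T T₀ : Over S⦄ (_ : T ⟶ T₀), P T₀ → P T)
    (hlim : ∀ ⦃I : Type u⦄ [SmallCategory I] [IsCofiltered I] (D : I ⥤ Over S) (c : Cone D),
      IsLimit ((Over.forget S).mapCone c) → (∀ i, IsAffine (D.obj i).left) → IsAffine c.pt.left →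
        P c.pt → ∃ i, P (D.obj i)) :
    AlgSp.IsLimitPreserving (FlatFun.genPSp S P) := by
  intro I _ _ D c hc hD hT
  refine ⟨Types.FilteredColimit.isColimitOf _ _ (fun x => ?_) fun i j xi xj _ => ?_⟩
  · obtain ⟨i, hi⟩ := hlim D c hc hD hT ((FlatFun.genPSp_nonempty_iff_of_stable P hP _).1 ⟨x⟩)
    exact ⟨op i, ⟨⟨⟨_, 𝟙 _, hi⟩⟩⟩, Subsingleton.elim (α := (FlatFun.genPSp S P).obj (op c.pt)) _ _⟩
  · exact ⟨IsFiltered.max i j, IsFiltered.leftToMax i j, IsFiltered.rightToMax i j,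
      Subsingleton.elim (α := (FlatFun.genPSp S P).obj (op (D.obj (IsFiltered.max i j).unop))) _ _⟩

/-- The projection of a base change is flat. -/
theorem flat_XTmap (f : X ⟶ S) {T T' : Over S} (g : T' ⟶ T) [Flat g.left] : Flat (PicF.XTmap f g) :=
  MorphismProperty.of_isPullback (P := @Flat) (HilbOne.isPullback_XTmap f g).flip inferInstance

/-- Points of the base change over a point and a compatible point of the base. -/
theorem exists_preimage_XTmap (f : X ⟶ S) {T T' : Over S} (g : T' ⟶ T) (z : ↥(PicF.XT f T)) (w : T'.left)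
    (h : g.left w = PicF.XTproj f T z) : ∃ z' : ↥(PicF.XT f T'), PicF.XTmap f g z' = z := by
  have hc := HilbOne.isPullback_XTmap f g
  obtain ⟨p, hp₁, -⟩ := Scheme.Pullback.exists_preimage_pullback (f := pullback.snd f T.hom) (g := g.left) z w h.symm
  refine ⟨hc.isoPullback.inv p, ?_⟩
  rw [← Scheme.Hom.comp_apply, IsPullback.isoPullback_inv_fst]
  exact hp₁

/-- A condition on schemes over `X` stable under base change gives a stable condition on schemes over `S`. -/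
theorem stable_pull (f : X ⟶ S) (P : ∀ Y : Scheme.{u}, (Y ⟶ X) → Prop)
    (hpre : ∀ {Y Y' : Scheme.{u}} (q : Y' ⟶ Y) (r : Y ⟶ X), P Y r → P Y' (q ≫ r)) ⦃T T₀ : Over S⦄ (g : T ⟶ T₀)
    (h : P _ (pullback.fst f T₀.hom)) : P _ (pullback.fst f T.hom) := by
  rw [← HilbOne.XTmap_fst f g]
  exact hpre _ _ h

/-- The sheaf property for a condition on schemes over `X`. -/
theorem isSheaf_genPSp_pull (f : X ⟶ S) (P : ∀ Y : Scheme.{u}, (Y ⟶ X) → Prop)
    (hpre : ∀ {Y Y' : Scheme.{u}} (q : Y' ⟶ Y) (r : Y ⟶ X), P Y r → P Y' (q ≫ r))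
    (hdesc : ∀ {Y : Scheme.{u}} (r : Y ⟶ X),
      (∀ z : Y, ∃ (Y' : Scheme.{u}) (q : Y' ⟶ Y), Flat q ∧ P Y' (q ≫ r) ∧ ∃ w, q w = z) → P Y r) :
    Presheaf.IsSheaf (QuotSh.J Scheme.fpqcPrecoverage S)
      (FlatFun.genPSp S fun T => P _ (pullback.fst f T.hom)) := by
  refine isSheaf_genPSp _ (stable_pull f P hpre) fun T hT => hdesc _ fun z => ?_
  obtain ⟨T', g, hg, hP', w, hw⟩ := hT (PicF.XTproj f T z)
  haveI := hg
  refine ⟨_, PicF.XTmap f g, flat_XTmap f g, ?_, exists_preimage_XTmap f g z w hw⟩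
  rw [HilbOne.XTmap_fst]
  exact hP'

/-- Limit preservation for a condition on schemes over `X`. -/
theorem isLimitPreserving_genPSp_pull (f : X ⟶ S) [QuasiCompact f] (P : ∀ Y : Scheme.{u}, (Y ⟶ X) → Prop)
    (hpre : ∀ {Y Y' : Scheme.{u}} (q : Y' ⟶ Y) (r : Y ⟶ X), P Y r → P Y' (q ≫ r))
    (hstage : ∀ ⦃J : Type u⦄ [SmallCategory J] [IsCofiltered J] (E : J ⥤ Scheme.{u})
      [∀ {i j : J} (a : i ⟶ j), IsAffineHom (E.map a)] (e : Cone E) (_ : IsLimit e) (j₀ : J)
      [CompactSpace (E.obj j₀)] (r : E.obj j₀ ⟶ X), P e.pt (e.π.app j₀ ≫ r) →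
      ∃ (j : J) (a : j ⟶ j₀), P (E.obj j) (E.map a ≫ r)) :
    AlgSp.IsLimitPreserving (FlatFun.genPSp S fun T => P _ (pullback.fst f T.hom)) := by
  refine isLimitPreserving_genPSp _ (stable_pull f P hpre) fun I _ _ D c hc hD _ hP => ?_
  let E := D ⋙ Over.forget S
  haveI : ∀ {i j : I} (a : i ⟶ j), IsAffineHom (E.map a) := fun {i j} a => by
    haveI : IsAffine (E.obj i) := hD i
    haveI : IsAffine (E.obj j) := hD j
    exact isAffineHom_of_isAffine _
  obtain ⟨i₀⟩ := IsCofiltered.nonempty (C := I)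
  let Y₀ := PicF.XT f (D.obj i₀)
  let g₀ : Y₀ ⟶ E.obj i₀ := pullback.snd f (D.obj i₀).hom
  let e : Cone E := (Over.forget S).mapCone c
  have hY : IsPullback (PicF.XTmap f (c.π.app i₀)) (pullback.snd f c.pt.hom) g₀ (e.π.app i₀) :=
    HilbOne.isPullback_XTmap f (c.π.app i₀)
  haveI : CompactSpace Y₀ := by
    haveI : IsAffine (E.obj i₀) := hD i₀
    exact QuasiCompact.compactSpace_of_compactSpace g₀
  let o : Over i₀ := Over.mk (𝟙 i₀)
  haveI : CompactSpace ((LimDesc.tower E g₀).obj o) := LimDesc.compactSpace_stage E g₀ o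
  haveI : ∀ {j k : Over i₀} (a : j ⟶ k), IsAffineHom ((LimDesc.tower E g₀).map a) :=
    fun a => LimDesc.isAffineHom_tower_map E g₀ a
  obtain ⟨j, a, hj⟩ := hstage (LimDesc.tower E g₀) (LimDesc.towerCone E g₀ e hY)
    (LimDesc.isLimitTowerCone E g₀ e hY hc) o (LimDesc.toBase E g₀ o ≫ pullback.fst f (D.obj i₀).hom) (by
      show P _ (LimDesc.proj E g₀ e hY o ≫ _)
      rw [LimDesc.proj_toBase_assoc, HilbOne.XTmap_fst]
      exact hP)
  refine ⟨j.left, ?_⟩
  have hw : PicF.XTmap f (D.map j.hom) ≫ g₀ = pullback.snd f (D.obj j.left).hom ≫ E.map j.hom :=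
    HilbOne.XTmap_snd f _
  let l : PicF.XT f (D.obj j.left) ⟶ LimDesc.stage E g₀ j := pullback.lift _ _ hw
  have h := hpre l _ hj
  rw [LimDesc.tower_map, LimDesc.trans_toBase_assoc, LimDesc.lift_toBase_assoc, HilbOne.XTmap_fst] at h
  exact h

end Groth.Agent.FlatFunLib
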