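import Mathlib
import Groth.Agent.FlatFunLib.Basic
import Groth.Agent.FlatModBC.FlatAt
import Groth.Agent.FlatLimMod.Stage

/-!
The functor of flatness of a module.
-/

set_option autoImplicit false
set_option linter.style.haveILetI false
set_option backward.isDefEq.respectTransparency false

universe u

open CategoryTheory CategoryTheory.Limits AlgebraicGeometry Opposite

namespace Groth.Agent.FlatFunLib

variable {X S : Scheme.{u}} (f : X ⟶ S) (F : X.Modules)

theorem isFlatOverAt_XT {T T' : Over S} (g : T' ⟶ T) (z : ↥(PicF.XT f T'))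
    (h : FlatMod.IsFlatOverAt (PicF.XTproj f T) (FGA.ET f F T) (PicF.XTmap f g z)) :
    FlatMod.IsFlatOverAt (PicF.XTproj f T') (FGA.ET f F T') z :=
  FlatLimMod.isFlatOverAt_of_iso _ (FGA.ETiso f F g)
    (FlatModBC.isFlatOverAt_baseChange (HilbOne.isPullback_XTmap f g) _ z h)

theorem stable_flat ⦃T T₀ : Over S⦄ (g : T ⟶ T₀) (h : FlatMod.IsFlatOver (PicF.XTproj f T₀) (FGA.ET f F T₀)) :
    FlatMod.IsFlatOver (PicF.XTproj f T) (FGA.ET f F T) :=
  fun z => isFlatOverAt_XT f F g z (h _)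

theorem flat_descends [Coh.IsQCoh F] (T : Over S) (z : ↥(PicF.XT f T)) (T' : Over S) (g : T' ⟶ T) (hg : Flat g.left)
    (w : T'.left) (hw : g.left w = PicF.XTproj f T z)
    (h : ∀ z' : ↥(PicF.XT f T'), PicF.XTmap f g z' = z → FlatMod.IsFlatOverAt (PicF.XTproj f T') (FGA.ET f F T') z') :
    FlatMod.IsFlatOverAt (PicF.XTproj f T) (FGA.ET f F T) z := by
  obtain ⟨z', hz'⟩ := exists_preimage_XTmap f g z w hw
  rw [← hz']
  exact FlatModBC.isFlatOverAt_of_baseChange (HilbOne.isPullback_XTmap f g) _ (QC.isQCoh_pullback _ inferInstance) z'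
    (Flat.stalkMap g.left _) (FlatLimMod.isFlatOverAt_of_iso _ (FGA.ETiso f F g).symm (h z' hz'))

theorem exists_stage_flat [QuasiCompact f] [LocallyOfFinitePresentation f] [Coh.IsQCoh F] (hF : CohB1.IsFP F)
    {I : Type u} [SmallCategory I] [IsCofiltered I] (D : I ⥤ Over S) (c : Cone D)
    (hc : IsLimit ((Over.forget S).mapCone c)) (hD : ∀ i, IsAffine (D.obj i).left)
    (hflat : FlatMod.IsFlatOver (PicF.XTproj f c.pt) (FGA.ET f F c.pt)) :
    ∃ i, FlatMod.IsFlatOver (PicF.XTproj f (D.obj i)) (FGA.ET f F (D.obj i)) := by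
  let E := D ⋙ Over.forget S
  let e : Cone E := (Over.forget S).mapCone c
  haveI : ∀ {i j : I} (a : i ⟶ j), IsAffineHom (E.map a) := fun {i j} a => by
    haveI : IsAffine (E.obj i) := hD i
    haveI : IsAffine (E.obj j) := hD j
    exact isAffineHom_of_isAffine _
  obtain ⟨i₀⟩ := IsCofiltered.nonempty (C := I)
  let T₀ := D.obj i₀
  let X₀ := PicF.XT f T₀
  let f₀ : X₀ ⟶ E.obj i₀ := PicF.XTproj f T₀
  let g₀ : E.obj i₀ ⟶ E.obj i₀ := 𝟙 _
  haveI : LocallyOfFinitePresentation f₀ := MorphismProperty.pullback_snd _ _ ‹_›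
  haveI : CompactSpace X₀ := by
    haveI : IsAffine (E.obj i₀) := hD i₀
    exact QuasiCompact.compactSpace_of_compactSpace f₀
  have hY : IsPullback (e.π.app i₀) (𝟙 e.pt) g₀ (e.π.app i₀) := IsPullback.of_id_snd
  have hX : IsPullback (PicF.XTmap f (c.π.app i₀)) (PicF.XTproj f c.pt) f₀ (e.π.app i₀) :=
    HilbOne.isPullback_XTmap f (c.π.app i₀)
  let F₀ := FGA.ET f F T₀
  obtain ⟨j, hj⟩ := FlatLimMod.exists_isFlatOver_stage E e hc f₀ g₀ hY hX F₀ (QC.isQCoh_pullback _ inferInstance)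
    (ModDesc.isFP_pullback _ inferInstance hF)
    (fun z => FlatLimMod.isFlatOverAt_of_iso _ (FGA.ETiso f F (c.π.app i₀)).symm (hflat z))
  refine ⟨j.left, fun z => ?_⟩
  let a := D.map j.hom
  let eY : (D.obj j.left).left ⟶ LimDesc.stage E g₀ j :=
    pullback.lift (E.map j.hom) (𝟙 _) (by simp [g₀])
  let eX : PicF.XT f (D.obj j.left) ⟶ LimDesc.stage E (f₀ ≫ g₀) j :=
    pullback.lift (PicF.XTmap f a) (PicF.XTproj f _) (by
      simp only [g₀, Category.comp_id]
      exact HilbOne.XTmap_snd f a)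
  have hw : eX ≫ LimDesc.stageMap E g₀ f₀ j = PicF.XTproj f _ ≫ eY := by
    refine (LimDesc.isPullback_stage E g₀ j).hom_ext ?_ ?_
    · rw [Category.assoc, Category.assoc, LimDesc.stageMap_toBase, LimDesc.lift_toBase_assoc, LimDesc.lift_toBase]
      exact HilbOne.XTmap_snd f a
    · rw [Category.assoc, Category.assoc, LimDesc.stageMap_toStage, LimDesc.lift_toStage, LimDesc.lift_toStage,
        Category.comp_id]
  have hsq : IsPullback eX (PicF.XTproj f _) (LimDesc.stageMap E g₀ f₀ j) eY := by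
    refine IsPullback.of_right ?_ hw (LimDesc.isPullback_stageMap E g₀ f₀ j)
    rw [LimDesc.lift_toBase, LimDesc.lift_toBase]
    exact HilbOne.isPullback_XTmap f a
  exact FlatLimMod.isFlatOverAt_of_iso _
    ((ModDesc.trIso eX (LimDesc.toBase E (f₀ ≫ g₀) j) (LimDesc.lift_toBase _ _ _ _ _)).app F₀ ≪≫ FGA.ETiso f F a)
    (FlatModBC.isFlatOverAt_baseChange hsq _ z (hj _))

end Groth.Agent.FlatFunLib
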