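import Mathlib
import Groth.Agent.S9591
import Groth.Agent.S1192
import Groth.Agent.SmoothRed.Basic

/-!
Elements of a smooth algebra vanishing at all generic points of fibres are zero.
-/

set_option autoImplicit false
set_option linter.style.haveILetI false

universe u

open TensorProduct

namespace Groth.Agent.FlatFunLib

attribute [local instance] Algebra.TensorProduct.rightAlgebra

theorem minimal_of_mem_weakAss {A B : Type u} [CommRing A] [CommRing B] [Algebra A B] [Algebra.Smooth A B]
    (q : Ideal B) [q.IsPrime] (hq : q ∈ FlatCA.weakAss B B) (q' : Ideal B) [q'.IsPrime] (hle : q' ≤ q)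
    (h : q'.comap (algebraMap A B) = q.comap (algebraMap A B)) : q ≤ q' := by
  let p := q.comap (algebraMap A B)
  haveI : q.LiesOver p := ⟨rfl⟩
  haveI : Module.Flat A B := inferInstance
  have hq1 : q ∈ FlatCA.weakAss B (B ⊗[A] A) := by
    obtain ⟨m, hm⟩ := hq
    refine ⟨(AlgebraTensorModule.rid A B B).symm m, ?_⟩
    rwa [show (Submodule.span B {(AlgebraTensorModule.rid A B B).symm m}).annihilator = (Submodule.span B {m}).annihilator from
      Submodule.ext fun x => by
        rw [Submodule.mem_annihilator_span_singleton, Submodule.mem_annihilator_span_singleton, ← LinearEquiv.map_smul,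
          LinearEquiv.map_eq_zero_iff]]
  have hQ := ((S1192.result (R := A) (S := B) B A p q).1 hq1).2
  let Q := FlatCA.fiberIdeal p q
  let eF : FlatCA.fiberMod p B B ≃ₗ[p.Fiber B] p.Fiber B := AlgebraTensorModule.rid B (p.Fiber B) (p.Fiber B)
  change Q ∈ associatedPrimes (p.Fiber B) (FlatCA.fiberMod p B B) at hQ
  rw [LinearEquiv.AssociatedPrimes.eq eF] at hQ
  haveI : IsReduced (p.Fiber B) := SmoothRed.isReduced_of_smooth p.ResidueField (p.Fiber B)
  obtain ⟨hQp, x, hQx⟩ := hQ
  haveI := hQp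
  have hann : ∀ y, y ∈ Q → y * x = 0 := fun y hy => by
    rw [hQx] at hy
    obtain ⟨n, hn⟩ := hy
    rw [Submodule.mem_colon_singleton, Submodule.mem_bot, smul_eq_mul] at hn
    exact IsReduced.eq_zero _ ⟨n + 1, by rw [mul_pow, pow_succ x, pow_succ y, show y ^ n * y * (x ^ n * x) = (y ^ n * x) * (y * x ^ n) by ring, hn, zero_mul]⟩
  have hxQ : x ∉ Q := fun hx => by
    have hx0 : x = 0 := IsReduced.eq_zero _ ⟨2, by rw [sq]; exact hann x hx⟩
    refine hQp.ne_top (hQx.trans ?_)
    rw [hx0]
    simp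
  intro b hb
  by_contra hb'
  have hP : ∃ P : Ideal (p.Fiber B), P.IsPrime ∧ P ≤ Q ∧
      (Algebra.TensorProduct.includeRight : B →ₐ[A] p.Fiber B).toRingHom b ∉ P := by
    obtain ⟨P, hP⟩ := (PrimeSpectrum.preimageEquivFiber A B ⟨p, inferInstance⟩).symm.surjective
      ⟨⟨q', inferInstance⟩, PrimeSpectrum.ext h⟩
    have hP' : P.asIdeal.comap (Algebra.TensorProduct.includeRight : B →ₐ[A] p.Fiber B).toRingHom = q' :=
      congrArg (fun z => z.1.asIdeal) hP
    refine ⟨P.asIdeal, P.isPrime, ?_, fun hm => hb' (hP'.le hm)⟩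
    rw [← RG.fiberIdeal_comap A B p P.asIdeal, hP']
    exact Ideal.map_mono hle
  obtain ⟨P, hPp, hPQ, hbP⟩ := hP
  have h0 := hann _ (Ideal.mem_map_of_mem _ hb)
  rcases hPp.mem_or_mem (show _ * x ∈ P by rw [h0]; exact P.zero_mem) with h1 | h1
  · exact hbP h1
  · exact hxQ (hPQ h1)

/-- An element vanishing at all generic points of fibres is zero. -/
theorem eq_zero_of_genericPts {A B : Type u} [CommRing A] [CommRing B] [Algebra A B] [Algebra.Smooth A B] (b : B)
    (hb : ∀ (q : Ideal B) [q.IsPrime], (∀ (q' : Ideal B) [q'.IsPrime], q' ≤ q →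
      q'.comap (algebraMap A B) = q.comap (algebraMap A B) → q ≤ q') → ∃ t ∉ q, t * b = 0) : b = 0 := by
  refine S9591.result (R := B) (M := B) b fun q _ hq => ?_
  obtain ⟨t, ht, htb⟩ := hb q fun q' _ hle h => minimal_of_mem_weakAss q hq q' hle h
  refine (IsLocalizedModule.eq_zero_iff q.primeCompl (LocalizedModule.mkLinearMap q.primeCompl B)).2 ?_
  exact ⟨⟨t, ht⟩, htb⟩

end Groth.Agent.FlatFunLib
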