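import Mathlib
import Groth.Agent.FlatFunLib.Flat
import Groth.Agent.FlatFunLib.SmoothGen
import Groth.Agent.FittLib.Free
import Groth.Agent.LocFree.Rank
import Groth.Agent.LocFree.SemiLocal
import Groth.Agent.DerPerf.Local

/-!
Modules free near the generic points of fibres.
-/

set_option autoImplicit false
set_option linter.style.haveILetI false
set_option backward.isDefEq.respectTransparency false

universe u

open CategoryTheory CategoryTheory.Limits AlgebraicGeometry Opposite TensorProduct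

namespace Groth.Agent.FlatFunLib

variable {X T X' T' : Scheme.{u}}

theorem exists_genericPt (q : X ⟶ T) [GeometricallyIrreducible q] (t : T) :
    ∃ x, q x = t ∧ FlatFun.IsGenericPtOfFibre q x := by
  have hx : q (q.fiberι t (genericPoint (q.fiber t))) = t := (q.range_fiberι t).le ⟨_, rfl⟩
  refine ⟨_, hx, fun z hz => ?_⟩
  obtain ⟨w, rfl⟩ := (q.range_fiberι t).ge (hz.trans hx)
  exact (genericPoint_specializes w).map (q.fiberι t).continuous

theorem map_genericPt {f : X ⟶ T} {f' : X' ⟶ T'} {g' : X' ⟶ X} {g : T' ⟶ T} (hc : IsPullback g' f' f g)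
    {x' : X'} (hx' : FlatFun.IsGenericPtOfFibre f' x') {x : X} (hx : FlatFun.IsGenericPtOfFibre f x)
    (e : f x = g (f' x')) : g' x' = x := by
  obtain ⟨p, hp₁, hp₂⟩ := Scheme.Pullback.exists_preimage_pullback (f := f) (g := g) x (f' x') e
  let z := hc.isoPullback.inv p
  have hz₁ : g' z = x := by rw [← Scheme.Hom.comp_apply, IsPullback.isoPullback_inv_fst]; exact hp₁
  have hz₂ : f' z = f' x' := by rw [← Scheme.Hom.comp_apply, IsPullback.isoPullback_inv_snd]; exact hp₂
  have h1 : g' x' ⤳ x := hz₁ ▸ (hx' z hz₂).map g'.continuous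
  have h2 : x ⤳ g' x' := hx _ (by rw [e, ← Scheme.Hom.comp_apply, hc.w, Scheme.Hom.comp_apply])
  exact (h1.antisymm h2).eq

theorem isFreeOfRankNear_pullback (m : X' ⟶ X) (F : X.Modules) (p : ℕ) (x' : X')
    (h : FlatFun.IsFreeOfRankNear F p (m x')) : FlatFun.IsFreeOfRankNear ((Scheme.Modules.pullback m).obj F) p x' := by
  obtain ⟨U, hU, ⟨e⟩⟩ := h
  exact ⟨m ⁻¹ᵁ U, hU, ⟨(DerPerf.pullRestrictIso m U).app F ≪≫ (Scheme.Modules.pullback (m ∣_ U)).mapIso e ≪≫
    DerPerf.pullFreeIso (m ∣_ U) p⟩⟩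

theorem isFreeOfRankNear_of_iso {F G : X.Modules} (e : F ≅ G) {p : ℕ} {x : X}
    (h : FlatFun.IsFreeOfRankNear F p x) : FlatFun.IsFreeOfRankNear G p x := by
  obtain ⟨U, hU, ⟨i⟩⟩ := h
  exact ⟨U, hU, ⟨((Scheme.Modules.restrictFunctor U.ι).mapIso e).symm ≪≫ i⟩⟩

/-- A basis of a finite module from one of a faithfully flat base change. -/
theorem exists_basis_of_baseChange {R L M : Type u} [CommRing R] [IsLocalRing R] [CommRing L] [Nontrivial L]
    [Algebra R L] [Module.FaithfullyFlat R L] [AddCommGroup M] [Module R M] [Module.Finite R M] {p : ℕ}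
    (b : Module.Basis (ULift.{u} (Fin p)) L (L ⊗[R] M)) : Nonempty (Module.Basis (Fin p) R M) := by
  haveI : Module.Flat L (L ⊗[R] M) := haveI := Module.Free.of_basis b; Module.Flat.of_free
  haveI : Module.Flat R (L ⊗[R] M) := Module.Flat.trans R L _
  haveI : Module.Flat R M := by
    refine Module.Flat.iff_lTensor_preserves_injective_linearMap.2 fun N N' _ _ _ _ φ hφ => ?_
    rw [← Module.FaithfullyFlat.lTensor_injective_iff_injective R L (φ.lTensor M)]
    have h1 := Module.Flat.lTensor_preserves_injective_linearMap (M := L ⊗[R] M) φ hφ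
    have h2 : (φ.lTensor M).lTensor L =
        (TensorProduct.assoc R L M N').toLinearMap ∘ₗ φ.lTensor (L ⊗[R] M) ∘ₗ (TensorProduct.assoc R L M N).symm.toLinearMap := by
      ext a c d
      simp
    rw [h2]
    exact (TensorProduct.assoc R L M N').injective.comp (h1.comp (TensorProduct.assoc R L M N).symm.injective)
  haveI : Module.Free R M := Module.free_of_flat_of_isLocalRing
  have hr : Module.finrank R M = p := by
    rw [← Module.finrank_baseChange (R := L), Module.finrank_eq_card_basis b, Fintype.card_ulift, Fintype.card_fin]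
  exact ⟨(Module.finBasis R M).reindex (finCongr hr)⟩

/-- The stalk is free of rank `p` when the pullback along a flat morphism is so near a point above. -/
theorem exists_basis_stalk_of_pullback (m : X' ⟶ X) [Flat m] (F : X.Modules) (hF : Coh.IsQCoh F)
    (hft : CohB1.IsFT F) (x' : X') (p : ℕ)
    (h : FlatFun.IsFreeOfRankNear ((Scheme.Modules.pullback m).obj F) p x') :
    Nonempty (Module.Basis (Fin p) (X.presheaf.stalk (m x')) (F.presheaf.stalk (m x'))) := by
  obtain ⟨U, hU, ⟨i⟩⟩ := h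
  obtain ⟨b⟩ := LocFree.exists_basis_stalk i (QC.isQCoh_pullback m hF) hU
  obtain ⟨W, hW, hxW, -⟩ := exists_isAffineOpen_mem_and_subset (X := X) (x := m x') (U := ⊤) trivial
  haveI := QC.finite_sections hW (M := F) hft
  let R := X.presheaf.stalk (m x')
  let L := X'.presheaf.stalk x'
  haveI : Module.Finite R (F.presheaf.stalk (m x')) := LocFree.finite_stalk hW hF hxW
  letI : Algebra R L := (m.stalkMap x').hom.toAlgebra
  haveI : IsLocalHom (algebraMap R L) := inferInstanceAs (IsLocalHom (m.stalkMap x').hom)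
  haveI : Module.Flat R L := Flat.stalkMap m x'
  haveI : Module.FaithfullyFlat R L := Module.FaithfullyFlat.of_flat_of_isLocalHom
  let e : ((Scheme.Modules.pullback m).obj F).presheaf.stalk x' ≃ₗ[L] L ⊗[R] F.presheaf.stalk (m x') :=
    ((KFlat.pullStalkIso m x').app F).toLinearEquiv
  exact exists_basis_of_baseChange (b.map e)

/-- A finite module with rank `p` stalks at the generic points of the fibres of a smooth morphism is free near them. -/
theorem isFreeOfRankNear_of_stalks (q : X ⟶ T) [Smooth q] (F : X.Modules) (hF : Coh.IsQCoh F) (hft : CohB1.IsFT F)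
    (p : ℕ) (hη : ∀ η, FlatFun.IsGenericPtOfFibre q η →
      Nonempty (Module.Basis (Fin p) (X.presheaf.stalk η) (F.presheaf.stalk η)))
    (hgen : ∀ t : T, ∃ η, q η = t ∧ FlatFun.IsGenericPtOfFibre q η)
    (x : X) (hx : FlatFun.IsGenericPtOfFibre q x) : FlatFun.IsFreeOfRankNear F p x := by
  obtain ⟨V, hV, hxV, -⟩ := exists_isAffineOpen_mem_and_subset (X := T) (x := q x) (U := ⊤) trivial
  obtain ⟨W₀, hW₀, hxW₀, e₀⟩ := exists_isAffineOpen_mem_and_subset (X := X) (x := x) (U := q ⁻¹ᵁ V) hxV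
  haveI := QC.finite_sections hW₀ (M := F) hft
  obtain ⟨b₀⟩ := hη x hx
  have hrk : LocFree.rk F x = p := (LocFree.rk_of_basis b₀).trans (Fintype.card_fin p)
  obtain ⟨r, s, hxD, hs⟩ := LocFree.exists_spanning hW₀ hF hxW₀
  have hD := hW₀.basicOpen r
  let W := X.basicOpen r
  have e : W ≤ q ⁻¹ᵁ V := (X.basicOpen_le r).trans e₀
  let B := Γ(X, W)
  let M := Γ(F, W)
  letI : Algebra Γ(T, V) B := (q.appLE V W e).hom.toAlgebra
  haveI : Algebra.Smooth Γ(T, V) B :=
    RingHom.smooth_algebraMap.1 (HasRingHomProperty.appLE @Smooth q ‹_› ⟨V, hV⟩ ⟨W, hD⟩ e)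
  let π : (Fin (LocFree.rk F x) → B) →ₗ[B] M := Fintype.linearCombination B s
  have hsurj : Function.Surjective π := by
    rw [← LinearMap.range_eq_top, Fintype.range_linearCombination, hs]
  have hinj : Function.Injective π := by
    refine (injective_iff_map_eq_zero π).2 fun v hv => funext fun i => eq_zero_of_genericPts (A := Γ(T, V)) (v i) fun Q _ hQ => ?_
    let P : PrimeSpectrum B := ⟨Q, ‹_›⟩
    obtain ⟨hηW, hηP⟩ := InjFibre.primeIdealOf_fromSpec hD P
    obtain ⟨η₁, hη₁t, hη₁⟩ := hgen (q (hD.fromSpec P))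
    have hspec : η₁ ⤳ hD.fromSpec P := hη₁ _ hη₁t.symm
    have hη₁W : η₁ ∈ W := hspec.mem_open W.2 hηW
    have hηeq : η₁ = hD.fromSpec P := by
      have hle : (hD.primeIdealOf ⟨η₁, hη₁W⟩).asIdeal ≤ Q := by
        refine PrimeSpectrum.le_iff_specializes _ P |>.2 ?_
        rw [← hD.fromSpec.isOpenEmbedding.isInducing.specializes_iff]
        show hD.fromSpec _ ⤳ hD.fromSpec P
        rw [hD.fromSpec_primeIdealOf]
        exact hspec
      have hcomap : ∀ z (hz : z ∈ W), (hV.primeIdealOf ⟨q z, e hz⟩).asIdeal =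
          (hD.primeIdealOf ⟨z, hz⟩).asIdeal.comap (algebraMap Γ(T, V) B) := by
        intro z hz
        refine (congrArg PrimeSpectrum.asIdeal (?_ : PrimeSpectrum.comap (algebraMap Γ(T, V) B) (hD.primeIdealOf ⟨z, hz⟩) = _)).symm
        apply hV.fromSpec.isOpenEmbedding.injective
        show hV.fromSpec _ = hV.fromSpec _
        rw [hV.fromSpec_primeIdealOf]
        refine (congr($(hV.SpecMap_appLE_fromSpec q hD e).base (hD.primeIdealOf ⟨z, hz⟩))).trans ?_
        exact congrArg q.base (hD.fromSpec_primeIdealOf _)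
      have h2 : Q ≤ (hD.primeIdealOf ⟨η₁, hη₁W⟩).asIdeal := by
        refine hQ _ hle ?_
        rw [← hcomap η₁ hη₁W, show Q = (hD.primeIdealOf ⟨hD.fromSpec P, hηW⟩).asIdeal from congrArg PrimeSpectrum.asIdeal hηP.symm,
          ← hcomap _ hηW]
        exact congrArg (fun z : V => (hV.primeIdealOf z).asIdeal) (Subtype.ext hη₁t)
      refine (hD.fromSpec_primeIdealOf ⟨η₁, hη₁W⟩).symm.trans (congrArg hD.fromSpec ?_)
      exact PrimeSpectrum.ext (le_antisymm hle h2)
    subst hηeq
    let η := hD.fromSpec P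
    obtain ⟨b⟩ := hη η hη₁
    let R := X.presheaf.stalk η
    let N := F.presheaf.stalk η
    let σ : Fin (LocFree.rk F x) → N := fun j => WeakAssLib.mgerm F hηW (s j)
    have hσ := LocFree.span_germ hD hF hηW s hs
    have hcard : Fintype.card (Fin (LocFree.rk F x)) = Module.finrank R N := by
      rw [Module.finrank_eq_card_basis b, Fintype.card_fin, Fintype.card_fin, hrk]
    have hli := linearIndependent_of_top_le_span_of_card_eq_finrank hσ.ge hcard
    have h0 : ∑ j, (X.presheaf.germ W η hηW).hom (v j) • σ j = 0 := by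
      rw [Fintype.linearCombination_apply] at hv
      have := congrArg (WeakAssLib.mgerm F hηW) hv
      rw [map_zero, map_sum] at this
      rw [← this]
      exact Finset.sum_congr rfl fun j _ => (WeakAssLib.mgerm_smul F hηW (v j) (s j)).symm
    have hz := Fintype.linearIndependent_iff.1 hli _ h0 i
    letI : Algebra B R := (X.presheaf.germ W η hηW).hom.toAlgebra
    haveI : IsLocalization.AtPrime R (hD.primeIdealOf ⟨η, hηW⟩).asIdeal := hD.isLocalization_stalk ⟨η, hηW⟩
    obtain ⟨t, ht⟩ := (IsLocalization.map_eq_zero_iff (hD.primeIdealOf ⟨η, hηW⟩).asIdeal.primeCompl R (v i)).1 hz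
    refine ⟨t.1, ?_, ht⟩
    exact fun hm => t.2 ((congrArg PrimeSpectrum.asIdeal hηP).ge hm)
  let bM : Module.Basis (Fin p) B M :=
    ((Pi.basisFun B (Fin (LocFree.rk F x))).map (LinearEquiv.ofBijective π ⟨hinj, hsurj⟩)).reindex (finCongr hrk)
  exact ⟨W, hxD, FittLib.exists_iso_of_basis hF hD bM⟩

end Groth.Agent.FlatFunLib

namespace Groth.Agent.FlatFunLib

variable {X S : Scheme.{u}} (f : X ⟶ S) [GeometricallyIrreducible f] (F : X.Modules) (p : ℕ)

theorem stable_freeGen ⦃T' T : Over S⦄ (g : T' ⟶ T) (h : FlatFun.FreeAtGenericPts (PicF.XTproj f T) (FGA.ET f F T) p) :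
    FlatFun.FreeAtGenericPts (PicF.XTproj f T') (FGA.ET f F T') p := by
  haveI : GeometricallyIrreducible (PicF.XTproj f T') := MorphismProperty.pullback_snd _ _ ‹_›
  intro t'
  obtain ⟨x', hx't, hx'⟩ := exists_genericPt (PicF.XTproj f T') t'
  obtain ⟨x, hxt, hx, hfree⟩ := h (g.left t')
  have hm : PicF.XTmap f g x' = x := map_genericPt (HilbOne.isPullback_XTmap f g) hx' hx (by rw [hx't]; exact hxt)
  exact ⟨x', hx't, hx', isFreeOfRankNear_of_iso (FGA.ETiso f F g)
    (isFreeOfRankNear_pullback _ _ p x' (hm.symm ▸ hfree))⟩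

theorem freeGen_descends [Smooth f] [Coh.IsQCoh F] (hft : CohB1.IsFT F) (T : Over S)
    (hT : ∀ z : T.left, ∃ (T' : Over S) (g : T' ⟶ T), Flat g.left ∧
      FlatFun.FreeAtGenericPts (PicF.XTproj f T') (FGA.ET f F T') p ∧ ∃ w, g.left w = z) :
    FlatFun.FreeAtGenericPts (PicF.XTproj f T) (FGA.ET f F T) p := by
  haveI : GeometricallyIrreducible (PicF.XTproj f T) := MorphismProperty.pullback_snd _ _ ‹_›
  haveI : Smooth (PicF.XTproj f T) := MorphismProperty.pullback_snd _ _ ‹_›
  have hq : Coh.IsQCoh (FGA.ET f F T) := QC.isQCoh_pullback _ inferInstance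
  have hgen := exists_genericPt (PicF.XTproj f T)
  intro t
  obtain ⟨x, hxt, hx⟩ := hgen t
  refine ⟨x, hxt, hx, isFreeOfRankNear_of_stalks _ _ hq (ModDesc.isFT_pullback _ inferInstance hft) p (fun η hη => ?_) hgen x hx⟩
  obtain ⟨T', g, hg, h', w, hw⟩ := hT (PicF.XTproj f T η)
  haveI := hg
  haveI := flat_XTmap f g
  obtain ⟨x', hx'w, hx', hfree⟩ := h' w
  have hm : PicF.XTmap f g x' = η := map_genericPt (HilbOne.isPullback_XTmap f g) hx' hη (by rw [hx'w]; exact hw.symm)
  have := exists_basis_stalk_of_pullback (PicF.XTmap f g) _ hq (ModDesc.isFT_pullback _ inferInstance hft) x' p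
    (isFreeOfRankNear_of_iso (FGA.ETiso f F g).symm hfree)
  rwa [hm] at this

end Groth.Agent.FlatFunLib
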