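import Mathlib

/-!
Residue fields of base changes: generation and transcendence degrees.
-/

set_option autoImplicit false
set_option linter.style.haveILetI false
set_option backward.isDefEq.respectTransparency false

universe u

open CategoryTheory CategoryTheory.Limits AlgebraicGeometry TensorProduct

namespace Groth.Agent.FlatFunLib

theorem trdeg_le_of_generated {K L E F : Type u} [Field K] [Field L] [Field E] [Field F] [Algebra K L] [Algebra E F]
    (b : K →+* E) (i : L →+* F) (h : i.comp (algebraMap K L) = (algebraMap E F).comp b)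
    (hgen : Subfield.closure (Set.range i ∪ Set.range (algebraMap E F)) = ⊤) : Algebra.trdeg E F ≤ Algebra.trdeg K L := by
  obtain ⟨s, hs⟩ := exists_isTranscendenceBasis K L
  rw [← hs.cardinalMk_eq_trdeg]
  let Fs : IntermediateField E F := IntermediateField.adjoin E (i '' s)
  let L₀ : IntermediateField K L :=
    { Fs.toSubfield.comap i with
      algebraMap_mem' := fun k => by
        show i (algebraMap K L k) ∈ Fs
        rw [← RingHom.comp_apply i, h]
        exact Fs.algebraMap_mem _ }
  have hle : IntermediateField.adjoin K s ≤ L₀ :=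
    IntermediateField.adjoin_le_iff.2 fun l hl => IntermediateField.subset_adjoin E _ ⟨l, hl, rfl⟩
  let φ : IntermediateField.adjoin K s →+* Fs :=
    RingHom.codRestrict (i.comp (IntermediateField.adjoin K s).val.toRingHom) Fs fun z => hle z.2
  have hφ : (algebraMap Fs F).comp φ = i.comp (algebraMap (IntermediateField.adjoin K s) L) := RingHom.ext fun z => rfl
  haveI : Algebra.IsAlgebraic (IntermediateField.adjoin K s) L := by
    have := hs.isAlgebraic_field
    rwa [Subtype.range_coe_subtype, Set.setOf_mem_eq] at this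
  have hall : Algebra.IsAlgebraic Fs F := ⟨fun z => by
    have hz : z ∈ (algebraicClosure Fs F).toSubfield := by
      refine (top_le_iff.2 hgen).trans (Subfield.closure_le.2 ?_) (Subfield.mem_top z) |> id
      rintro _ (⟨l, rfl⟩ | ⟨e, rfl⟩)
      · exact (mem_algebraicClosure_iff).2
          ((Algebra.IsAlgebraic.isAlgebraic (R := IntermediateField.adjoin K s) l).ringHom_of_comp_eq φ i φ.injective hφ)
      · exact (mem_algebraicClosure_iff).2 (isAlgebraic_algebraMap (⟨_, Fs.algebraMap_mem e⟩ : Fs))
    exact (mem_algebraicClosure_iff).1 hz⟩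
  haveI : Algebra.IsAlgebraic (Algebra.adjoin E (i '' s)) F := IntermediateField.isAlgebraic_adjoin_iff_top.1 hall
  exact (Algebra.IsAlgebraic.trdeg_le_cardinalMk E (i '' s)).trans Cardinal.mk_image_le

theorem exists_field_trdeg_le {K L E : Type u} [Field K] [Field L] [Field E] [Algebra K L] [Algebra K E] :
    ∃ (F : Type u) (_ : Field F) (_ : Algebra E F) (i : L →+* F),
      i.comp (algebraMap K L) = (algebraMap E F).comp (algebraMap K E) ∧
      ∃ (s : Set L), Algebra.trdeg K L = Cardinal.mk s ∧ AlgebraicIndependent E (fun x : s => i x) := by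
  obtain ⟨s, hs⟩ := exists_isTranscendenceBasis K L
  let T := E ⊗[K] L
  let x : s → T := fun z => (1 : E) ⊗ₜ[K] (z : L)
  have hx : AlgebraicIndependent E x := by
    let α : MvPolynomial s K →ₐ[K] L := MvPolynomial.aeval (fun z => (z : L))
    have hα : Function.Injective (Algebra.TensorProduct.map (AlgHom.id E E) α) :=
      Module.Flat.lTensor_preserves_injective_linearMap (M := E) α.toLinearMap hs.1
    have he : (MvPolynomial.aeval x : MvPolynomial s E →ₐ[E] T) =
        (Algebra.TensorProduct.map (AlgHom.id E E) α).comp (MvPolynomial.algebraTensorAlgEquiv K E).symm.toAlgHom := by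
      refine MvPolynomial.algHom_ext fun z => ?_
      show _ = Algebra.TensorProduct.map (AlgHom.id E E) α ((MvPolynomial.algebraTensorAlgEquiv K E).symm (MvPolynomial.X z))
      rw [MvPolynomial.algebraTensorAlgEquiv_symm_X, Algebra.TensorProduct.map_tmul, MvPolynomial.aeval_X, MvPolynomial.aeval_X]
      rfl
    show Function.Injective (MvPolynomial.aeval x : MvPolynomial s E →ₐ[E] T)
    rw [he]
    exact hα.comp (MvPolynomial.algebraTensorAlgEquiv K E).symm.injective
  let M : Submonoid T := (nonZeroDivisors (MvPolynomial s E)).map (MvPolynomial.aeval x : MvPolynomial s E →ₐ[E] T)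
  have h0 : (0 : T) ∉ M := by
    rintro ⟨p, hp, hp0⟩
    exact nonZeroDivisors.ne_zero hp (hx (hp0.trans (map_zero _).symm))
  obtain ⟨P, hP, -, hdisj⟩ := Ideal.exists_le_prime_disjoint (⊥ : Ideal T) M
    (Set.disjoint_left.2 fun a ha hM => h0 (by rwa [show a = 0 from ha] at hM))
  let F := P.ResidueField
  refine ⟨F, inferInstance, inferInstance, (algebraMap T F).comp Algebra.TensorProduct.includeRight.toRingHom,
    RingHom.ext fun k => ?_, s, hs.cardinalMk_eq_trdeg.symm, ?_⟩
  · show algebraMap T F ((1 : E) ⊗ₜ algebraMap K L k) = algebraMap E F (algebraMap K E k)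
    rw [IsScalarTower.algebraMap_apply E T F]
    congr 1
    rw [Algebra.TensorProduct.algebraMap_apply, Algebra.algebraMap_self_apply, Algebra.algebraMap_eq_smul_one,
      Algebra.algebraMap_eq_smul_one, ← TensorProduct.smul_tmul]
  · show Function.Injective (MvPolynomial.aeval (fun z : s => algebraMap T F (x z)) : MvPolynomial s E →ₐ[E] F)
    refine (injective_iff_map_eq_zero _).2 fun p hp => by_contra fun hne => ?_
    have h1 : algebraMap T F ((MvPolynomial.aeval x : MvPolynomial s E →ₐ[E] T) p) = 0 := by
      rw [← hp, ← IsScalarTower.toAlgHom_apply E T F, ← AlgHom.comp_apply, MvPolynomial.comp_aeval]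
      rfl
    rw [Ideal.algebraMap_residueField_eq_zero] at h1
    exact Set.disjoint_left.1 hdisj h1 ⟨p, mem_nonZeroDivisors_of_ne_zero hne, rfl⟩

/-- Two morphisms from the spectrum of a field agree if they do after a field extension. -/
theorem eq_of_SpecMap_comp_eq {K M : Type u} [Field K] [Field M] (i : CommRingCat.of K ⟶ CommRingCat.of M)
    {S : Scheme.{u}} {p q : Spec (CommRingCat.of K) ⟶ S} (h : Spec.map i ≫ p = Spec.map i ≫ q) : p = q := by
  obtain ⟨⟨x, a⟩, rfl⟩ := (Scheme.SpecToEquivOfField K S).symm.surjective p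
  obtain ⟨⟨y, b⟩, rfl⟩ := (Scheme.SpecToEquivOfField K S).symm.surjective q
  have h' : (Scheme.SpecToEquivOfField M S).symm ⟨x, a ≫ i⟩ = (Scheme.SpecToEquivOfField M S).symm ⟨y, b ≫ i⟩ := by
    simp only [Scheme.SpecToEquivOfField_symm_apply, Spec.map_comp, Category.assoc] at h ⊢
    exact h
  obtain ⟨rfl, h2⟩ := Sigma.mk.inj_iff.1 ((Scheme.SpecToEquivOfField M S).symm.injective h')
  haveI : Mono i := ConcreteCategory.mono_of_injective i i.hom.injective
  rw [(cancel_mono i).1 (eq_of_heq h2)]

variable {X S X' S' : Scheme.{u}} {f : X ⟶ S} {f' : X' ⟶ S'} {g' : X' ⟶ X} {g : S' ⟶ S}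

/-- Residue fields of a base change are generated by the residue fields of the images. -/
theorem residueField_generated (hc : IsPullback g' f' f g) (x' : X') :
    Subfield.closure (Set.range (g'.residueFieldMap x').hom ∪ Set.range (f'.residueFieldMap x').hom) = ⊤ := by
  let M := X'.residueField x'
  let K0 : Subfield M := Subfield.closure (Set.range (g'.residueFieldMap x').hom ∪ Set.range (f'.residueFieldMap x').hom)
  let i : CommRingCat.of K0 ⟶ CommRingCat.of M := CommRingCat.ofHom K0.subtype
  let a : X.residueField (g' x') ⟶ CommRingCat.of K0 :=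
    CommRingCat.ofHom ((g'.residueFieldMap x').hom.codRestrict K0 fun z => Subfield.subset_closure (Or.inl ⟨z, rfl⟩))
  let b : S'.residueField (f' x') ⟶ CommRingCat.of K0 :=
    CommRingCat.ofHom ((f'.residueFieldMap x').hom.codRestrict K0 fun z => Subfield.subset_closure (Or.inr ⟨z, rfl⟩))
  have ha : Spec.map i ≫ Spec.map a ≫ X.fromSpecResidueField (g' x') = X'.fromSpecResidueField x' ≫ g' := by
    rw [← Spec.map_comp_assoc, ← Scheme.Hom.SpecMap_residueFieldMap_fromSpecResidueField]
    rfl
  have hb : Spec.map i ≫ Spec.map b ≫ S'.fromSpecResidueField (f' x') = X'.fromSpecResidueField x' ≫ f' := by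
    rw [← Spec.map_comp_assoc, ← Scheme.Hom.SpecMap_residueFieldMap_fromSpecResidueField]
    rfl
  have hw : (Spec.map a ≫ X.fromSpecResidueField (g' x')) ≫ f = (Spec.map b ≫ S'.fromSpecResidueField (f' x')) ≫ g := by
    refine eq_of_SpecMap_comp_eq i ?_
    rw [← Category.assoc, ha, ← Category.assoc, hb, Category.assoc, Category.assoc, hc.w]
  let m := hc.lift _ _ hw
  have hm : Spec.map i ≫ m = X'.fromSpecResidueField x' := by
    apply hc.hom_ext
    · rw [Category.assoc, hc.lift_fst, ha]
    · rw [Category.assoc, hc.lift_snd, hb]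
  haveI : Mono (Spec.map i ≫ m) := by rw [hm]; infer_instance
  haveI : Mono (Spec.map i) := mono_of_mono (Spec.map i) m
  haveI : Epi i := ⟨fun {R} u v huv => Spec.map_injective ((cancel_mono (Spec.map i)).1 (by
    rw [← Spec.map_comp, ← Spec.map_comp, huv]))⟩
  haveI : Algebra.IsEpi K0 M := CommRingCat.epi_iff_epi.1 (inferInstanceAs (Epi i))
  refine eq_top_iff.2 fun z _ => by_contra fun hz => ?_
  have h1 : (1 : M) ⊗ₜ[K0] z = z ⊗ₜ[K0] (1 : M) := (Algebra.isEpi_iff_forall_one_tmul_eq K0 M).1 inferInstance z
  have h01 : (1 : M) ∉ Submodule.span K0 {z} := by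
    rw [Submodule.mem_span_singleton]
    rintro ⟨c, hc1⟩
    apply hz
    have hc2 : (c : M) * z = 1 := hc1
    rw [eq_inv_of_mul_eq_one_right hc2]
    exact K0.inv_mem c.2
  obtain ⟨φ, hφ1, hφz⟩ := Submodule.exists_dual_map_eq_bot_of_notMem h01 inferInstance
  have h2 := congrArg (TensorProduct.lid K0 M ∘ TensorProduct.map φ LinearMap.id) h1
  simp only [Function.comp_apply, TensorProduct.map_tmul, LinearMap.id_apply, TensorProduct.lid_tmul] at h2
  rw [show φ z = 0 from (Submodule.mem_bot K0).1 (hφz ▸ Submodule.mem_map_of_mem (Submodule.mem_span_singleton_self z)),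
    zero_smul] at h2
  rcases smul_eq_zero.1 h2 with h3 | h3
  · exact hφ1 h3
  · exact hz (h3 ▸ K0.zero_mem)

/-- The residual transcendence degree does not increase under base change. -/
theorem trdeg_le_of_isPullback (hc : IsPullback g' f' f g) (x' : X') :
    @Algebra.trdeg (S'.residueField (f' x')) (X'.residueField x') _ _ (f'.residueFieldMap x').hom.toAlgebra ≤
      @Algebra.trdeg (S.residueField (f (g' x'))) (X.residueField (g' x')) _ _
        (f.residueFieldMap (g' x')).hom.toAlgebra := by
  letI := (f'.residueFieldMap x').hom.toAlgebra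
  letI := (f.residueFieldMap (g' x')).hom.toAlgebra
  have e : f (g' x') = g (f' x') := by rw [← Scheme.Hom.comp_apply, hc.w, Scheme.Hom.comp_apply]
  refine trdeg_le_of_generated ((S.residueFieldCongr e).hom ≫ g.residueFieldMap (f' x')).hom
    (g'.residueFieldMap x').hom ?_ (residueField_generated hc x')
  have h : f.residueFieldMap (g' x') ≫ g'.residueFieldMap x' =
      ((S.residueFieldCongr e).hom ≫ g.residueFieldMap (f' x')) ≫ f'.residueFieldMap x' := by
    rw [Category.assoc, ← Scheme.residueFieldMap_comp, ← Scheme.residueFieldMap_comp]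
    exact Scheme.Hom.residueFieldMap_congr hc.w x'
  exact congrArg CommRingCat.Hom.hom h

/-- Some point of a base change over given points has at least the residual transcendence degree. -/
theorem exists_trdeg_ge (hc : IsPullback g' f' f g) (x : X) (y : S') (e : f x = g y) :
    ∃ x' : X', g' x' = x ∧ f' x' = y ∧
      @Algebra.trdeg (S.residueField (f x)) (X.residueField x) _ _ (f.residueFieldMap x).hom.toAlgebra ≤
        @Algebra.trdeg (S'.residueField (f' x')) (X'.residueField x') _ _ (f'.residueFieldMap x').hom.toAlgebra := by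
  let b : S.residueField (f x) ⟶ S'.residueField y := (S.residueFieldCongr e).hom ≫ g.residueFieldMap y
  letI := (f.residueFieldMap x).hom.toAlgebra
  letI := b.hom.toAlgebra
  obtain ⟨F, _, algF, i, hi, s, hs, hind⟩ :=
    exists_field_trdeg_le (K := S.residueField (f x)) (L := X.residueField x) (E := S'.residueField y)
  let p1 := Spec.map (CommRingCat.ofHom i) ≫ X.fromSpecResidueField x
  let p2 := Spec.map (CommRingCat.ofHom (algebraMap (S'.residueField y) F)) ≫ S'.fromSpecResidueField y
  have hw : p1 ≫ f = p2 ≫ g := by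
    rw [Category.assoc, Category.assoc, ← Scheme.Hom.SpecMap_residueFieldMap_fromSpecResidueField,
      ← Scheme.Hom.SpecMap_residueFieldMap_fromSpecResidueField, ← Spec.map_comp_assoc, ← Spec.map_comp_assoc,
      show f.residueFieldMap x ≫ CommRingCat.ofHom i = b ≫ CommRingCat.ofHom (algebraMap (S'.residueField y) F) from
        CommRingCat.hom_ext hi, Category.assoc, Spec.map_comp (S.residueFieldCongr e).hom, Category.assoc,
      Scheme.residueFieldCongr_fromSpecResidueField]
  obtain ⟨⟨x', φ⟩, hm⟩ := (Scheme.SpecToEquivOfField F X').symm.surjective (hc.lift p1 p2 hw)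
  have h1 : (⟨g' x', g'.residueFieldMap x' ≫ φ⟩ : Σ z, X.residueField z ⟶ CommRingCat.of F) = ⟨x, CommRingCat.ofHom i⟩ := by
    apply (Scheme.SpecToEquivOfField F X).symm.injective
    simp only [Scheme.SpecToEquivOfField_symm_apply] at hm ⊢
    rw [Spec.map_comp, Category.assoc, Scheme.Hom.SpecMap_residueFieldMap_fromSpecResidueField, ← Category.assoc, hm,
      hc.lift_fst]
  have h2 : (⟨f' x', f'.residueFieldMap x' ≫ φ⟩ : Σ z, S'.residueField z ⟶ CommRingCat.of F) =
      ⟨y, CommRingCat.ofHom (algebraMap (S'.residueField y) F)⟩ := by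
    apply (Scheme.SpecToEquivOfField F S').symm.injective
    simp only [Scheme.SpecToEquivOfField_symm_apply] at hm ⊢
    rw [Spec.map_comp, Category.assoc, Scheme.Hom.SpecMap_residueFieldMap_fromSpecResidueField, ← Category.assoc, hm,
      hc.lift_snd]
  obtain ⟨hx, hφ1⟩ := Sigma.mk.inj_iff.1 h1
  obtain ⟨hy, hφ2⟩ := Sigma.mk.inj_iff.1 h2
  subst hx hy
  refine ⟨x', rfl, rfl, hs.trans_le ?_⟩
  letI := (f'.residueFieldMap x').hom.toAlgebra
  have hφ : ∀ z, φ.hom ((g'.residueFieldMap x').hom z) = i z := fun z => congr($(eq_of_heq hφ1).hom z)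
  let φA : X'.residueField x' →ₐ[S'.residueField (f' x')] F :=
    { φ.hom with commutes' := fun z => congr($(eq_of_heq hφ2).hom z) }
  refine AlgebraicIndependent.cardinalMk_le_trdeg (x := fun z : s => (g'.residueFieldMap x').hom z) ?_
  refine AlgebraicIndependent.of_comp φA ?_
  have h3 : (φA ∘ fun z : s => (g'.residueFieldMap x').hom z) = fun z : s => i z := funext fun z => hφ z
  rw [h3]
  exact hind

end Groth.Agent.FlatFunLib
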