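import Mathlib
import Groth.Agent.FittLib.Comap
import Groth.Agent.RG.Pure.BaseChange
import Groth.Agent.RG.Pure.RelAssPts
import Groth.Agent.RG.AssPts
import Groth.Agent.S1201
import Groth.Agent.FlatFunLib.Trdeg
import Groth.Agent.FlatDim.DimTrdeg
import Groth.Agent.InjFibre.Stalk
import Groth.Agent.FlatModBC.Basic
import Groth.Agent.FlatFunLib.GenPts

/-!
Non-flat points of a base change specialise from ones over relative associated points.
-/

set_option autoImplicit false
set_option linter.style.haveILetI false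
set_option backward.isDefEq.respectTransparency false

universe u

open CategoryTheory CategoryTheory.Limits AlgebraicGeometry Opposite TensorProduct Groth.Agent.QC

namespace Groth.Agent.FlatFunLib

variable {X S X' S' : Scheme.{u}}

/-- Sections of a pullback over an affine open. -/
theorem exists_sectionsPullbackEquiv (f : X' ⟶ X) {F : X.Modules} (hF : Coh.IsQCoh F) {U : X.Opens}
    (hU : IsAffineOpen U) {V : X'.Opens} (hV : IsAffineOpen V) (h : V ≤ f ⁻¹ᵁ U) :
    letI : Algebra Γ(X, U) Γ(X', V) := (f.appLE U V h).hom.toAlgebra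
    Nonempty (Γ(X', V) ⊗[Γ(X, U)] Γ(F, U) ≃ₗ[Γ(X', V)] Γ((Scheme.Modules.pullback f).obj F, V)) := by
  letI : Algebra Γ(X, U) Γ(X', V) := (f.appLE U V h).hom.toAlgebra
  haveI : F.IsQuasicoherent := hF
  let G := (modulesSpecToSheaf.obj (F.restrict hU.fromSpec)).presheaf.obj (op ⊤)
  let e : G ≅ ModuleCat.of Γ(X, U) Γ(F, U) := (topEquiv hU F).toModuleIso
  let P := (Scheme.Modules.pullback f).obj F
  exact ⟨((ModuleCat.extendScalars.{u, u, u} (f.appLE U V h).hom).mapIso e).symm.toLinearEquiv.trans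
      ((tilde.toTildeΓNatIso.app ((ModuleCat.extendScalars.{u, u, u} (f.appLE U V h).hom).obj G) ≪≫
        moduleSpecΓFunctor.mapIso (pullbackAffineIso f hU hV h).symm).toLinearEquiv.trans
        (topEquiv hV P))⟩

section Algebra

open Groth.Agent.RG Groth.Agent.RG.Pure

/-- Associated points of fibres map to associated points under base change. -/
theorem mem_assPts_of_baseChange {A B C B' M M' : Type u} [CommRing A] [CommRing B] [CommRing C] [CommRing B']
    [Algebra A B] [Algebra A C] [Algebra B B'] [Algebra C B'] [Algebra A B'] [IsScalarTower A B B']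
    [IsScalarTower A C B'] [Algebra.IsPushout A C B B'] [AddCommGroup M] [Module B M] [Module A M]
    [IsScalarTower A B M] [AddCommGroup M'] [Module B' M'] [Module C M'] [IsScalarTower C B' M']
    (l : B' ⊗[B] M ≃ₗ[B'] M') (p' : Ideal C) [p'.IsPrime] (σ : Ideal B') (hσ : σ ∈ assPts C B' M' p') :
    σ.comap (algebraMap B B') ∈ assPts A B M (p'.comap (algebraMap A C)) := by
  let p := p'.comap (algebraMap A C)
  haveI : p'.LiesOver p := ⟨rfl⟩
  let K := p'.ResidueField
  letI : Algebra p.ResidueField K := (Ideal.ResidueField.map p p' (algebraMap A C) rfl).toAlgebra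
  haveI : IsScalarTower A p.ResidueField K := IsScalarTower.of_algebraMap_eq fun a => by
    show _ = Ideal.ResidueField.map p p' (algebraMap A C) rfl _
    rw [Ideal.ResidueField.map_algebraMap, ← IsScalarTower.algebraMap_apply]
  haveI hσp := (isPrime_of_mem_assPts _ _ _ hσ).1
  haveI : SMulCommClass B C B' := ⟨fun b c x => by
    rw [Algebra.smul_def b, Algebra.smul_def c, Algebra.smul_def c, Algebra.smul_def b]; ring⟩
  let e' : C ⊗[A] M ≃ₗ[C] M' :=
    (Algebra.IsPushout.cancelBaseChange A C B B' M).symm.trans (l.restrictScalars C)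
  let e : K ⊗[C] M' ≃ₗ[K] K ⊗[A] M :=
    (AlgebraTensorModule.congr (LinearEquiv.refl K K) e'.symm).trans (AlgebraTensorModule.cancelBaseChange A C K K M)
  refine mem_assPts_of_assAt (K := K) (Ideal.IsPrime.comap _)
    ((assAt_of_mem_assPts hσ).transfer (algebraMap B B') e fun b y => ?_)
  induction y using TensorProduct.induction_on with
  | zero => simp
  | tmul k w =>
    obtain ⟨v, rfl⟩ := e'.surjective w
    induction v using TensorProduct.induction_on with
    | zero => simp
    | tmul c m =>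
      have h1 : algebraMap B B' b • e' (c ⊗ₜ[A] m) = e' (c ⊗ₜ[A] (b • m)) := by
        simp only [e', LinearEquiv.trans_apply, LinearEquiv.restrictScalars_apply,
          Algebra.IsPushout.cancelBaseChange_symm_tmul]
        rw [← map_smul, TensorProduct.smul_tmul', ← TensorProduct.smul_tmul, smul_eq_mul, Algebra.smul_def]
      simp only [e, LinearEquiv.trans_apply, act_tmul, AlgebraTensorModule.congr_tmul, LinearEquiv.refl_apply, h1,
        LinearEquiv.symm_apply_apply, AlgebraTensorModule.cancelBaseChange_tmul, map_smul]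
    | add a b ha hb => simp only [map_add, tmul_add, ha, hb]
  | add a b ha hb => simp only [map_add, ha, hb]

end Algebra

/-- A non-flat point of a base change specialises from a non-flat point of the same fibre over a relative
associated point. -/
theorem exists_nonflat_over_relAss {f : X ⟶ S} [LocallyOfFiniteType f] {f' : X' ⟶ S'} {g' : X' ⟶ X} {g : S' ⟶ S}
    (hc : IsPullback g' f' f g) (F : X.Modules) (hq : Coh.IsQCoh F) (hft : CohB1.IsFT F) (z : X')
    (hz : ¬ FlatMod.IsFlatOverAt f' ((Scheme.Modules.pullback g').obj F) z) :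
    ∃ z₁ : X', z₁ ⤳ z ∧ f' z₁ = f' z ∧ ¬ FlatMod.IsFlatOverAt f' ((Scheme.Modules.pullback g').obj F) z₁ ∧
      g' z₁ ∈ MoreMor.relAss f F := by
  haveI : LocallyOfFiniteType f' := MorphismProperty.of_isPullback hc ‹LocallyOfFiniteType f›
  obtain ⟨V, hV, hxV, -⟩ := exists_isAffineOpen_mem_and_subset (X := S) (x := f (g' z)) (U := ⊤) trivial
  obtain ⟨W, hW, hxW, e⟩ := exists_isAffineOpen_mem_and_subset (X := X) (x := g' z) (U := f ⁻¹ᵁ V) hxV
  obtain ⟨O, hO, hxO, eO⟩ := exists_isAffineOpen_mem_and_subset (X := S') (x := f' z) (U := g ⁻¹ᵁ V) (by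
    show g (f' z) ∈ V
    rw [← Scheme.Hom.comp_apply, ← hc.w, Scheme.Hom.comp_apply]
    exact hxV)
  let W' : X'.Opens := g' ⁻¹ᵁ W ⊓ f' ⁻¹ᵁ O
  have hW' : IsAffineOpen W' := by
    haveI : IsAffine _ := hV
    haveI : IsAffine _ := hW
    haveI : IsAffine _ := hO
    exact .of_isIso (Scheme.Hom.isPullback_resLE hc eO e (rfl : W' = _)).isoPullback.hom
  have hP := (isIso_pushoutSection_iff hc eO e (rfl : W' = _)).1
    (isIso_pushoutSection_of_isAffineOpen hc eO e rfl hV hO hW)
  let P := (Scheme.Modules.pullback g').obj F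
  have hqP : Coh.IsQCoh P := QC.isQCoh_pullback g' hq
  let A := Γ(S, V)
  let B := Γ(X, W)
  let C := Γ(S', O)
  let B' := Γ(X', W')
  have hxW' : z ∈ W' := ⟨hxW, hxO⟩
  letI : Algebra A B := (f.appLE V W e).hom.toAlgebra
  letI : Algebra A C := (g.appLE V O eO).hom.toAlgebra
  letI : Algebra B B' := (g'.appLE W W' inf_le_left).hom.toAlgebra
  letI : Algebra C B' := (f'.appLE O W' inf_le_right).hom.toAlgebra
  letI : Algebra A B' := ((algebraMap B B').comp (algebraMap A B)).toAlgebra
  haveI : IsScalarTower A B B' := IsScalarTower.of_algebraMap_eq fun _ => rfl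
  haveI : IsScalarTower A C B' := IsScalarTower.of_algebraMap_eq fun a => congr($(hP.w).hom a)
  haveI : Algebra.IsPushout A B C B' := CommRingCat.isPushout_iff_isPushout.1 hP
  haveI : Algebra.IsPushout A C B B' := Algebra.IsPushout.symm inferInstance
  haveI : Algebra.FiniteType C B' := f'.finiteType_appLE hO hW' inf_le_right
  letI : Module A Γ(F, W) := Module.compHom Γ(F, W) (f.appLE V W e).hom
  haveI : IsScalarTower A B Γ(F, W) := IsScalarTower.of_algebraMap_smul fun _ _ => rfl
  letI : Module C Γ(P, W') := Module.compHom Γ(P, W') (f'.appLE O W' inf_le_right).hom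
  haveI : IsScalarTower C B' Γ(P, W') := IsScalarTower.of_algebraMap_smul fun _ _ => rfl
  haveI : Module.Finite B' Γ(P, W') := QC.finite_sections hW' (hM := hqP) (ModDesc.isFT_pullback _ hq hft)
  obtain ⟨l⟩ := exists_sectionsPullbackEquiv g' hq hW hW' inf_le_left
  let q := (hW'.primeIdealOf ⟨z, hxW'⟩).asIdeal
  let p' := q.comap (algebraMap C B')
  haveI : q.LiesOver p' := ⟨rfl⟩
  have hbad : ¬ FlatCA.FlatAt C q Γ(P, W') := fun h =>
    hz ((InjFibre.isFlatOverAt_iff f' P hqP hO hW' inf_le_right z hxW').2 h)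
  rw [Groth.Agent.S1201.result (R := C) (S := B') ↑Γ(P, W') p' q] at hbad
  push Not at hbad
  obtain ⟨q', hq'p, hle, hq'over, hass, hnf⟩ := hbad
  haveI := hq'p
  have hass' : q' ∈ RG.assPts C B' Γ(P, W') p' := (RG.mem_assPts_iff C B' p' q' hq'over.over.symm).2 hass
  obtain ⟨hz₁, hz₁'⟩ := InjFibre.primeIdealOf_fromSpec hW' ⟨q', hq'p⟩
  let z₁ : X' := hW'.fromSpec ⟨q', hq'p⟩
  have hzq : (hW'.primeIdealOf ⟨z₁, hz₁⟩).asIdeal = q' := congrArg PrimeSpectrum.asIdeal hz₁'
  have hspec : z₁ ⤳ z := by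
    have := ((PrimeSpectrum.le_iff_specializes ⟨q', hq'p⟩ (hW'.primeIdealOf ⟨z, hxW'⟩)).1 hle).map hW'.fromSpec.continuous
    rwa [hW'.fromSpec_primeIdealOf] at this
  have hfz : f' z₁ = f' z := by
    have hcomap : ∀ w (hw : w ∈ W'), (hO.primeIdealOf ⟨f' w, hw.2⟩).asIdeal =
        (hW'.primeIdealOf ⟨w, hw⟩).asIdeal.comap (algebraMap C B') := fun w hw =>
      (congrArg PrimeSpectrum.asIdeal (IsAffineOpen.comap_primeIdealOf_appLE O hO W' hW' inf_le_right hw)).symm
    have h1 : hO.primeIdealOf ⟨f' z₁, hz₁.2⟩ = hO.primeIdealOf ⟨f' z, hxW'.2⟩ := by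
      refine PrimeSpectrum.ext ?_
      rw [hcomap z₁ hz₁, hcomap z hxW', hzq]
      exact hq'over.over.symm
    have := congrArg hO.fromSpec h1
    rwa [hO.fromSpec_primeIdealOf, hO.fromSpec_primeIdealOf] at this
  refine ⟨z₁, hspec, hfz, fun hfl => hnf ?_, ?_⟩
  · have h := (InjFibre.isFlatOverAt_iff f' P hqP hO hW' inf_le_right z₁ hz₁).1 hfl
    have aux : ∀ (τ : Ideal B') (_ : τ.IsPrime), τ = q' →
        Module.Flat C (LocalizedModule τ.primeCompl Γ(P, W')) → FlatCA.FlatAt C q' Γ(P, W') := by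
      intro τ _ e hτ
      subst e
      exact hτ
    exact aux _ inferInstance hzq h
  · refine RG.Pure.mem_relAss_of_assPts f F hq hV hW e (g' z₁) hz₁.1 (p'.comap (algebraMap A C)) ?_
    have h1 := mem_assPts_of_baseChange (A := A) (B := B) l p' q' hass'
    rw [← hzq] at h1
    rwa [show (hW.primeIdealOf ⟨g' z₁, hz₁.1⟩).asIdeal = (hW'.primeIdealOf ⟨z₁, hz₁⟩).asIdeal.comap (algebraMap B B') from
      (congrArg PrimeSpectrum.asIdeal (IsAffineOpen.comap_primeIdealOf_appLE W hW W' hW' inf_le_left hz₁)).symm]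

/-- The residual transcendence degree over a fixed point does not increase under specialisation. -/
theorem resTrdeg_le_of_specializes (q : X ⟶ S) [LocallyOfFiniteType q] {z z₁ : X} (hs : z₁ ⤳ z) (e : q z₁ = q z) :
    Dual3.resTrdeg q z ≤ Dual3.resTrdeg q z₁ := by
  let ι := q.fiberι (q z)
  let π := q.fiberToSpecResidueField (q z)
  have hc : IsPullback ι π q (S.fromSpecResidueField (q z)) := IsPullback.of_hasPullback _ _
  haveI : LocallyOfFiniteType π := MorphismProperty.of_isPullback hc ‹LocallyOfFiniteType q›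
  have key : ∀ w, Dual3.resTrdeg π w = Dual3.resTrdeg q (ι w) := by
    intro w
    refine le_antisymm (trdeg_le_of_isPullback hc w) ?_
    obtain ⟨w', hw', -, hle⟩ := exists_trdeg_ge hc (ι w) (π w)
      (by rw [← Scheme.Hom.comp_apply, hc.w, Scheme.Hom.comp_apply])
    obtain rfl : w' = w := ι.isEmbedding.injective hw'
    exact hle
  obtain ⟨y, hy⟩ : z ∈ Set.range ι := (q.range_fiberι (q z)).ge rfl
  obtain ⟨y₁, hy₁⟩ : z₁ ∈ Set.range ι := (q.range_fiberι _).ge e
  rw [← hy, ← hy₁] at hs
  rw [← congrArg (Dual3.resTrdeg q) hy, ← congrArg (Dual3.resTrdeg q) hy₁, ← key, ← key]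
  obtain ⟨-, δ, -, hδ, -⟩ := SpRelDim.fibreDimAt_eq_add_resTrdeg π y
  obtain ⟨-, δ₁, -, hδ₁, -⟩ := SpRelDim.fibreDimAt_eq_add_resTrdeg π y₁
  obtain ⟨c, hc1, hc2⟩ := (FlatDim.chains_resTrdeg π y hδ).2
  have hsub : closure ({y} : Set ↥(q.fiber _)) ⊆ closure {y₁} :=
    closure_minimal (Set.singleton_subset_iff.2 (specializes_iff_mem_closure.1 (ι.isEmbedding.isInducing.specializes_iff.1 hs)))
      isClosed_closure
  have hle := (FlatDim.chains_resTrdeg π y₁ hδ₁).1 δ c
    (fun i => ⟨hsub (hc1 i).1, Subsingleton.elim _ _⟩) hc2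
  rw [hδ, hδ₁]
  exact Nat.cast_le.2 hle

end Groth.Agent.FlatFunLib
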