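import Mathlib
import Groth.Agent.FlatFunLib.AssPullback
import Groth.Agent.RG.WeakAssTensor
import Groth.Agent.RG.Pure.DescentFlat

/-!
Relative associated points and base change.
-/

set_option autoImplicit false
set_option linter.style.haveILetI false
set_option backward.isDefEq.respectTransparency false

universe u

open CategoryTheory CategoryTheory.Limits AlgebraicGeometry Opposite TensorProduct IsLocalRing
open Groth.Agent.RG Groth.Agent.RG.Pure

namespace Groth.Agent.FlatFunLib

/-- Associated primes of the localised fibre module are associated points. -/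
theorem mem_assPts_of_isAssociatedPrime {A S N B M : Type u} [CommRing A] [CommRing S] [Algebra A S]
    [Algebra.FiniteType A S] [AddCommGroup N] [Module S N] [Module A N] [IsScalarTower A S N] [Module.Finite S N]
    {p : Ideal A} [p.IsPrime] {q : Ideal S} [q.IsPrime] (hqp : q.comap (algebraMap A S) = p) [CommRing B]
    [IsLocalRing B] [Algebra S B] [IsLocalization.AtPrime B q] [AddCommGroup M] [Module S M] [Module B M]
    [IsScalarTower S B M] (g : N →ₗ[S] M) [IsLocalizedModule q.primeCompl g] (J : Ideal B)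
    (hJ : J = (p.map (algebraMap A S)).map (algebraMap S B))
    (h : IsAssociatedPrime (maximalIdeal B) (M ⧸ (J • ⊤ : Submodule B M))) : q ∈ assPts A S N p := by
  letI : Module A M := Module.compHom M (algebraMap A S)
  haveI : IsScalarTower A S M := IsScalarTower.of_algebraMap_smul fun _ _ => rfl
  let e : LocalizedModule q.primeCompl N ≃ₗ[A] M := (IsLocalizedModule.iso q.primeCompl g).restrictScalars A
  have hmem : ∀ x, x ∈ p • (⊤ : Submodule A (LocalizedModule q.primeCompl N)) ↔ e x ∈ (J • ⊤ : Submodule B M) := by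
    intro x
    have h1 : Submodule.map e.toLinearMap (p • ⊤) = p • (⊤ : Submodule A M) := by
      rw [Submodule.map_smul'', Submodule.map_top, LinearMap.range_eq_top.2 e.surjective]
    have h2 : e x ∈ p • (⊤ : Submodule A M) ↔ e x ∈ (J • ⊤ : Submodule B M) := by
      have h3 : (p • (⊤ : Submodule A M)) = ((p.map (algebraMap A S)) • (⊤ : Submodule S M)).restrictScalars A := by
        rw [Ideal.smul_restrictScalars, Submodule.restrictScalars_top]
      have h4 : ((p.map (algebraMap A S)) • (⊤ : Submodule S M)) = (J • (⊤ : Submodule B M)).restrictScalars S := by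
        rw [hJ, Ideal.smul_restrictScalars, Submodule.restrictScalars_top]
      rw [h3, Submodule.restrictScalars_mem, h4, Submodule.restrictScalars_mem]
    rw [← h2, ← h1]
    exact ⟨fun hx => Submodule.mem_map_of_mem hx, fun ⟨y, hy, he⟩ => e.injective he ▸ hy⟩
  obtain ⟨hmp, v, hv⟩ := h
  obtain ⟨w, rfl⟩ := Submodule.Quotient.mk_surjective _ v
  refine (WAss.mem_assPts_iff_elem p q hqp).2 ⟨e.symm w, fun hx => ?_, fun s hs => ?_⟩
  · rw [hmem, LinearEquiv.apply_symm_apply] at hx
    refine hmp.ne_top ((Ideal.eq_top_iff_one _).2 (hv.symm ▸ Ideal.le_radical ?_))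
    rw [Submodule.mem_colon_singleton, one_smul, Submodule.mem_bot, Submodule.Quotient.mk_eq_zero]
    exact hx
  · have hsm : algebraMap S B s ∈ maximalIdeal B :=
      (IsLocalization.AtPrime.to_map_mem_maximal_iff B q s).2 hs
    rw [hv] at hsm
    obtain ⟨k, hk⟩ := hsm
    refine ⟨k, (hmem _).2 ?_⟩
    rw [Submodule.mem_colon_singleton, Submodule.mem_bot, ← map_pow, algebraMap_smul, ← Submodule.Quotient.mk_smul,
      Submodule.Quotient.mk_eq_zero] at hk
    rwa [show e (s ^ k • e.symm w) = s ^ k • w from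
      ((IsLocalizedModule.iso q.primeCompl g).map_smul _ _).trans (congrArg (s ^ k • ·) (e.apply_symm_apply w))]

/-- A relative associated point is an associated point of its fibre in every chart. -/
theorem mem_assPts_of_mem_relAss {X Y : Scheme.{u}} (f : X ⟶ Y) [LocallyOfFiniteType f] (F : X.Modules)
    (hq : Coh.IsQCoh F) (hft : CohB1.IsFT F) {V : Y.Opens} (hV : IsAffineOpen V) {W : X.Opens} (hW : IsAffineOpen W)
    (e : W ≤ f ⁻¹ᵁ V) (x : X) (hx : x ∈ W) (h : x ∈ MoreMor.relAss f F) :
    letI : Algebra Γ(Y, V) Γ(X, W) := (f.appLE V W e).hom.toAlgebra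
    letI : Module Γ(Y, V) Γ(F, W) := Module.compHom Γ(F, W) (f.appLE V W e).hom
    haveI : IsScalarTower Γ(Y, V) Γ(X, W) Γ(F, W) := IsScalarTower.of_algebraMap_smul fun _ _ => rfl
    (hW.primeIdealOf ⟨x, hx⟩).asIdeal ∈ assPts Γ(Y, V) Γ(X, W) Γ(F, W) (hV.primeIdealOf ⟨f x, e hx⟩).asIdeal := by
  letI : Algebra Γ(Y, V) Γ(X, W) := (f.appLE V W e).hom.toAlgebra
  letI : Module Γ(Y, V) Γ(F, W) := Module.compHom Γ(F, W) (f.appLE V W e).hom
  haveI : IsScalarTower Γ(Y, V) Γ(X, W) Γ(F, W) := IsScalarTower.of_algebraMap_smul fun _ _ => rfl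
  haveI : Algebra.FiniteType Γ(Y, V) Γ(X, W) := f.finiteType_appLE hV hW e
  haveI := QC.finite_sections hW (hM := hq) hft
  letI := TopCat.Presheaf.algebra_section_stalk Y.presheaf (⟨f x, e hx⟩ : V)
  letI := TopCat.Presheaf.algebra_section_stalk X.presheaf (⟨x, hx⟩ : W)
  let B := X.presheaf.stalk x
  let N := F.presheaf.stalk x
  haveI : IsLocalization.AtPrime B (hW.primeIdealOf ⟨x, hx⟩).asIdeal := hW.isLocalization_stalk ⟨x, hx⟩
  haveI : IsLocalization.AtPrime (Y.presheaf.stalk (f x)) (hV.primeIdealOf ⟨f x, e hx⟩).asIdeal :=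
    hV.isLocalization_stalk ⟨f x, e hx⟩
  letI : Module Γ(X, W) N := Module.compHom N (X.presheaf.germ W x hx).hom
  haveI : IsScalarTower Γ(X, W) B N := IsScalarTower.of_algebraMap_smul fun _ _ => rfl
  obtain ⟨g, hg⟩ := LocFree.exists_stalkMap hW hq hx
  haveI := hg
  have hcomm : (f.stalkMap x).hom.comp (algebraMap Γ(Y, V) (Y.presheaf.stalk (f x))) =
      (algebraMap Γ(X, W) B).comp (algebraMap Γ(Y, V) Γ(X, W)) :=
    RingHom.ext fun a => FibCrit.germ_comm f V W e x hx a
  refine mem_assPts_of_isAssociatedPrime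
    (congrArg PrimeSpectrum.asIdeal (IsAffineOpen.comap_primeIdealOf_appLE V hV W hW e hx)) g _ ?_ h
  rw [Ideal.map_map, ← hcomm, ← Ideal.map_map]
  congr 1
  exact IsLocalization.AtPrime.map_eq_maximalIdeal _ _ |>.symm

/-- Associated points of fibres lift along base change, for a general pushout. -/
theorem exists_assPts_over {A B C B' M M' : Type u} [CommRing A] [CommRing B] [CommRing C] [CommRing B']
    [Algebra A B] [Algebra A C] [Algebra B B'] [Algebra C B'] [Algebra A B'] [IsScalarTower A B B']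
    [IsScalarTower A C B'] [Algebra.IsPushout A C B B'] [Algebra.FiniteType C B'] [AddCommGroup M] [Module B M]
    [Module A M] [IsScalarTower A B M] [AddCommGroup M'] [Module B' M'] [Module C M'] [IsScalarTower C B' M']
    (l : B' ⊗[B] M ≃ₗ[B'] M') (p : Ideal A) [p.IsPrime] (p' : Ideal C) [p'.IsPrime] (hp : p'.comap (algebraMap A C) = p)
    (σ : Ideal B) (hσ : σ ∈ assPts A B M p) :
    ∃ σ' ∈ assPts C B' M' p', σ'.comap (algebraMap B B') = σ := by
  let K := p'.ResidueField
  letI : Algebra p.ResidueField K := (Ideal.ResidueField.map p p' (algebraMap A C) hp.symm).toAlgebra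
  haveI : IsScalarTower A p.ResidueField K := IsScalarTower.of_algebraMap_eq fun a => by
    show _ = Ideal.ResidueField.map p p' (algebraMap A C) hp.symm _
    rw [Ideal.ResidueField.map_algebraMap, ← IsScalarTower.algebraMap_apply]
  haveI := (isPrime_of_mem_assPts _ _ _ hσ).1
  haveI : SMulCommClass B C B' := ⟨fun b c x => by
    rw [Algebra.smul_def b, Algebra.smul_def c, Algebra.smul_def c, Algebra.smul_def b]; ring⟩
  let e' : C ⊗[A] M ≃ₗ[C] M' :=
    (Algebra.IsPushout.cancelBaseChange A C B B' M).symm.trans (l.restrictScalars C)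
  let e : K ⊗[C] M' ≃ₗ[K] K ⊗[A] M :=
    (AlgebraTensorModule.congr (LinearEquiv.refl K K) e'.symm).trans (AlgebraTensorModule.cancelBaseChange A C K K M)
  have hnat : ∀ (b : B) y, e (act C K (algebraMap B B' b) y) = act A K b (e y) := by
    intro b y
    induction y using TensorProduct.induction_on with
    | zero => simp
    | tmul k w =>
      obtain ⟨v, rfl⟩ := e'.surjective w
      induction v using TensorProduct.induction_on with
      | zero => simp
      | tmul c m =>
        have h1 : algebraMap B B' b • e' (c ⊗ₜ[A] m) = e' (c ⊗ₜ[A] (b • m)) := by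
          simp only [e', LinearEquiv.trans_apply, LinearEquiv.restrictScalars_apply,
            Algebra.IsPushout.cancelBaseChange_symm_tmul]
          rw [← map_smul, TensorProduct.smul_tmul', ← TensorProduct.smul_tmul, smul_eq_mul, Algebra.smul_def]
        simp only [e, LinearEquiv.trans_apply, act_tmul, AlgebraTensorModule.congr_tmul, LinearEquiv.refl_apply, h1,
          LinearEquiv.symm_apply_apply, AlgebraTensorModule.cancelBaseChange_tmul, map_smul]
      | add a b ha hb => simp only [map_add, tmul_add, ha, hb]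
    | add a b ha hb => simp only [map_add, ha, hb]
  obtain ⟨y, hy⟩ := assAt_of_mem_assPts hσ
  refine exists_assPts_of_vector p' (e.symm (AlgebraTensorModule.cancelBaseChange A p.ResidueField K K M ((1 : K) ⊗ₜ y)))
    (algebraMap B B') σ fun x => ?_
  rw [hy]
  refine exists_congr fun k => ?_
  rw [← e.map_eq_zero_iff (x := act C _ _ _), hnat, LinearEquiv.apply_symm_apply, act_cancel_eq_zero_iff]

variable {X S X' S' : Scheme.{u}}

/-- The image of a relative associated point of a base change is a relative associated point. -/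
theorem map_mem_relAss {f : X ⟶ S} [LocallyOfFiniteType f] {f' : X' ⟶ S'} {g' : X' ⟶ X} {g : S' ⟶ S}
    (hc : IsPullback g' f' f g) (F : X.Modules) (hq : Coh.IsQCoh F) (hft : CohB1.IsFT F) (z : X')
    (hz : z ∈ MoreMor.relAss f' ((Scheme.Modules.pullback g').obj F)) : g' z ∈ MoreMor.relAss f F := by
  haveI : LocallyOfFiniteType f' := MorphismProperty.of_isPullback hc ‹LocallyOfFiniteType f›
  obtain ⟨V, hV, hxV, -⟩ := exists_isAffineOpen_mem_and_subset (X := S) (x := f (g' z)) (U := ⊤) trivial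
  obtain ⟨W, hW, hxW, e⟩ := exists_isAffineOpen_mem_and_subset (X := X) (x := g' z) (U := f ⁻¹ᵁ V) hxV
  obtain ⟨O, hO, hxO, eO⟩ := exists_isAffineOpen_mem_and_subset (X := S') (x := f' z) (U := g ⁻¹ᵁ V) (by
    show g (f' z) ∈ V
    rw [← Scheme.Hom.comp_apply, ← hc.w, Scheme.Hom.comp_apply]
    exact hxV)
  let W' : X'.Opens := g' ⁻¹ᵁ W ⊓ f' ⁻¹ᵁ O
  have hW' : IsAffineOpen W' := by
    haveI : IsAffine _ := hV
    haveI : IsAffine _ := hW
    haveI : IsAffine _ := hO
    exact .of_isIso (Scheme.Hom.isPullback_resLE hc eO e (rfl : W' = _)).isoPullback.hom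
  have hP := (isIso_pushoutSection_iff hc eO e (rfl : W' = _)).1
    (isIso_pushoutSection_of_isAffineOpen hc eO e rfl hV hO hW)
  let P := (Scheme.Modules.pullback g').obj F
  have hqP : Coh.IsQCoh P := QC.isQCoh_pullback g' hq
  let A := Γ(S, V)
  let B := Γ(X, W)
  let C := Γ(S', O)
  let B' := Γ(X', W')
  have hxW' : z ∈ W' := ⟨hxW, hxO⟩
  letI : Algebra A B := (f.appLE V W e).hom.toAlgebra
  letI : Algebra A C := (g.appLE V O eO).hom.toAlgebra
  letI : Algebra B B' := (g'.appLE W W' inf_le_left).hom.toAlgebra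
  letI : Algebra C B' := (f'.appLE O W' inf_le_right).hom.toAlgebra
  letI : Algebra A B' := ((algebraMap B B').comp (algebraMap A B)).toAlgebra
  haveI : IsScalarTower A B B' := IsScalarTower.of_algebraMap_eq fun _ => rfl
  haveI : IsScalarTower A C B' := IsScalarTower.of_algebraMap_eq fun a => congr($(hP.w).hom a)
  haveI : Algebra.IsPushout A B C B' := CommRingCat.isPushout_iff_isPushout.1 hP
  haveI : Algebra.IsPushout A C B B' := Algebra.IsPushout.symm inferInstance
  letI : Module A Γ(F, W) := Module.compHom Γ(F, W) (f.appLE V W e).hom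
  haveI : IsScalarTower A B Γ(F, W) := IsScalarTower.of_algebraMap_smul fun _ _ => rfl
  letI : Module C Γ(P, W') := Module.compHom Γ(P, W') (f'.appLE O W' inf_le_right).hom
  haveI : IsScalarTower C B' Γ(P, W') := IsScalarTower.of_algebraMap_smul fun _ _ => rfl
  obtain ⟨l⟩ := exists_sectionsPullbackEquiv g' hq hW hW' inf_le_left
  have h1 := mem_assPts_of_baseChange (A := A) (B := B) l _ _
    (mem_assPts_of_mem_relAss f' P hqP (ModDesc.isFT_pullback _ hq hft) hO hW' inf_le_right z hxW' hz)
  refine RG.Pure.mem_relAss_of_assPts f F hq hV hW e (g' z) hxW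
    ((hO.primeIdealOf ⟨f' z, hxO⟩).asIdeal.comap (algebraMap A C)) ?_
  rwa [show (hW.primeIdealOf ⟨g' z, hxW⟩).asIdeal = (hW'.primeIdealOf ⟨z, hxW'⟩).asIdeal.comap (algebraMap B B') from
    (congrArg PrimeSpectrum.asIdeal (IsAffineOpen.comap_primeIdealOf_appLE W hW W' hW' inf_le_left hxW')).symm]

/-- Relative associated points lift along base change. -/
theorem exists_relAss_over {f : X ⟶ S} [LocallyOfFiniteType f] {f' : X' ⟶ S'} {g' : X' ⟶ X} {g : S' ⟶ S}
    (hc : IsPullback g' f' f g) (F : X.Modules) (hq : Coh.IsQCoh F) (hft : CohB1.IsFT F) (x : X) (s' : S')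
    (hs : f x = g s') (hx : x ∈ MoreMor.relAss f F) :
    ∃ z : X', g' z = x ∧ f' z = s' ∧ z ∈ MoreMor.relAss f' ((Scheme.Modules.pullback g').obj F) := by
  haveI : LocallyOfFiniteType f' := MorphismProperty.of_isPullback hc ‹LocallyOfFiniteType f›
  obtain ⟨V, hV, hxV, -⟩ := exists_isAffineOpen_mem_and_subset (X := S) (x := f x) (U := ⊤) trivial
  obtain ⟨W, hW, hxW, e⟩ := exists_isAffineOpen_mem_and_subset (X := X) (x := x) (U := f ⁻¹ᵁ V) hxV
  obtain ⟨O, hO, hxO, eO⟩ := exists_isAffineOpen_mem_and_subset (X := S') (x := s') (U := g ⁻¹ᵁ V)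
    (show g s' ∈ V from hs ▸ hxV)
  let W' : X'.Opens := g' ⁻¹ᵁ W ⊓ f' ⁻¹ᵁ O
  have hW' : IsAffineOpen W' := by
    haveI : IsAffine _ := hV
    haveI : IsAffine _ := hW
    haveI : IsAffine _ := hO
    exact .of_isIso (Scheme.Hom.isPullback_resLE hc eO e (rfl : W' = _)).isoPullback.hom
  have hP := (isIso_pushoutSection_iff hc eO e (rfl : W' = _)).1
    (isIso_pushoutSection_of_isAffineOpen hc eO e rfl hV hO hW)
  let P := (Scheme.Modules.pullback g').obj F
  have hqP : Coh.IsQCoh P := QC.isQCoh_pullback g' hq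
  let A := Γ(S, V)
  let B := Γ(X, W)
  let C := Γ(S', O)
  let B' := Γ(X', W')
  letI : Algebra A B := (f.appLE V W e).hom.toAlgebra
  letI : Algebra A C := (g.appLE V O eO).hom.toAlgebra
  letI : Algebra B B' := (g'.appLE W W' inf_le_left).hom.toAlgebra
  letI : Algebra C B' := (f'.appLE O W' inf_le_right).hom.toAlgebra
  letI : Algebra A B' := ((algebraMap B B').comp (algebraMap A B)).toAlgebra
  haveI : IsScalarTower A B B' := IsScalarTower.of_algebraMap_eq fun _ => rfl
  haveI : IsScalarTower A C B' := IsScalarTower.of_algebraMap_eq fun a => congr($(hP.w).hom a)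
  haveI : Algebra.IsPushout A B C B' := CommRingCat.isPushout_iff_isPushout.1 hP
  haveI : Algebra.IsPushout A C B B' := Algebra.IsPushout.symm inferInstance
  haveI : Algebra.FiniteType C B' := f'.finiteType_appLE hO hW' inf_le_right
  letI : Module A Γ(F, W) := Module.compHom Γ(F, W) (f.appLE V W e).hom
  haveI : IsScalarTower A B Γ(F, W) := IsScalarTower.of_algebraMap_smul fun _ _ => rfl
  letI : Module C Γ(P, W') := Module.compHom Γ(P, W') (f'.appLE O W' inf_le_right).hom
  haveI : IsScalarTower C B' Γ(P, W') := IsScalarTower.of_algebraMap_smul fun _ _ => rfl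
  obtain ⟨l⟩ := exists_sectionsPullbackEquiv g' hq hW hW' inf_le_left
  have hp : (hO.primeIdealOf ⟨s', hxO⟩).asIdeal.comap (algebraMap A C) = (hV.primeIdealOf ⟨f x, e hxW⟩).asIdeal := by
    refine (congrArg PrimeSpectrum.asIdeal (IsAffineOpen.comap_primeIdealOf_appLE V hV O hO eO hxO)).trans ?_
    exact congrArg (fun w : V => (hV.primeIdealOf w).asIdeal) (Subtype.ext hs.symm)
  obtain ⟨σ', hσ', hσ'c⟩ := exists_assPts_over (A := A) (B := B) l _ _ hp _
    (mem_assPts_of_mem_relAss f F hq hft hV hW e x hxW hx)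
  obtain ⟨hσ'p, hσ'C⟩ := isPrime_of_mem_assPts _ _ _ hσ'
  haveI := hσ'p
  obtain ⟨hz, hz'⟩ := InjFibre.primeIdealOf_fromSpec hW' ⟨σ', hσ'p⟩
  let z : X' := hW'.fromSpec ⟨σ', hσ'p⟩
  have hzq : (hW'.primeIdealOf ⟨z, hz⟩).asIdeal = σ' := congrArg PrimeSpectrum.asIdeal hz'
  refine ⟨z, ?_, ?_, ?_⟩
  · have h1 : hW.primeIdealOf ⟨g' z, hz.1⟩ = hW.primeIdealOf ⟨x, hxW⟩ :=
      PrimeSpectrum.ext ((congrArg PrimeSpectrum.asIdeal
        (IsAffineOpen.comap_primeIdealOf_appLE W hW W' hW' inf_le_left hz)).symm.trans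
          ((congrArg (Ideal.comap (algebraMap B B')) hzq).trans hσ'c))
    have := congrArg hW.fromSpec h1
    rwa [hW.fromSpec_primeIdealOf, hW.fromSpec_primeIdealOf] at this
  · have h1 : hO.primeIdealOf ⟨f' z, hz.2⟩ = hO.primeIdealOf ⟨s', hxO⟩ :=
      PrimeSpectrum.ext ((congrArg PrimeSpectrum.asIdeal
        (IsAffineOpen.comap_primeIdealOf_appLE O hO W' hW' inf_le_right hz)).symm.trans
          ((congrArg (Ideal.comap (algebraMap C B')) hzq).trans hσ'C))
    have := congrArg hO.fromSpec h1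
    rwa [hO.fromSpec_primeIdealOf, hO.fromSpec_primeIdealOf] at this
  · refine RG.Pure.mem_relAss_of_assPts f' P hqP hO hW' inf_le_right z hz (hO.primeIdealOf ⟨s', hxO⟩).asIdeal ?_
    rw [hzq]
    exact hσ'

end Groth.Agent.FlatFunLib
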