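import Groth.Agent.AssLib.Points
import Groth.Agent.WeakAssLib.Stalk
import Groth.Agent.FlatFunLib.RelAssBC
import Groth.Agent.MonoSmooth.Basic
import Groth.Agent.TMul.GlobGen
import Groth.Prelude.Def_PicLoc

/-!
Scheme theoretic density of opens and associated points.
-/

set_option autoImplicit false
set_option linter.style.haveILetI false
set_option backward.isDefEq.respectTransparency false

universe u

open CategoryTheory CategoryTheory.Limits AlgebraicGeometry Opposite Groth.Agent.QC Groth.Agent.WeakAssLib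

namespace Groth.Agent.FlatFunLib

variable {Z : Scheme.{u}} (U : Z.Opens)

theorem schDominant_of_ass [QuasiCompact U.ι] (h : ∀ z : Z, Curv2.IsAssPoint (Coh.structureModule Z) z → z ∈ U) :
    IsSchemeTheoreticallyDominant U.ι := by
  refine ⟨Scheme.IdealSheafData.ext_of_iSup_eq_top (fun W : Z.affineOpens => W) (iSup_affineOpens_eq_top Z) fun W => ?_⟩
  rw [Scheme.Hom.ker_apply, Scheme.IdealSheafData.ideal_bot, Pi.bot_apply, eq_bot_iff]
  intro a ha
  rw [RingHom.mem_ker] at ha
  let s : Γ(Coh.structureModule Z, W.1) := a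
  refine (Submodule.mem_bot _).2 (show s = 0 from ext_germ (Coh.structureModule Z) s fun x hx => ?_)
  by_contra hne
  obtain ⟨y, hy, -, hwy, hne'⟩ := exists_weakAss (isQCoh_unit Z) hx s hne
  have hyU : y ∈ U.ι ''ᵁ U.ι ⁻¹ᵁ W.1 := ⟨⟨y, h y ((isAssPoint_iff _ y).2 hwy)⟩, hy, rfl⟩
  refine hne' ?_
  rw [← mgerm_res (Coh.structureModule Z) (U.ι.image_preimage_le W.1) hyU s]
  rw [Scheme.Opens.ι_app] at ha
  exact (congrArg (mgerm (Coh.structureModule Z) hyU) ha).trans (map_zero _)

theorem ass_of_schDominant [IsLocallyNoetherian Z] [QuasiCompact U.ι] [IsSchemeTheoreticallyDominant U.ι] {z : Z}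
    (hz : Curv2.IsAssPoint (Coh.structureModule Z) z) : z ∈ U := by
  by_contra hzU
  obtain ⟨W, hW, hzW, -⟩ := exists_isAffineOpen_mem_and_subset (X := Z) (x := z) (U := ⊤) trivial
  haveI : IsNoetherianRing Γ(Z, W) := IsLocallyNoetherian.component_noetherian ⟨W, hW⟩
  let Q := (hW.primeIdealOf ⟨z, hzW⟩).asIdeal
  letI := TopCat.Presheaf.algebra_section_stalk Z.presheaf (⟨z, hzW⟩ : W)
  haveI : IsLocalization.AtPrime (Z.presheaf.stalk z) Q := hW.isLocalization_stalk ⟨z, hzW⟩
  have hQ : Q ∈ associatedPrimes Γ(Z, W) Γ(Z, W) := by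
    have h1 : IsLocalRing.maximalIdeal (Z.presheaf.stalk z) ∈
        Ideal.comap (algebraMap Γ(Z, W) (Z.presheaf.stalk z)) ⁻¹' associatedPrimes Γ(Z, W) Γ(Z, W) := by
      rw [Module.associatedPrimes.preimage_comap_associatedPrimes_eq_associatedPrimes_of_isLocalizedModule
        Q.primeCompl (Z.presheaf.stalk z) (Algebra.linearMap Γ(Z, W) (Z.presheaf.stalk z))]
      exact (AssLib.ass_struct_iff z).1 hz
    rwa [Set.mem_preimage, show (IsLocalRing.maximalIdeal (Z.presheaf.stalk z)).comap
      (algebraMap Γ(Z, W) (Z.presheaf.stalk z)) = Q from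
        IsLocalization.AtPrime.under_maximalIdeal (Z.presheaf.stalk z) Q] at h1
  obtain ⟨hQp, a, ha⟩ := isAssociatedPrime_iff.1 hQ
  have ha0 : a ≠ 0 := fun h0 => hQp.ne_top (by
    rw [ha, Ideal.eq_top_iff_one, Submodule.mem_colon_singleton, h0, smul_zero]; exact Submodule.zero_mem _)
  apply ha0
  apply (U.ι.app_injective W)
  rw [map_zero]
  let s : Γ(Coh.structureModule Z, W) := a
  rw [Scheme.Opens.ι_app]
  refine (show res (Coh.structureModule Z) (U.ι.image_preimage_le W) s = 0 from
    ext_germ (Coh.structureModule Z) _ fun u hu => ?_)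
  have huW : u ∈ W := U.ι.image_preimage_le W hu
  have huU : u ∈ U := by
    obtain ⟨v, -, rfl⟩ := hu
    exact v.2
  rw [mgerm_res, germ_eq_zero_iff hW (isLoc_struct hW)]
  have hnle : ¬ Q ≤ (hW.primeIdealOf ⟨u, huW⟩).asIdeal := fun hle => hzU (by
    have h1 := ((PrimeSpectrum.le_iff_specializes _ _).1 hle :
      hW.primeIdealOf ⟨z, hzW⟩ ⤳ hW.primeIdealOf ⟨u, huW⟩).map hW.fromSpec.continuous
    rw [hW.fromSpec_primeIdealOf, hW.fromSpec_primeIdealOf] at h1
    exact h1.mem_open U.isOpen huU)
  obtain ⟨b, hb, hbu⟩ := SetLike.not_le_iff_exists.1 hnle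
  refine ⟨b, hbu, ?_⟩
  rw [ha, Submodule.mem_colon_singleton] at hb
  exact (Submodule.mem_bot _).1 hb

theorem schDominant_iff_ass [IsLocallyNoetherian Z] [QuasiCompact U.ι] :
    IsSchemeTheoreticallyDominant U.ι ↔ ∀ z : Z, Curv2.IsAssPoint (Coh.structureModule Z) z → z ∈ U :=
  ⟨fun _ _ hz => ass_of_schDominant U hz, schDominant_of_ass U⟩

/-- Over a field relative associated points are associated points. -/
theorem relAss_structure_field {K : Type u} [Field K] {T : Scheme.{u}} (g : T ⟶ Spec (CommRingCat.of K))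
    {G : T.Modules} (e : G ≅ Coh.structureModule T) (t : T) :
    t ∈ MoreMor.relAss g G ↔ Curv2.IsAssPoint (Coh.structureModule T) t := by
  have hm : IsLocalRing.maximalIdeal ((Spec (CommRingCat.of K)).presheaf.stalk (g t)) = ⊥ :=
    IsLocalRing.isField_iff_maximalIdeal_eq.1 (MonoSmooth.isField_stalk_Spec K (g t))
  have hb : Function.Bijective (stalkHom e.hom t) := by
    haveI : IsIso e.hom.mapPresheaf := inferInstanceAs (IsIso ((Scheme.Modules.toPresheaf T).map e.hom))
    exact ConcreteCategory.bijective_of_isIso ((TopCat.Presheaf.stalkFunctor AddCommGrpCat.{u} t).map e.hom.mapPresheaf)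
  let l : G.presheaf.stalk t ≃ₗ[T.presheaf.stalk t] (Coh.structureModule T).presheaf.stalk t :=
    LinearEquiv.ofBijective
      { toFun := stalkHom e.hom t
        map_add' := map_add _
        map_smul' := fun r m => stalkHom_smul e.hom t r m } hb
  show IsAssociatedPrime _ _ ↔ IsAssociatedPrime _ _
  have h0 : (Ideal.map (g.stalkMap t).hom (IsLocalRing.maximalIdeal ((Spec (CommRingCat.of K)).presheaf.stalk (g t))) •
      (⊤ : Submodule (T.presheaf.stalk t) (G.presheaf.stalk t))) = ⊥ := by
    rw [hm, Ideal.map_bot, Submodule.bot_smul]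
  exact LinearEquiv.isAssociatedPrime_iff ((Submodule.quotEquivOfEqBot _ h0).trans l)

/-- The trace of an open on a fibre is scheme theoretically dense iff it contains the relative associated
points of that fibre. -/
theorem fibre_schDominant_iff {X Y : Scheme.{u}} (f : X ⟶ Y) [LocallyOfFiniteType f] (U : X.Opens) (y : Y) :
    IsSchemeTheoreticallyDominant (f.fiberι y ⁻¹ᵁ U).ι ↔
      ∀ x ∈ MoreMor.relAss f (Coh.structureModule X), f x = y → x ∈ U := by
  haveI : LocallyOfFiniteType (f.fiberToSpecResidueField y) := MorphismProperty.pullback_snd _ _ inferInstance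
  haveI : IsLocallyNoetherian (f.fiber y) := LocallyOfFiniteType.isLocallyNoetherian (f.fiberToSpecResidueField y)
  have hc : IsPullback (f.fiberι y) (f.fiberToSpecResidueField y) f (Y.fromSpecResidueField y) :=
    IsPullback.of_hasPullback f (Y.fromSpecResidueField y)
  let e := PicLoc.pullbackStructureIso (f.fiberι y)
  have hq : Coh.IsQCoh (Coh.structureModule X) := isQCoh_unit X
  have hft : CohB1.IsFT (Coh.structureModule X) := TMul.isFT_structureModule X
  rw [schDominant_iff_ass]
  constructor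
  · intro h x hx hxy
    obtain ⟨z, hzx, -, hz⟩ := exists_relAss_over hc (Coh.structureModule X) hq hft x
      (IsLocalRing.closedPoint (Y.residueField y)) (by rw [hxy, Scheme.fromSpecResidueField_apply]) hx
    rw [← hzx]
    exact h z ((relAss_structure_field _ e z).1 hz)
  · intro h z hz
    refine h _ (map_mem_relAss hc (Coh.structureModule X) hq hft z ((relAss_structure_field _ e z).2 hz)) ?_
    rw [← Scheme.Hom.comp_apply, hc.w, Scheme.Hom.comp_apply, Scheme.fromSpecResidueField_apply]

end Groth.Agent.FlatFunLib
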