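import Groth.Agent.FlatFunLib.AssFieldBC
import Groth.Agent.FlatFunLib.AssDominant
import Groth.Agent.ConsEngine.Fiber

/-!
Relative associated points under base change: they are the points over relative associated points which
are generic in their fibre.
-/

set_option autoImplicit false
set_option linter.style.haveILetI false
set_option backward.isDefEq.respectTransparency false

universe u

open CategoryTheory CategoryTheory.Limits AlgebraicGeometry Opposite TensorProduct
open Groth.Agent.WeakAssLib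

namespace Groth.Agent.FlatFunLib

theorem isAssPoint_iff_associatedPrimes {X : Scheme.{u}} (F : X.Modules) (hq : Coh.IsQCoh F) {W : X.Opens}
    (hW : IsAffineOpen W) [IsNoetherianRing Γ(X, W)] (x : X) (hx : x ∈ W) :
    Curv2.IsAssPoint F x ↔ (hW.primeIdealOf ⟨x, hx⟩).asIdeal ∈ associatedPrimes Γ(X, W) Γ(F, W) := by
  let Q := (hW.primeIdealOf ⟨x, hx⟩).asIdeal
  letI := TopCat.Presheaf.algebra_section_stalk X.presheaf (⟨x, hx⟩ : W)
  haveI : IsLocalization.AtPrime (X.presheaf.stalk x) Q := hW.isLocalization_stalk ⟨x, hx⟩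
  letI : Module Γ(X, W) (F.presheaf.stalk x) := Module.compHom _ (X.presheaf.germ W x hx).hom
  haveI : IsScalarTower Γ(X, W) (X.presheaf.stalk x) (F.presheaf.stalk x) :=
    IsScalarTower.of_algebraMap_smul fun _ _ => rfl
  obtain ⟨g, hg⟩ := LocFree.exists_stalkMap hW hq hx
  haveI := hg
  have h1 : IsLocalRing.maximalIdeal (X.presheaf.stalk x) ∈
      Ideal.comap (algebraMap Γ(X, W) (X.presheaf.stalk x)) ⁻¹' associatedPrimes Γ(X, W) Γ(F, W) ↔
      Curv2.IsAssPoint F x := by
    rw [Module.associatedPrimes.preimage_comap_associatedPrimes_eq_associatedPrimes_of_isLocalizedModule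
      Q.primeCompl (X.presheaf.stalk x) g]
    rfl
  rw [← h1, Set.mem_preimage, show (IsLocalRing.maximalIdeal (X.presheaf.stalk x)).comap
    (algebraMap Γ(X, W) (X.presheaf.stalk x)) = Q from
      IsLocalization.AtPrime.under_maximalIdeal (X.presheaf.stalk x) Q]

theorem isAssPoint_iff_of_iso {T : Scheme.{u}} {G H : T.Modules} (e : G ≅ H) (t : T) :
    Curv2.IsAssPoint G t ↔ Curv2.IsAssPoint H t := by
  have hb : Function.Bijective (stalkHom e.hom t) := by
    haveI : IsIso e.hom.mapPresheaf := inferInstanceAs (IsIso ((Scheme.Modules.toPresheaf T).map e.hom))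
    exact ConcreteCategory.bijective_of_isIso ((TopCat.Presheaf.stalkFunctor AddCommGrpCat.{u} t).map e.hom.mapPresheaf)
  let l : G.presheaf.stalk t ≃ₗ[T.presheaf.stalk t] H.presheaf.stalk t :=
    LinearEquiv.ofBijective
      { toFun := stalkHom e.hom t
        map_add' := map_add _
        map_smul' := fun r m => stalkHom_smul e.hom t r m } hb
  exact LinearEquiv.isAssociatedPrime_iff l

theorem relAss_iff_isAssPoint {K : Type u} [Field K] {T : Scheme.{u}} (g : T ⟶ Spec (CommRingCat.of K))
    (G : T.Modules) (t : T) : t ∈ MoreMor.relAss g G ↔ Curv2.IsAssPoint G t := by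
  have hm : IsLocalRing.maximalIdeal ((Spec (CommRingCat.of K)).presheaf.stalk (g t)) = ⊥ :=
    IsLocalRing.isField_iff_maximalIdeal_eq.1 (MonoSmooth.isField_stalk_Spec K (g t))
  show IsAssociatedPrime _ _ ↔ IsAssociatedPrime _ _
  have h0 : (Ideal.map (g.stalkMap t).hom (IsLocalRing.maximalIdeal ((Spec (CommRingCat.of K)).presheaf.stalk (g t))) •
      (⊤ : Submodule (T.presheaf.stalk t) (G.presheaf.stalk t))) = ⊥ := by
    rw [hm, Ideal.map_bot, Submodule.bot_smul]
  exact LinearEquiv.isAssociatedPrime_iff (Submodule.quotEquivOfEqBot _ h0)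

theorem associatedPrimes_iff_of_isField {k K B B' M M' : Type u} [CommRing k] [CommRing K] (hk : IsField k)
    (hK : IsField K) [Algebra k K] [CommRing B] [Algebra k B] [CommRing B'] [Algebra B B'] [Algebra K B'] [Algebra k B']
    [IsScalarTower k B B'] [IsScalarTower k K B'] [Algebra.IsPushout k K B B'] [Algebra.FiniteType k B]
    [AddCommGroup M] [Module B M] [AddCommGroup M'] [Module B' M'] (l : B' ⊗[B] M ≃ₗ[B'] M') (Q : Ideal B') [Q.IsPrime] :
    Q ∈ associatedPrimes B' M' ↔ Q.comap (algebraMap B B') ∈ associatedPrimes B M ∧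
      ∀ P : Ideal B', P.IsPrime → P.comap (algebraMap B B') = Q.comap (algebraMap B B') → P ≤ Q → Q ≤ P :=
  letI := hk.toField
  letI := hK.toField
  associatedPrimes_iff_field_baseChange (k := k) (K := K) l Q

/-- Associated points after extending the ground field. -/
theorem isAssPoint_iff_field_baseChange {k K : Type u} [Field k] [Field K] {T T' : Scheme.{u}}
    {q : T ⟶ Spec (CommRingCat.of k)} [LocallyOfFiniteType q] {q' : T' ⟶ Spec (CommRingCat.of K)} {e : T' ⟶ T}
    {σ : Spec (CommRingCat.of K) ⟶ Spec (CommRingCat.of k)} (hc : IsPullback e q' q σ) (G : T.Modules)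
    (hq : Coh.IsQCoh G) (z : T') :
    Curv2.IsAssPoint ((Scheme.Modules.pullback e).obj G) z ↔
      Curv2.IsAssPoint G (e z) ∧ ∀ w : T', e w = e z → w ⤳ z → w = z := by
  haveI : LocallyOfFiniteType q' := MorphismProperty.of_isPullback hc ‹LocallyOfFiniteType q›
  obtain ⟨W, hW, hzW, -⟩ := exists_isAffineOpen_mem_and_subset (X := T) (x := e z) (U := ⊤) trivial
  let V : (Spec (CommRingCat.of k)).Opens := ⊤
  let O : (Spec (CommRingCat.of K)).Opens := ⊤
  have hV : IsAffineOpen V := isAffineOpen_top _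
  have hO : IsAffineOpen O := isAffineOpen_top _
  have eW : W ≤ q ⁻¹ᵁ V := le_top
  have eO : O ≤ σ ⁻¹ᵁ V := le_top
  let W' : T'.Opens := e ⁻¹ᵁ W ⊓ q' ⁻¹ᵁ O
  have hzW' : z ∈ W' := ⟨hzW, trivial⟩
  have hW' : IsAffineOpen W' := by
    haveI : IsAffine _ := hV
    haveI : IsAffine _ := hW
    haveI : IsAffine _ := hO
    exact .of_isIso (Scheme.Hom.isPullback_resLE hc eO eW (rfl : W' = _)).isoPullback.hom
  have hP := (isIso_pushoutSection_iff hc eO eW (rfl : W' = _)).1
    (isIso_pushoutSection_of_isAffineOpen hc eO eW rfl hV hO hW)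
  let A := Γ(Spec (CommRingCat.of k), V)
  let C := Γ(Spec (CommRingCat.of K), O)
  have hA : IsField A := MulEquiv.isField (Field.toIsField k) (Scheme.ΓSpecIso (CommRingCat.of k)).commRingCatIsoToRingEquiv.toMulEquiv
  have hC : IsField C := MulEquiv.isField (Field.toIsField K) (Scheme.ΓSpecIso (CommRingCat.of K)).commRingCatIsoToRingEquiv.toMulEquiv
  let B := Γ(T, W)
  let B' := Γ(T', W')
  letI : Algebra A B := (q.appLE V W eW).hom.toAlgebra
  letI : Algebra A C := (σ.appLE V O eO).hom.toAlgebra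
  letI : Algebra B B' := (e.appLE W W' inf_le_left).hom.toAlgebra
  letI : Algebra C B' := (q'.appLE O W' inf_le_right).hom.toAlgebra
  letI : Algebra A B' := ((algebraMap B B').comp (algebraMap A B)).toAlgebra
  haveI : IsScalarTower A B B' := IsScalarTower.of_algebraMap_eq fun _ => rfl
  haveI : IsScalarTower A C B' := IsScalarTower.of_algebraMap_eq fun a => congr($(hP.w).hom a)
  haveI : Algebra.IsPushout A B C B' := CommRingCat.isPushout_iff_isPushout.1 hP
  haveI : Algebra.IsPushout A C B B' := Algebra.IsPushout.symm inferInstance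
  haveI : Algebra.FiniteType A B := q.finiteType_appLE hV hW eW
  haveI : IsLocallyNoetherian T := LocallyOfFiniteType.isLocallyNoetherian q
  haveI : IsLocallyNoetherian T' := LocallyOfFiniteType.isLocallyNoetherian q'
  haveI : IsNoetherianRing B := IsLocallyNoetherian.component_noetherian ⟨W, hW⟩
  haveI : IsNoetherianRing B' := IsLocallyNoetherian.component_noetherian ⟨W', hW'⟩
  obtain ⟨l⟩ := exists_sectionsPullbackEquiv e hq hW hW' inf_le_left
  rw [isAssPoint_iff_associatedPrimes _ (QC.isQCoh_pullback e hq) hW' z hzW',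
    isAssPoint_iff_associatedPrimes G hq hW (e z) hzW,
    associatedPrimes_iff_of_isField (k := A) (K := C) (B := B) hA hC l]
  have hcomap : ∀ (w : T') (hw : w ∈ W'), (hW'.primeIdealOf ⟨w, hw⟩).asIdeal.comap (algebraMap B B') =
      (hW.primeIdealOf ⟨e w, hw.1⟩).asIdeal := fun w hw =>
    congrArg PrimeSpectrum.asIdeal (IsAffineOpen.comap_primeIdealOf_appLE W hW W' hW' inf_le_left hw)
  rw [hcomap z hzW']
  refine and_congr_right fun _ => ⟨fun h w hw hwz => ?_, fun h P hP hPc hPz => ?_⟩
  · have hwW' : w ∈ W' := hwz.mem_open W'.isOpen hzW'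
    have h1 : (hW'.primeIdealOf ⟨w, hwW'⟩).asIdeal.comap (algebraMap B B') = (hW.primeIdealOf ⟨e z, hzW⟩).asIdeal :=
      (hcomap w hwW').trans (congrArg (fun p : W => (hW.primeIdealOf p).asIdeal) (Subtype.ext hw))
    have hle : (hW'.primeIdealOf ⟨w, hwW'⟩).asIdeal ≤ (hW'.primeIdealOf ⟨z, hzW'⟩).asIdeal := by
      have h3 : hW'.fromSpec (hW'.primeIdealOf ⟨w, hwW'⟩) ⤳ hW'.fromSpec (hW'.primeIdealOf ⟨z, hzW'⟩) := by
        rw [hW'.fromSpec_primeIdealOf, hW'.fromSpec_primeIdealOf]
        exact hwz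
      rw [hW'.fromSpec.isOpenEmbedding.isInducing.specializes_iff] at h3
      exact (PrimeSpectrum.le_iff_specializes _ _).2 h3
    have h4 := congrArg hW'.fromSpec
      (PrimeSpectrum.ext (le_antisymm hle (h _ (hW'.primeIdealOf ⟨w, hwW'⟩).isPrime h1 hle)))
    rwa [hW'.fromSpec_primeIdealOf, hW'.fromSpec_primeIdealOf] at h4
  · obtain ⟨hw, hw'⟩ := InjFibre.primeIdealOf_fromSpec hW' ⟨P, hP⟩
    let w : T' := hW'.fromSpec ⟨P, hP⟩
    have hwP : (hW'.primeIdealOf ⟨w, hw⟩).asIdeal = P := congrArg PrimeSpectrum.asIdeal hw'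
    have hspec : w ⤳ z := by
      have := ((PrimeSpectrum.le_iff_specializes ⟨P, hP⟩ (hW'.primeIdealOf ⟨z, hzW'⟩)).1 hPz).map hW'.fromSpec.continuous
      rwa [hW'.fromSpec_primeIdealOf] at this
    have he : e w = e z := by
      have h1 : hW.primeIdealOf ⟨e w, hw.1⟩ = hW.primeIdealOf ⟨e z, hzW⟩ :=
        PrimeSpectrum.ext ((hcomap w hw).symm.trans ((congrArg (Ideal.comap (algebraMap B B')) hwP).trans hPc))
      have := congrArg hW.fromSpec h1
      rwa [hW.fromSpec_primeIdealOf, hW.fromSpec_primeIdealOf] at this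
    exact (congrArg (fun p : W' => (hW'.primeIdealOf p).asIdeal) (Subtype.ext (h w he hspec).symm)).le.trans hwP.le

variable {X S X' S' : Scheme.{u}}

/-- Relative associated points are the associated points of the fibres. -/
theorem relAss_iff_fibre (f : X ⟶ S) [LocallyOfFiniteType f] (F : X.Modules) (hq : Coh.IsQCoh F)
    (hft : CohB1.IsFT F) {s : S} (w : f.fiber s) :
    f.fiberι s w ∈ MoreMor.relAss f F ↔ Curv2.IsAssPoint ((Scheme.Modules.pullback (f.fiberι s)).obj F) w := by
  have hc := ConsEngine.isPullback_fiber f s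
  rw [← relAss_iff_isAssPoint (f.fiberToSpecResidueField s)]
  refine ⟨fun h => ?_, fun h => map_mem_relAss hc F hq hft w h⟩
  obtain ⟨v, hv, -, hv'⟩ := exists_relAss_over hc F hq hft (f.fiberι s w) (f.fiberToSpecResidueField s w) (by
    rw [← Scheme.Hom.comp_apply, hc.w, Scheme.Hom.comp_apply]) h
  rwa [← (f.fiberι s).isEmbedding.injective hv]

theorem isAssPoint_fibre_congr (f : X ⟶ S) (F : X.Modules) {x : X} {s : S} (e : f x = s) (w : f.fiber s)
    (hw : f.fiberι s w = x) :
    Curv2.IsAssPoint ((Scheme.Modules.pullback (f.fiberι s)).obj F) w ↔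
      Curv2.IsAssPoint ((Scheme.Modules.pullback (f.fiberι (f x))).obj F) (f.asFiber x) := by
  subst e
  rw [(f.fiberι _).isEmbedding.injective (hw.trans (f.fiberι_asFiber x).symm)]

/-- Associated points of the fibres of a base change, for quasi-coherent modules. -/
theorem isAssPoint_fibre_baseChange_iff {f : X ⟶ S} [LocallyOfFiniteType f] {f' : X' ⟶ S'} {g' : X' ⟶ X}
    {g : S' ⟶ S} (hc : IsPullback g' f' f g) (F : X.Modules) (hq : Coh.IsQCoh F) (z : X') :
    Curv2.IsAssPoint ((Scheme.Modules.pullback (f'.fiberι (f' z))).obj ((Scheme.Modules.pullback g').obj F))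
        (f'.asFiber z) ↔
      Curv2.IsAssPoint ((Scheme.Modules.pullback (f.fiberι (f (g' z)))).obj F) (f.asFiber (g' z)) ∧
        ∀ w : X', f' w = f' z → g' w = g' z → w ⤳ z → w = z := by
  haveI : LocallyOfFiniteType f' := MorphismProperty.of_isPullback hc ‹LocallyOfFiniteType f›
  obtain ⟨v, hv, hv'⟩ : ∃ v : f'.fiber (f' z), f'.fiberι (f' z) v = z ∧ f'.asFiber z = v :=
    ⟨f'.asFiber z, f'.fiberι_asFiber z, rfl⟩
  rw [hv']
  have hb := ConsEngine.isPullback_fiberBC hc (f' z)
  let b := ConsEngine.fiberBC hc (f' z)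
  haveI : LocallyOfFiniteType (f.fiberToSpecResidueField (g (f' z))) := MorphismProperty.pullback_snd _ _ inferInstance
  let G := (Scheme.Modules.pullback (f.fiberι (g (f' z)))).obj F
  let iso : (Scheme.Modules.pullback (f'.fiberι (f' z))).obj ((Scheme.Modules.pullback g').obj F) ≅
      (Scheme.Modules.pullback b).obj G :=
    (Scheme.Modules.pullbackComp (f'.fiberι (f' z)) g').app F ≪≫
      (Scheme.Modules.pullbackCongr (ConsEngine.fiberBC_fiberι hc (f' z)).symm).app F ≪≫
      ((Scheme.Modules.pullbackComp b (f.fiberι (g (f' z)))).app F).symm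
  have hbv : ∀ w : f'.fiber (f' z), f.fiberι _ (b w) = g' (f'.fiberι (f' z) w) := fun w => by
    rw [← Scheme.Hom.comp_apply, ConsEngine.fiberBC_fiberι, Scheme.Hom.comp_apply]
  rw [isAssPoint_iff_of_iso iso, isAssPoint_iff_field_baseChange hb G (QC.isQCoh_pullback _ hq) v,
    isAssPoint_fibre_congr f F (x := g' z)
      (by rw [← Scheme.Hom.comp_apply, hc.w, Scheme.Hom.comp_apply]) (b v) (by rw [hbv, hv])]
  refine and_congr_right fun _ => ⟨fun h w hw hgw hwz => ?_, fun h u hu huv => ?_⟩
  · obtain ⟨u, rfl⟩ : w ∈ Set.range (f'.fiberι (f' z)) := by rw [Scheme.Hom.range_fiberι]; exact hw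
    have hwz' : f'.fiberι (f' z) u ⤳ f'.fiberι (f' z) v := by rw [hv]; exact hwz
    rw [(f'.fiberι (f' z)).isEmbedding.isInducing.specializes_iff] at hwz'
    rw [h u ((f.fiberι _).isEmbedding.injective (by rw [hbv, hbv, hgw, hv])) hwz', hv]
  · apply (f'.fiberι (f' z)).isEmbedding.injective
    rw [hv]
    refine h _ ?_ ?_ ?_
    · have : f'.fiberι (f' z) u ∈ Set.range (f'.fiberι (f' z)) := ⟨u, rfl⟩
      rw [Scheme.Hom.range_fiberι] at this
      exact this
    · rw [← hbv, hu, hbv, hv]
    · have := huv.map (f'.fiberι (f' z)).continuous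
      rwa [hv] at this

/-- A point of a base change is relative associated iff it lies over a relative associated point and is
generic among the points of its fibre over it. -/
theorem mem_relAss_baseChange_iff {f : X ⟶ S} [LocallyOfFiniteType f] {f' : X' ⟶ S'} {g' : X' ⟶ X} {g : S' ⟶ S}
    (hc : IsPullback g' f' f g) (F : X.Modules) (hq : Coh.IsQCoh F) (hft : CohB1.IsFT F) (z : X') :
    z ∈ MoreMor.relAss f' ((Scheme.Modules.pullback g').obj F) ↔
      g' z ∈ MoreMor.relAss f F ∧ ∀ w : X', f' w = f' z → g' w = g' z → w ⤳ z → w = z := by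
  haveI : LocallyOfFiniteType f' := MorphismProperty.of_isPullback hc ‹LocallyOfFiniteType f›
  have h1 := relAss_iff_fibre f' _ (QC.isQCoh_pullback g' hq) (ModDesc.isFT_pullback _ hq hft) (f'.asFiber z)
  have h2 := relAss_iff_fibre f F hq hft (f.asFiber (g' z))
  rw [Scheme.Hom.fiberι_asFiber] at h1 h2
  rw [h1, isAssPoint_fibre_baseChange_iff hc F hq z, h2]

end Groth.Agent.FlatFunLib
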