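import Groth.Agent.FlatFunLib.AssFlatMinimal
import Groth.Agent.FlatFunLib.RelAssBCIff
import Groth.Agent.LocalDimBC.Scheme
import Groth.Agent.Unibranch.ValuationBase
import Groth.Agent.Unibranch.ComponentDim
import Groth.Agent.DimFormula.ResTrdeg
import Groth.Agent.SpQS.TrdegQF
import Groth.Agent.SpRelDim.Trdeg
import Groth.Agent.FlatModBC.Basic
import Groth.Agent.S1481

/-!
Where the module is flat, the closure of a relative associated point has constant relative dimension and
the generic points of its fibres are relative associated points.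
-/

set_option autoImplicit false
set_option linter.style.haveILetI false
set_option backward.isDefEq.respectTransparency false

universe u

open CategoryTheory CategoryTheory.Limits AlgebraicGeometry Opposite Topology
open Groth.Agent.Unibranch

namespace Groth.Agent.FlatFunLib

variable {X S : Scheme.{u}}

theorem exists_resTrdeg_chains (f : X ⟶ S) [LocallyOfFiniteType f] (x : X) :
    ∃ δ : ℕ, Dual3.resTrdeg f x = (δ : Cardinal.{u}) ∧ ChainsLE f (closure {x}) (f x) δ ∧
      HasChain f (closure {x}) (f x) δ :=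
  DimFormula.exists_trdeg_eq f x

/-- If every maximal point of the fibre generalising `x` has residual transcendence degree `d`, the fibre
has dimension `d` at `x`. -/
theorem fibreDimAt_eq_of_max (f : X ⟶ S) [LocallyOfFiniteType f] (x : X) (d : ℕ)
    (h : ∀ m, m ⤳ x → f m = f x → (∀ w, f w = f m → w ⤳ m → w = m) → Dual3.resTrdeg f m = (d : Cardinal.{u})) :
    FlatMor.fibreDimAt f x = (d : WithBot ℕ∞) := by
  obtain ⟨D, hD⟩ := exists_fibreDimAt_eq f x
  obtain ⟨m, hmx, hfm, hm, hch⟩ := exists_max_hasChain f x hD.ge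
  obtain ⟨δ, hδ, hle, hge⟩ := exists_resTrdeg_chains f m
  have hd : δ = d := Nat.cast_injective (hδ.symm.trans (h m hmx hfm fun w hw hs => hm w (hw.trans hfm) hs))
  subst hd
  rw [hfm] at hle hge
  obtain ⟨U, hxU, hU⟩ := (fibreDimAt_le_iff f x).1 hD.le
  rw [hD]
  congr 1
  refine Nat.cast_inj.2 (le_antisymm (hch.le hle) ?_)
  have h1 := chainsLE_of_specializes f (ζ := m) specializes_rfl (hmx.mem_open U.isOpen hxU) (e := D)
    (by rw [hfm]; exact hU.mono Set.inter_subset_left)
  rw [hfm] at h1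
  exact hge.le h1

/-- The reduced closed subscheme structure on the closure of a point. -/
noncomputable def closureSub (y : X) : X.IdealSheafData :=
  Scheme.IdealSheafData.vanishingIdeal (TopologicalSpace.Closeds.closure {y})

theorem range_closureSub (y : X) : Set.range (closureSub y).subschemeι = closure {y} := by
  rw [Scheme.IdealSheafData.range_subschemeι]
  exact Scheme.IdealSheafData.coe_support_vanishingIdeal _

theorem specializes_closureSub (y : X) (z : (closureSub y).subscheme) : y ⤳ (closureSub y).subschemeι z :=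
  specializes_iff_mem_closure.2 ((range_closureSub y).le ⟨z, rfl⟩)

theorem resTrdeg_closureSub (f : X ⟶ S) (y : X) (z : (closureSub y).subscheme) :
    Dual3.resTrdeg ((closureSub y).subschemeι ≫ f) z = Dual3.resTrdeg f ((closureSub y).subschemeι z) :=
  SpQS.resTrdeg_precomp _ _ (SpRelDim.quasiFiniteAt_of_isPreimmersion _ _)

theorem fibreDimAt_closureSub_max (f : X ⟶ S) [LocallyOfFiniteType f] (y : X) (z : (closureSub y).subscheme) (δ : ℕ)
    (hδ : Dual3.resTrdeg f ((closureSub y).subschemeι z) = (δ : Cardinal.{u}))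
    (hz : ∀ w, y ⤳ w → f w = f ((closureSub y).subschemeι z) → w ⤳ (closureSub y).subschemeι z →
      w = (closureSub y).subschemeι z) :
    FlatMor.fibreDimAt ((closureSub y).subschemeι ≫ f) z = (δ : WithBot ℕ∞) := by
  refine fibreDimAt_eq_of_max _ z δ fun m hmz hfm _ => ?_
  rw [Scheme.Hom.comp_apply, Scheme.Hom.comp_apply] at hfm
  rw [resTrdeg_closureSub, hz _ (specializes_closureSub y m) hfm (hmz.map (closureSub y).subschemeι.continuous), hδ]

/-- Near a generic point of a fibre of a closure, chains in that fibre of the closure are bounded by its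
residual transcendence degree. -/
theorem exists_chainsLE_near_max (f : X ⟶ S) [LocallyOfFiniteType f] {y x : X} (hyx : y ⤳ x) (δ : ℕ)
    (hδ : Dual3.resTrdeg f x = (δ : Cardinal.{u}))
    (hmin : ∀ w, y ⤳ w → f w = f x → w ⤳ x → w = x) :
    ∃ U : X.Opens, x ∈ U ∧ ChainsLE f ((U : Set X) ∩ closure {y}) (f x) δ := by
  obtain ⟨z, rfl⟩ : x ∈ Set.range (closureSub y).subschemeι :=
    (range_closureSub y).ge (specializes_iff_mem_closure.1 hyx)
  let ι := (closureSub y).subschemeι
  obtain ⟨U', hzU', hU'⟩ := (fibreDimAt_le_iff (ι ≫ f) z).1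
    (fibreDimAt_closureSub_max f y z δ hδ hmin).le
  obtain ⟨O, hO, hOU⟩ := ι.isEmbedding.isInducing.isOpen_iff.1 U'.isOpen
  refine ⟨⟨O, hO⟩, (hOU.ge hzU' : z ∈ ι ⁻¹' O), fun k c hc hch => ?_⟩
  have hc' : ∀ i, c i ∈ Set.range ι := fun i => (range_closureSub y).ge (hc i).1.2
  choose c' hc' using hc'
  refine hU' k c' (fun i => ⟨hOU.le (show ι (c' i) ∈ O by rw [hc']; exact (hc i).1.1), ?_⟩) fun i => ⟨?_, fun e => ?_⟩
  · rw [Scheme.Hom.comp_apply, hc', (hc i).2]
    rfl
  · rw [← ι.isEmbedding.isInducing.specializes_iff, hc', hc']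
    exact (hch i).1
  · exact (hch i).2 (by rw [← hc', ← hc', e])

/-- Residual transcendence degrees of generic points over a point of a base change. -/
theorem resTrdeg_eq_of_fibre_max {X' S' : Scheme.{u}} {f : X ⟶ S} [LocallyOfFiniteType f] {f' : X' ⟶ S'}
    {g' : X' ⟶ X} {g : S' ⟶ S} (hc : IsPullback g' f' f g) (z : X')
    (hmin : ∀ w : X', f' w = f' z → g' w = g' z → w ⤳ z → w = z) :
    Dual3.resTrdeg f' z = Dual3.resTrdeg f (g' z) := by
  haveI : LocallyOfFiniteType f' := MorphismProperty.of_isPullback hc ‹LocallyOfFiniteType f›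
  let x := g' z
  let ι := (closureSub x).subschemeι
  obtain ⟨x₀, hx₀⟩ : x ∈ Set.range ι := (range_closureSub x).ge (subset_closure rfl)
  obtain ⟨δ, hδ, -, -⟩ := exists_resTrdeg_chains f x
  obtain ⟨δ', hδ', -, -⟩ := exists_resTrdeg_chains f' z
  let q' := pullback.snd ι g' ≫ f'
  have sq : IsPullback (pullback.fst ι g') q' (ι ≫ f) g := (IsPullback.of_hasPullback ι g').paste_vert hc
  obtain ⟨z'', hz₁, hz₂⟩ := Scheme.Pullback.exists_preimage_pullback x₀ z (hx₀ : ι x₀ = g' z)
  have hD : FlatMor.fibreDimAt (ι ≫ f) x₀ = (δ : WithBot ℕ∞) :=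
    fibreDimAt_closureSub_max f x x₀ δ (by rw [show (closureSub x).subschemeι x₀ = x from hx₀]; exact hδ)
      fun w hw _ hwx => by
        rw [show (closureSub x).subschemeι x₀ = x from hx₀] at hwx ⊢
        exact (hwx.antisymm hw).eq
  have h1 := LocalDimBC.fibreDimAt_of_isPullback (ι ≫ f) g (pullback.fst ι g') q' sq z''
  rw [hz₁, hD] at h1
  have hr : Dual3.resTrdeg q' z'' = Dual3.resTrdeg f' z := by
    rw [SpQS.resTrdeg_precomp _ _ (SpRelDim.quasiFiniteAt_of_isPreimmersion _ _), hz₂]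
  have h2 : FlatMor.fibreDimAt q' z'' = (δ' : WithBot ℕ∞) := by
    refine fibreDimAt_eq_of_max q' z'' δ' fun m hm hfm _ => ?_
    have hgm : g' (pullback.snd ι g' m) = g' z := by
      rw [← Scheme.Hom.comp_apply, ← pullback.condition, Scheme.Hom.comp_apply]
      have h3 : ι (pullback.fst ι g' m) ⤳ x := by
        have := hm.map ((pullback.fst ι g') ≫ ι).continuous
        rw [Scheme.Hom.comp_apply, Scheme.Hom.comp_apply, hz₁, hx₀] at this
        exact this
      exact (h3.antisymm (specializes_closureSub x _)).eq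
    have hsp : pullback.snd ι g' m ⤳ z := hz₂ ▸ hm.map (pullback.snd ι g').continuous
    have hzm : pullback.snd ι g' m = z := hmin _ (by
      have := hfm
      simp only [q', Scheme.Hom.comp_apply, hz₂] at this
      exact this) hgm hsp
    have : m = z'' := (pullback.snd ι g').isEmbedding.injective (hzm.trans hz₂.symm)
    rw [this, hr, hδ']
  rw [h2] at h1
  have h4 : δ' = δ := by exact_mod_cast h1
  rw [hδ', hδ, h4]

/-- Over a valuation ring the generic points of the special fibre of a closure have the dimension of the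
generic fibre. -/
theorem resTrdeg_eq_of_valuation {R : CommRingCat.{u}} [IsDomain R] [ValuationRing R] (f : X ⟶ Spec R)
    [LocallyOfFiniteType f] {y x : X} (hyx : y ⤳ x) (hy : f y = genericPoint ↥(Spec R))
    (hmin : ∀ w, y ⤳ w → f w = f x → w ⤳ x → w = x) : Dual3.resTrdeg f x = Dual3.resTrdeg f y := by
  obtain ⟨δ, hδ, hle, hge⟩ := exists_resTrdeg_chains f x
  obtain ⟨d, hd, hdle, hdge⟩ := exists_resTrdeg_chains f y
  suffices δ = d by rw [hδ, hd, this]
  refine le_antisymm ?_ ?_
  · let ι := (closureSub y).subschemeι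
    obtain ⟨ζ, hζ⟩ : y ∈ Set.range ι := (range_closureSub y).ge (subset_closure rfl)
    obtain ⟨z, hz⟩ : x ∈ Set.range ι := (range_closureSub y).ge (specializes_iff_mem_closure.1 hyx)
    obtain ⟨δ', hδ', hle', hge'⟩ := exists_resTrdeg_chains (ι ≫ f) z
    obtain ⟨d', hd', hdle', -⟩ := exists_resTrdeg_chains (ι ≫ f) ζ
    rw [resTrdeg_closureSub, show (closureSub y).subschemeι z = x from hz, hδ] at hδ'
    rw [resTrdeg_closureSub, show (closureSub y).subschemeι ζ = y from hζ, hd] at hd'
    obtain rfl : δ = δ' := Nat.cast_injective hδ'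
    obtain rfl : d = d' := Nat.cast_injective hd'
    have hgenζ : ∀ w, ζ ⤳ w := fun w => by
      rw [← ι.isEmbedding.isInducing.specializes_iff, hζ]
      exact specializes_closureSub y w
    have hη : (ι ≫ f) ζ = genericPoint ↥(Spec R) := by rw [Scheme.Hom.comp_apply, hζ, hy]
    have h1 := hasChain_of_specializes_generic (ι ≫ f) (hgenζ z) hη hge'
    rw [← hη] at h1
    exact (h1.mono fun w _ => specializes_iff_mem_closure.1 (hgenζ w)).le hdle'
  · obtain ⟨U, hxU, hU⟩ := exists_chainsLE_near_max f hyx δ hδ hmin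
    exact hdge.le (chainsLE_of_specializes f hyx hxU hU)

/-- Generic points of fibres of the closure of a relative associated point, at points of flatness. -/
theorem mem_relAss_of_flat_min (f : X ⟶ S) [LocallyOfFiniteType f] (F : X.Modules) (hq : Coh.IsQCoh F)
    (hft : CohB1.IsFT F) {y x : X} (hy : y ∈ MoreMor.relAss f F) (hyx : y ⤳ x)
    (hfl : FlatMod.IsFlatOverAt f F x) (hmin : ∀ w, y ⤳ w → f w = f x → w ⤳ x → w = x) :
    x ∈ MoreMor.relAss f F := by
  obtain ⟨V, hV, hxV, -⟩ := exists_isAffineOpen_mem_and_subset (X := S) (x := f x) (U := ⊤) trivial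
  obtain ⟨W, hW, hxW, e⟩ := exists_isAffineOpen_mem_and_subset (X := X) (x := x) (U := f ⁻¹ᵁ V) hxV
  have hyW : y ∈ W := hyx.mem_open W.isOpen hxW
  letI : Algebra Γ(S, V) Γ(X, W) := (f.appLE V W e).hom.toAlgebra
  letI : Module Γ(S, V) Γ(F, W) := Module.compHom Γ(F, W) (f.appLE V W e).hom
  haveI : IsScalarTower Γ(S, V) Γ(X, W) Γ(F, W) := IsScalarTower.of_algebraMap_smul fun _ _ => rfl
  haveI : Algebra.FiniteType Γ(S, V) Γ(X, W) := f.finiteType_appLE hV hW e
  haveI := QC.finite_sections hW (hM := hq) hft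
  haveI := (InjFibre.isFlatOverAt_iff f F hq hV hW e x hxW).1 hfl
  have hle_iff : ∀ (z w : X) (hz : z ∈ W) (hw : w ∈ W),
      z ⤳ w ↔ (hW.primeIdealOf ⟨z, hz⟩).asIdeal ≤ (hW.primeIdealOf ⟨w, hw⟩).asIdeal := fun z w hz hw => by
    conv_lhs => rw [← show hW.fromSpec (hW.primeIdealOf ⟨z, hz⟩) = z from hW.fromSpec_primeIdealOf ⟨z, hz⟩,
      ← show hW.fromSpec (hW.primeIdealOf ⟨w, hw⟩) = w from hW.fromSpec_primeIdealOf ⟨w, hw⟩,
      hW.fromSpec.isOpenEmbedding.isInducing.specializes_iff, ← PrimeSpectrum.le_iff_specializes]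
    rfl
  refine RG.Pure.mem_relAss_of_assPts f F hq hV hW e x hxW _
    (mem_assPts_of_flat_minimal (mem_assPts_of_mem_relAss f F hq hft hV hW e y hyW hy)
      (p := (hV.primeIdealOf ⟨f x, e hxW⟩).asIdeal) (hW.primeIdealOf ⟨x, hxW⟩).asIdeal
      (congrArg PrimeSpectrum.asIdeal (IsAffineOpen.comap_primeIdealOf_appLE V hV W hW e hxW))
      ((hle_iff y x hyW hxW).1 hyx) fun q' hq' hq'c hσ hle => ?_)
  obtain ⟨hz, hz'⟩ := InjFibre.primeIdealOf_fromSpec hW ⟨q', hq'⟩
  let z : X := hW.fromSpec ⟨q', hq'⟩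
  have hzq : (hW.primeIdealOf ⟨z, hz⟩).asIdeal = q' := congrArg PrimeSpectrum.asIdeal hz'
  have hfz : f z = f x := by
    have h1 : hV.primeIdealOf ⟨f z, e hz⟩ = hV.primeIdealOf ⟨f x, e hxW⟩ :=
      PrimeSpectrum.ext ((congrArg PrimeSpectrum.asIdeal
        (IsAffineOpen.comap_primeIdealOf_appLE V hV W hW e hz)).symm.trans
          ((congrArg (Ideal.comap (algebraMap Γ(S, V) Γ(X, W))) hzq).trans hq'c))
    have := congrArg hV.fromSpec h1
    rwa [hV.fromSpec_primeIdealOf, hV.fromSpec_primeIdealOf] at this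
  have hzx := hmin z ((hle_iff y z hyW hz).2 (hσ.trans_eq hzq.symm)) hfz ((hle_iff z x hz hxW).2 (hzq.le.trans hle))
  rw [← hzq]
  exact (congrArg (fun w : W => (hW.primeIdealOf w).asIdeal) (Subtype.ext hzx)).ge

theorem min_of_isGenericPoint (f : X ⟶ S) {Z : Set X} {x : X} {s : S} (hx : x ∈ Z) (hxs : f x = s)
    (hgen : ∃ C ∈ irreducibleComponents ↑(Z ∩ f ⁻¹' {s}), IsGenericPoint (⟨x, hx, hxs⟩ : ↑(Z ∩ f ⁻¹' {s})) C)
    (w : X) (hw : w ∈ Z) (hws : f w = s) (hsp : w ⤳ x) : w = x := by
  obtain ⟨C, hC, hg⟩ := hgen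
  let w' : ↑(Z ∩ f ⁻¹' {s}) := ⟨w, hw, hws⟩
  have h1 : w' ⤳ (⟨x, hx, hxs⟩ : ↑(Z ∩ f ⁻¹' {s})) := (subtype_specializes_iff _ _).2 hsp
  have hsub : C ⊆ closure {w'} := hg.def ▸ closure_minimal
    (Set.singleton_subset_iff.2 (specializes_iff_mem_closure.1 h1)) isClosed_closure
  have hw' : IsGenericPoint w' C := (hC.2 isIrreducible_singleton.closure hsub).antisymm hsub
  exact congrArg Subtype.val (hw'.eq hg)

theorem isGenericPoint_of_min (f : X ⟶ S) {A : Set X} (hA : IsClosed A) {x : X} {s : S} (hx : x ∈ A) (hxs : f x = s)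
    (hmin : ∀ w, w ∈ A → f w = s → w ⤳ x → w = x) :
    ∃ C ∈ irreducibleComponents ↑(A ∩ f ⁻¹' {s}), IsGenericPoint (⟨x, hx, hxs⟩ : ↑(A ∩ f ⁻¹' {s})) C := by
  obtain ⟨γ, hγA, hγs, hγ, C, hC, hg⟩ := S1481.exists_generic f A hA s x hx hxs
  have := hmin γ hγA hγs hγ
  subst this
  exact ⟨C, hC, hg⟩

/-- Generic points of fibres of the closure of a relative associated point, at points of flatness, are
relative associated and have the same residual transcendence degree. -/
theorem relAss_and_resTrdeg_of_flat (f : X ⟶ S) [LocallyOfFiniteType f] (F : X.Modules) (hq : Coh.IsQCoh F)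
    (hft : CohB1.IsFT F) {y x : X} (hy : y ∈ MoreMor.relAss f F) (hyx : y ⤳ x)
    (hfl : FlatMod.IsFlatOverAt f F x) (hmin : ∀ w, y ⤳ w → f w = f x → w ⤳ x → w = x) :
    x ∈ MoreMor.relAss f F ∧ Dual3.resTrdeg f x = Dual3.resTrdeg f y := by
  refine ⟨mem_relAss_of_flat_min f F hq hft hy hyx hfl hmin, ?_⟩
  obtain ⟨R, _, _, _, g, -, hgs, y', hy't, hy'Y, hy'y, hy'gen, x', hx'c, hx's, hx'x, hx'gen⟩ :=
    S1481.result f y (f x) x (specializes_iff_mem_closure.1 hyx) rfl
      (isGenericPoint_of_min f isClosed_closure (specializes_iff_mem_closure.1 hyx) rfl fun w hw hws hsp =>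
        hmin w (specializes_iff_mem_closure.2 hw) hws hsp)
  have hc : IsPullback (pullback.fst f g) (pullback.snd f g) f g := IsPullback.of_hasPullback f g
  haveI : IsDomain (CommRingCat.of R) := inferInstanceAs (IsDomain R)
  haveI : ValuationRing (CommRingCat.of R) := inferInstanceAs (ValuationRing R)
  have hy'min : ∀ w, pullback.snd f g w = pullback.snd f g y' → pullback.fst f g w = pullback.fst f g y' →
      w ⤳ y' → w = y' := fun w hw hgw hsp =>
    min_of_isGenericPoint (pullback.snd f g) hy'Y hy't hy'gen w (by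
      rw [Set.mem_preimage, hgw]; exact hy'Y) (hw.trans hy't) hsp
  have hx'min : ∀ w, y' ⤳ w → pullback.snd f g w = pullback.snd f g x' → w ⤳ x' → w = x' := fun w hw hws hsp =>
    min_of_isGenericPoint (pullback.snd f g) hx'c hx's hx'gen w (specializes_iff_mem_closure.1 hw)
      (hws.trans hx's) hsp
  let P := (Scheme.Modules.pullback (pullback.fst f g)).obj F
  have hy' : y' ∈ MoreMor.relAss (pullback.snd f g) P :=
    (mem_relAss_baseChange_iff hc F hq hft y').2 ⟨by rw [hy'y]; exact hy, hy'min⟩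
  have hx' : x' ∈ MoreMor.relAss (pullback.snd f g) P :=
    mem_relAss_of_flat_min _ P (QC.isQCoh_pullback _ hq) (ModDesc.isFT_pullback _ hq hft) hy'
      (specializes_iff_mem_closure.2 hx'c) (FlatModBC.isFlatOverAt_baseChange hc F x' (by rw [hx'x]; exact hfl)) hx'min
  have hx'fib := ((mem_relAss_baseChange_iff hc F hq hft x').1 hx').2
  rw [← hy'y, ← hx'x, ← resTrdeg_eq_of_fibre_max hc y' hy'min, ← resTrdeg_eq_of_fibre_max hc x' hx'fib]
  exact resTrdeg_eq_of_valuation (pullback.snd f g) (specializes_iff_mem_closure.2 hx'c)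
    (hy't.trans (genericPoint_eq_bot_of_affine (CommRingCat.of R)).symm) hx'min

end Groth.Agent.FlatFunLib
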