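import Mathlib
import Groth.Agent.ModDesc.Iso
import Groth.Agent.KFlat.Pullback
import Groth.Agent.W7Hull.Sub
import Groth.Agent.FlatFunLib.Basic

/-!
Conditions on a pulled back homomorphism of modules: behaviour under pullback and descent along flat
jointly surjective families.
-/

set_option autoImplicit false
set_option linter.style.haveILetI false
set_option backward.isDefEq.respectTransparency false

universe u

open CategoryTheory CategoryTheory.Limits AlgebraicGeometry Opposite TensorProduct

namespace Groth.Agent.FlatFunLib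

variable {X Y Y' : Scheme.{u}} {F G : X.Modules} (u : F ⟶ G)

/-- The pullback along a composite as an arrow. -/
noncomputable def arrowTrans (q : Y' ⟶ Y) (r : Y ⟶ X) :
    Arrow.mk ((Scheme.Modules.pullback q).map ((Scheme.Modules.pullback r).map u)) ≅
      Arrow.mk ((Scheme.Modules.pullback (q ≫ r)).map u) :=
  Arrow.isoMk ((ModDesc.trIso q r rfl).app F) ((ModDesc.trIso q r rfl).app G)
    ((ModDesc.trIso q r rfl).hom.naturality u).symm

theorem map_eq_zero_trans (q : Y' ⟶ Y) (r : Y ⟶ X) :
    (Scheme.Modules.pullback (q ≫ r)).map u = 0 ↔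
      (Scheme.Modules.pullback q).map ((Scheme.Modules.pullback r).map u) = 0 := by
  have h := (ModDesc.trIso q r rfl).hom.naturality u
  constructor
  · intro h0
    rw [h0, comp_zero] at h
    exact (cancel_mono ((ModDesc.trIso q r rfl).hom.app G)).1 (h.trans zero_comp.symm)
  · intro h0
    have h1 : (Scheme.Modules.pullback r ⋙ Scheme.Modules.pullback q).map u = 0 := h0
    rw [h1, zero_comp] at h
    exact (cancel_epi ((ModDesc.trIso q r rfl).hom.app F)).1 (h.symm.trans comp_zero.symm)

theorem isIso_trans (q : Y' ⟶ Y) (r : Y ⟶ X) :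
    IsIso ((Scheme.Modules.pullback (q ≫ r)).map u) ↔
      IsIso ((Scheme.Modules.pullback q).map ((Scheme.Modules.pullback r).map u)) :=
  ModDesc.isIso_map_of_trans q r rfl u

theorem epi_trans (q : Y' ⟶ Y) (r : Y ⟶ X) :
    Epi ((Scheme.Modules.pullback (q ≫ r)).map u) ↔
      Epi ((Scheme.Modules.pullback q).map ((Scheme.Modules.pullback r).map u)) :=
  ((MorphismProperty.epimorphisms _).arrow_mk_iso_iff (arrowTrans u q r)).symm

theorem mono_trans (q : Y' ⟶ Y) (r : Y ⟶ X) :
    Mono ((Scheme.Modules.pullback (q ≫ r)).map u) ↔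
      Mono ((Scheme.Modules.pullback q).map ((Scheme.Modules.pullback r).map u)) :=
  ((MorphismProperty.monomorphisms _).arrow_mk_iso_iff (arrowTrans u q r)).symm

variable {M N : Y.Modules}

/-- A homomorphism of modules vanishes if it does on all stalks. -/
theorem eq_zero_of_stalks (h : M ⟶ N) (hz : ∀ y : Y, (DerSch.stalkFunctor Y y).map h = 0) : h = 0 :=
  W7Hull.eq_zero_of_stalk fun y z => by
    show ((DerSch.stalkFunctor Y y).map h).hom z = 0
    rw [hz y]
    rfl

/-- Monomorphisms are detected on stalks. -/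
theorem mono_of_stalks (h : M ⟶ N) (hz : ∀ y : Y, Mono ((DerSch.stalkFunctor Y y).map h)) : Mono h := by
  refine Preadditive.mono_of_kernel_zero (eq_zero_of_stalks _ fun y => ?_)
  haveI := hz y
  rw [← cancel_mono ((DerSch.stalkFunctor Y y).map h), ← Functor.map_comp, kernel.condition, zero_comp,
    Functor.map_zero]

/-- Epimorphisms are detected on stalks. -/
theorem epi_of_stalks (h : M ⟶ N) (hz : ∀ y : Y, Epi ((DerSch.stalkFunctor Y y).map h)) : Epi h := by
  refine Preadditive.epi_of_cokernel_zero (eq_zero_of_stalks _ fun y => ?_)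
  haveI := hz y
  rw [← cancel_epi ((DerSch.stalkFunctor Y y).map h), ← Functor.map_comp, cokernel.condition, comp_zero,
    Functor.map_zero]

/-- Extension of scalars along a faithfully flat map is faithful. -/
theorem faithful_extendScalars {R L : Type u} [CommRing R] [CommRing L] (φ : R →+* L) (hφ : φ.FaithfullyFlat) :
    (ModuleCat.extendScalars.{u, u, u} φ).Faithful where
  map_injective {A B} a b hab := by
    algebraize [φ]
    ext m
    apply Module.FaithfullyFlat.tensorProduct_mk_injective (A := R) (B := L) B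
    exact congr($(hab).hom ((1 : L) ⊗ₜ[R] m))

/-- Extension of scalars along a flat map preserves monomorphisms. -/
theorem preservesMono_extendScalars {R L : Type u} [CommRing R] [CommRing L] (φ : R →+* L) (hφ : φ.Flat) :
    (ModuleCat.extendScalars.{u, u, u} φ).PreservesMonomorphisms where
  preserves {A B} a ha := by
    algebraize [φ]
    rw [ModuleCat.mono_iff_injective] at ha ⊢
    exact Module.Flat.lTensor_preserves_injective_linearMap (M := L) a.hom ha

variable (q : Y' ⟶ Y) (y' : Y')

noncomputable def stalk_pullback (h : M ⟶ N) :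
    Arrow.mk ((DerSch.stalkFunctor Y' y').map ((Scheme.Modules.pullback q).map h)) ≅
      Arrow.mk ((ModuleCat.extendScalars.{u, u, u} (q.stalkMap y').hom).map ((DerSch.stalkFunctor Y (q y')).map h)) :=
  Arrow.isoMk ((KFlat.pullStalkIso q y').app M) ((KFlat.pullStalkIso q y').app N)
    ((KFlat.pullStalkIso q y').hom.naturality h).symm

theorem faithful_at [Flat q] : (ModuleCat.extendScalars.{u, u, u} (q.stalkMap y').hom).Faithful := by
  refine faithful_extendScalars _ ?_
  have hf : (q.stalkMap y').hom.Flat := Flat.stalkMap q y'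
  letI : Algebra (Y.presheaf.stalk (q y')) (Y'.presheaf.stalk y') := (q.stalkMap y').hom.toAlgebra
  haveI : IsLocalHom (algebraMap (Y.presheaf.stalk (q y')) (Y'.presheaf.stalk y')) :=
    inferInstanceAs (IsLocalHom (q.stalkMap y').hom)
  haveI : Module.Flat (Y.presheaf.stalk (q y')) (Y'.presheaf.stalk y') := hf
  exact Module.FaithfullyFlat.of_flat_of_isLocalHom

/-- Pullback along a flat morphism preserves monomorphisms. -/
theorem mono_pullback_of_flat [Flat q] (h : M ⟶ N) [Mono h] : Mono ((Scheme.Modules.pullback q).map h) := by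
  refine mono_of_stalks _ fun z => ((MorphismProperty.monomorphisms _).arrow_mk_iso_iff (stalk_pullback q z h)).2 ?_
  haveI := preservesMono_extendScalars _ (Flat.stalkMap q z)
  exact MorphismProperty.monomorphisms.infer_property _

theorem stalk_map_eq_zero [Flat q] (h : M ⟶ N) (h0 : (Scheme.Modules.pullback q).map h = 0) :
    (DerSch.stalkFunctor Y (q y')).map h = 0 := by
  haveI := faithful_at q y'
  apply (ModuleCat.extendScalars.{u, u, u} (q.stalkMap y').hom).map_injective
  rw [Functor.map_zero]
  have h1 := (KFlat.pullStalkIso q y').hom.naturality h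
  rw [show (Scheme.Modules.pullback q ⋙ DerSch.stalkFunctor Y' y').map h = 0 from
    ((DerSch.stalkFunctor Y' y').congr_map h0).trans ((DerSch.stalkFunctor Y' y').map_zero _ _), zero_comp] at h1
  exact (cancel_epi ((KFlat.pullStalkIso q y').hom.app M)).1 (h1.symm.trans comp_zero.symm)

theorem stalk_map_mono [Flat q] (h : M ⟶ N) (hm : Mono ((Scheme.Modules.pullback q).map h)) :
    Mono ((DerSch.stalkFunctor Y (q y')).map h) := by
  haveI := faithful_at q y'
  haveI : Mono ((DerSch.stalkFunctor Y' y').map ((Scheme.Modules.pullback q).map h)) := inferInstance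
  exact (ModuleCat.extendScalars.{u, u, u} (q.stalkMap y').hom).mono_of_mono_map
    (((MorphismProperty.monomorphisms _).arrow_mk_iso_iff (stalk_pullback q y' h)).1
      (MorphismProperty.monomorphisms.infer_property _))

theorem stalk_map_epi [Flat q] (h : M ⟶ N) (hm : Epi ((Scheme.Modules.pullback q).map h)) :
    Epi ((DerSch.stalkFunctor Y (q y')).map h) := by
  haveI := faithful_at q y'
  haveI : Epi ((DerSch.stalkFunctor Y' y').map ((Scheme.Modules.pullback q).map h)) := inferInstance
  exact (ModuleCat.extendScalars.{u, u, u} (q.stalkMap y').hom).epi_of_epi_map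
    (((MorphismProperty.epimorphisms _).arrow_mk_iso_iff (stalk_pullback q y' h)).1
      (MorphismProperty.epimorphisms.infer_property _))

/-- Vanishing descends along a flat jointly surjective family. -/
theorem map_eq_zero_of_cover (r : Y ⟶ X) (hcov : ∀ z : Y, ∃ (Y' : Scheme.{u}) (q : Y' ⟶ Y), Flat q ∧
    (Scheme.Modules.pullback (q ≫ r)).map u = 0 ∧ ∃ w, q w = z) : (Scheme.Modules.pullback r).map u = 0 :=
  eq_zero_of_stalks _ fun z => by
    obtain ⟨Y', q, hq, h, w, rfl⟩ := hcov z
    haveI := hq
    exact stalk_map_eq_zero q w _ ((map_eq_zero_trans u q r).1 h)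

/-- Injectivity descends along a flat jointly surjective family. -/
theorem mono_of_cover (r : Y ⟶ X) (hcov : ∀ z : Y, ∃ (Y' : Scheme.{u}) (q : Y' ⟶ Y), Flat q ∧
    Mono ((Scheme.Modules.pullback (q ≫ r)).map u) ∧ ∃ w, q w = z) : Mono ((Scheme.Modules.pullback r).map u) :=
  mono_of_stalks _ fun z => by
    obtain ⟨Y', q, hq, h, w, rfl⟩ := hcov z
    haveI := hq
    exact stalk_map_mono q w _ ((mono_trans u q r).1 h)

/-- Surjectivity descends along a flat jointly surjective family. -/
theorem epi_of_cover (r : Y ⟶ X) (hcov : ∀ z : Y, ∃ (Y' : Scheme.{u}) (q : Y' ⟶ Y), Flat q ∧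
    Epi ((Scheme.Modules.pullback (q ≫ r)).map u) ∧ ∃ w, q w = z) : Epi ((Scheme.Modules.pullback r).map u) :=
  epi_of_stalks _ fun z => by
    obtain ⟨Y', q, hq, h, w, rfl⟩ := hcov z
    haveI := hq
    exact stalk_map_epi q w _ ((epi_trans u q r).1 h)

/-- Being an isomorphism descends along a flat jointly surjective family. -/
theorem isIso_of_cover (r : Y ⟶ X) (hcov : ∀ z : Y, ∃ (Y' : Scheme.{u}) (q : Y' ⟶ Y), Flat q ∧
    IsIso ((Scheme.Modules.pullback (q ≫ r)).map u) ∧ ∃ w, q w = z) : IsIso ((Scheme.Modules.pullback r).map u) := by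
  haveI := mono_of_cover u r fun z => let ⟨Y', q, hq, h, hw⟩ := hcov z; ⟨Y', q, hq, inferInstance, hw⟩
  haveI := epi_of_cover u r fun z => let ⟨Y', q, hq, h, hw⟩ := hcov z; ⟨Y', q, hq, inferInstance, hw⟩
  exact isIso_of_mono_of_epi _

end Groth.Agent.FlatFunLib
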