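import Groth.Agent.FlatFunLib.RelAssFlatClosure
import Groth.Agent.S2394
import Groth.Agent.QC.SpecFT
import Groth.Agent.FibCrit.Stalk

/-!
Fibre dimension of a flat algebra domain at a prime equals the transcendence degree.
-/

set_option autoImplicit false
set_option linter.style.haveILetI false
set_option backward.isDefEq.respectTransparency false

universe u

open CategoryTheory AlgebraicGeometry IsLocalRing

namespace Groth.Agent.FlatFunLib

theorem trdeg_eq_of_ringEquiv_comm {K L K' L' : Type u} [CommRing K] [CommRing L] [CommRing K'] [CommRing L']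
    [IsDomain K] [IsDomain L] [IsDomain K'] [IsDomain L'] (j : K →+* L) (j' : K' →+* L') (hj : Function.Injective j)
    (eK : K ≃+* K') (eL : L ≃+* L') (h : ∀ a, eL (j a) = j' (eK a)) :
    @Algebra.trdeg K L _ _ j.toAlgebra = @Algebra.trdeg K' L' _ _ j'.toAlgebra := by
  letI := j.toAlgebra
  letI := j'.toAlgebra
  letI : Algebra K K' := eK.toRingHom.toAlgebra
  letI : Algebra K L' := (j'.comp eK.toRingHom).toAlgebra
  haveI : IsScalarTower K K' L' := IsScalarTower.of_algebraMap_eq fun _ => rfl
  let e : L ≃ₐ[K] L' := AlgEquiv.ofRingEquiv (f := eL) h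
  rw [e.trdeg_eq]
  haveI : Algebra.IsAlgebraic K K' := ⟨fun y => by
    rw [show y = algebraMap K K' (eK.symm y) from (eK.apply_symm_apply y).symm]
    exact isAlgebraic_algebraMap _⟩
  have hj' : Function.Injective j' := fun a b hab => eK.symm.injective (hj (eL.injective (by
    rw [h, h, eK.apply_symm_apply, eK.apply_symm_apply, hab])))
  haveI : FaithfulSMul K K' := (faithfulSMul_iff_algebraMap_injective _ _).2 eK.injective
  haveI : FaithfulSMul K' L' := (faithfulSMul_iff_algebraMap_injective _ _).2 hj'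
  rw [← trdeg_add_eq K K' (A := L'), trdeg_eq_zero, zero_add]

theorem trdeg_residueField_eq_of_bijective {R S R' S' : Type u} [CommRing R] [CommRing S] [CommRing R'] [CommRing S']
    [IsLocalRing R] [IsLocalRing S] [IsLocalRing R'] [IsLocalRing S'] (φ : R →+* S) [IsLocalHom φ] (φ' : R' →+* S')
    [IsLocalHom φ'] (eR : R ≃+* R') (eS : S ≃+* S') (h : ∀ a, eS (φ a) = φ' (eR a)) :
    @Algebra.trdeg (ResidueField R) (ResidueField S) _ _ (ResidueField.map φ).toAlgebra =
      @Algebra.trdeg (ResidueField R') (ResidueField S') _ _ (ResidueField.map φ').toAlgebra :=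
  trdeg_eq_of_ringEquiv_comm _ _ (ResidueField.map φ).injective (ResidueField.mapEquiv eR) (ResidueField.mapEquiv eS)
    fun a => by
      obtain ⟨a, rfl⟩ := IsLocalRing.residue_surjective a
      exact congrArg (IsLocalRing.residue S') (h a)

theorem nontrivial_stalk_tilde {B : CommRingCat.{u}} (N : ModuleCat.{u} B) (p : Spec B) (n : N)
    (hn : ∀ u : B, u ∉ p.asIdeal → u • n ≠ 0) : Nontrivial ((tilde N).presheaf.stalk p) := by
  let g := (tilde.toStalk N p).hom
  refine ⟨g n, 0, fun he => ?_⟩
  obtain ⟨u, hu⟩ := (IsLocalizedModule.eq_zero_iff p.asIdeal.primeCompl g).1 he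
  exact hn u u.2 hu

theorem maximalIdeal_stalk_eq_bot {R : Type u} [CommRing R] [IsDomain R] (p : PrimeSpectrum R) (hp : p.asIdeal = ⊥) :
    maximalIdeal ((Spec (CommRingCat.of R)).presheaf.stalk p) = ⊥ := by
  letI : Algebra R ((Spec (CommRingCat.of R)).presheaf.stalk p) := StructureSheaf.stalkAlgebra _ _
  haveI : IsLocalization.AtPrime ((Spec (CommRingCat.of R)).presheaf.stalk p) p.asIdeal :=
    StructureSheaf.IsLocalization.to_stalk _ _
  rw [← IsLocalization.AtPrime.map_eq_maximalIdeal p.asIdeal ((Spec (CommRingCat.of R)).presheaf.stalk p), hp,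
    Ideal.map_bot]

/-- The residual transcendence degree at the generic point. -/
theorem resTrdeg_generic {A C : Type u} [CommRing A] [CommRing C] [IsDomain A] [IsDomain C] [Algebra A C]
    [FaithfulSMul A C] (η : Spec (CommRingCat.of C)) (hη : η.asIdeal = ⊥) :
    Dual3.resTrdeg (Spec.map (CommRingCat.ofHom (algebraMap A C))) η = Algebra.trdeg A C := by
  let f := Spec.map (CommRingCat.ofHom (algebraMap A C))
  have hfη : (f η).asIdeal = ⊥ := by
    show Ideal.comap (algebraMap A C) η.asIdeal = ⊥
    rw [hη, ← RingHom.ker_eq_comap_bot]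
    exact (RingHom.injective_iff_ker_eq_bot _).1 (FaithfulSMul.algebraMap_injective A C)
  let Kη := (Spec (CommRingCat.of C)).residueField η
  let Oη := (Spec (CommRingCat.of C)).presheaf.stalk η
  let Oξ := (Spec (CommRingCat.of A)).presheaf.stalk (f η)
  let Kξ := (Spec (CommRingCat.of A)).residueField (f η)
  letI : Algebra C Oη := StructureSheaf.stalkAlgebra _ _
  haveI : IsLocalization.AtPrime Oη η.asIdeal := StructureSheaf.IsLocalization.to_stalk _ _
  letI : Algebra A Oξ := StructureSheaf.stalkAlgebra _ _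
  haveI : IsLocalization.AtPrime Oξ (f η).asIdeal := StructureSheaf.IsLocalization.to_stalk _ _
  letI : Algebra C Kη := (((Spec (CommRingCat.of C)).residue η).hom.comp (algebraMap C Oη)).toAlgebra
  letI : Algebra A Kξ := (((Spec (CommRingCat.of A)).residue (f η)).hom.comp (algebraMap A Oξ)).toAlgebra
  letI : Algebra Kξ Kη := (f.residueFieldMap η).hom.toAlgebra
  letI : Algebra A Kη := ((algebraMap C Kη).comp (algebraMap A C)).toAlgebra
  haveI : IsScalarTower A C Kη := IsScalarTower.of_algebraMap_eq fun _ => rfl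
  haveI : IsScalarTower A Kξ Kη := IsScalarTower.of_algebraMap_eq fun a =>
    (congrArg ((Spec (CommRingCat.of C)).residue η).hom
      (AlgebraicGeometry.stalkMap_toStalk_apply (CommRingCat.ofHom (algebraMap A C)) η a)).symm
  have hinj : ∀ (R : Type u) [CommRing R] [IsDomain R] (O : Type u) [CommRing O] [IsLocalRing O] [Algebra R O]
      (p : Ideal R) [p.IsPrime] [IsLocalization.AtPrime O p], p = ⊥ → maximalIdeal O = ⊥ →
      Function.Injective ((IsLocalRing.residue O).comp (algebraMap R O)) ∧
        ∀ z : ResidueField O, ∃ (r s : R), s ≠ 0 ∧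
          z * (IsLocalRing.residue O).comp (algebraMap R O) s = (IsLocalRing.residue O).comp (algebraMap R O) r := by
    intro R _ _ O _ _ _ p _ _ hp hm
    refine ⟨(injective_iff_map_eq_zero _).2 fun r hr => ?_, fun z => ?_⟩
    · have h1 : algebraMap R O r ∈ maximalIdeal O := (IsLocalRing.residue_eq_zero_iff _).1 hr
      rw [IsLocalization.AtPrime.to_map_mem_maximal_iff O p, hp] at h1
      exact h1
    · obtain ⟨z, rfl⟩ := IsLocalRing.residue_surjective z
      obtain ⟨⟨r, s⟩, hrs⟩ := IsLocalization.surj p.primeCompl z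
      refine ⟨r, s, fun h0 => s.2 (hp ▸ h0), ?_⟩
      rw [RingHom.comp_apply, RingHom.comp_apply, ← map_mul, hrs]
  obtain ⟨hCi, hCs⟩ := hinj C Oη η.asIdeal hη (maximalIdeal_stalk_eq_bot η hη)
  obtain ⟨hAi, hAs⟩ := hinj A Oξ (f η).asIdeal hfη (maximalIdeal_stalk_eq_bot _ hfη)
  haveI : FaithfulSMul C Kη := (faithfulSMul_iff_algebraMap_injective _ _).2 hCi
  haveI : FaithfulSMul A Kξ := (faithfulSMul_iff_algebraMap_injective _ _).2 hAi
  haveI : FaithfulSMul Kξ Kη := (faithfulSMul_iff_algebraMap_injective _ _).2 (f.residueFieldMap η).hom.injective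
  have halg : ∀ (R K : Type u) [CommRing R] [IsDomain R] [Field K] [Algebra R K],
      (∀ z : K, ∃ r s, s ≠ 0 ∧ z * algebraMap R K s = algebraMap R K r) → Algebra.IsAlgebraic R K := fun R K _ _ _ _ h => by
    refine ⟨fun z => ?_⟩
    obtain ⟨r, s, hs, hz⟩ := h z
    refine ⟨Polynomial.C s * Polynomial.X - Polynomial.C r, fun e => hs ?_, ?_⟩
    rotate_left
    · rw [map_sub, map_mul, Polynomial.aeval_C, Polynomial.aeval_C, Polynomial.aeval_X, mul_comm, hz, sub_self]
    simpa using congrArg (fun p => Polynomial.coeff p 1) e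
  haveI : Algebra.IsAlgebraic C Kη := halg C Kη hCs
  haveI : Algebra.IsAlgebraic A Kξ := halg A Kξ hAs
  have h2 : Algebra.trdeg A Kη = Algebra.trdeg A C := by
    rw [← trdeg_add_eq A C (A := Kη), trdeg_eq_zero (R := C) (A := Kη), add_zero]
  have h3 : Algebra.trdeg A Kη = Algebra.trdeg Kξ Kη := by
    rw [← trdeg_add_eq A Kξ (A := Kη), trdeg_eq_zero (R := A) (A := Kξ), zero_add]
  rw [← h2, h3]
  rfl

/-- A finite type chart of an essentially finite type local algebra. -/
theorem exists_chart {A B : Type u} [CommRing A] [CommRing B] [IsDomain B] [IsLocalRing A] [IsLocalRing B] [Algebra A B]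
    [IsLocalHom (algebraMap A B)] [Algebra.EssFiniteType A B] :
    ∃ (q : Ideal (Algebra.EssFiniteType.subalgebra A B)) (hq : q.IsPrime),
      IsLocalization.AtPrime B q ∧
      q.comap (algebraMap A (Algebra.EssFiniteType.subalgebra A B)) = maximalIdeal A ∧
      ∃ b δ : ℕ, ringKrullDim (B ⧸ Ideal.map (algebraMap A B) (maximalIdeal A)) = b ∧
        Algebra.trdeg (ResidueField A) (ResidueField B) = δ ∧
        FlatMor.fibreDimAt (Spec.map (CommRingCat.ofHom (algebraMap A (Algebra.EssFiniteType.subalgebra A B))))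
          (⟨q, hq⟩ : PrimeSpectrum _) = ((b + δ : ℕ) : WithBot ℕ∞) := by
  let C := Algebra.EssFiniteType.subalgebra A B
  let q : Ideal C := (maximalIdeal B).comap (algebraMap C B)
  have hq : q.primeCompl = Algebra.EssFiniteType.submonoid A B :=
    Submonoid.ext fun c => IsLocalRing.notMem_maximalIdeal
  haveI : IsLocalization.AtPrime B q := by
    show IsLocalization q.primeCompl B
    rw [hq]
    infer_instance
  let f := Spec.map (CommRingCat.ofHom (algebraMap A C))
  haveI : LocallyOfFiniteType f :=
    HasRingHomProperty.Spec_iff.2 (RingHom.finiteType_algebraMap.2 (inferInstance : Algebra.FiniteType A C))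
  let x : Spec (CommRingCat.of C) := (⟨q, inferInstance⟩ : PrimeSpectrum C)
  obtain ⟨b, δ, hb, hδ, hsum⟩ := SpRelDim.fibreDimAt_eq_add_resTrdeg f x
  -- the local rings
  let Ox := (Spec (CommRingCat.of C)).presheaf.stalk x
  letI : Algebra C Ox := StructureSheaf.stalkAlgebra _ _
  haveI : IsLocalization.AtPrime Ox q := StructureSheaf.IsLocalization.to_stalk _ _
  let eB : B ≃ₐ[C] Ox := IsLocalization.algEquiv q.primeCompl B Ox
  let Oy := (Spec (CommRingCat.of A)).presheaf.stalk (f x)
  letI : Algebra A Oy := StructureSheaf.stalkAlgebra _ _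
  haveI : IsLocalization.AtPrime Oy (f x).asIdeal := StructureSheaf.IsLocalization.to_stalk _ _
  have hp : (f x).asIdeal = maximalIdeal A := by
    show Ideal.comap (algebraMap A C) q = _
    rw [Ideal.comap_comap, ← IsScalarTower.algebraMap_eq]
    exact ((IsLocalRing.local_hom_TFAE (algebraMap A B)).out 0 4).1 ‹IsLocalHom (algebraMap A B)›
  have hunits : ∀ a : (f x).asIdeal.primeCompl, IsUnit (algebraMap A A a) := fun a => by
    have ha : (a : A) ∉ maximalIdeal A := hp ▸ a.2
    exact IsLocalRing.notMem_maximalIdeal.1 ha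
  let eA : A ≃+* Oy := (IsLocalization.atUnits A (f x).asIdeal.primeCompl (S := Oy) (fun a ha => hunits ⟨a, ha⟩)).toRingEquiv
  have hcomm : ∀ a, eB (algebraMap A B a) = (f.stalkMap x).hom (eA a) := fun a => by
    rw [IsScalarTower.algebraMap_apply A C B, eB.commutes]
    exact (AlgebraicGeometry.stalkMap_toStalk_apply (CommRingCat.ofHom (algebraMap A C)) x a).symm
  haveI : IsLocalHom (f.stalkMap x).hom := inferInstance
  have he : Algebra.trdeg (ResidueField A) (ResidueField B) = (δ : Cardinal.{u}) := by
    rw [← hδ]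
    exact trdeg_residueField_eq_of_bijective (algebraMap A B) (f.stalkMap x).hom eA eB.toRingEquiv hcomm
  have hd : ringKrullDim (B ⧸ Ideal.map (algebraMap A B) (maximalIdeal A)) = (b : WithBot ℕ∞) := by
    rw [← hb]
    have hker := FibCrit.fiberι_stalkMap f (f x) (f.asFiber x)
    have key : ∀ (y : Spec (CommRingCat.of C)) (hy : y = x),
        Nonempty ((B ⧸ Ideal.map (algebraMap A B) (maximalIdeal A)) ≃+* ((Spec (CommRingCat.of C)).presheaf.stalk y ⧸
          (maximalIdeal ((Spec (CommRingCat.of A)).presheaf.stalk (f y))).map (f.stalkMap y).hom)) := by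
      rintro _ rfl
      refine ⟨Ideal.quotientEquiv _ _ eB.toRingEquiv ?_⟩
      have hm : maximalIdeal Oy = (maximalIdeal A).map eA.toRingHom := by
        ext r
        rw [Ideal.mem_map_iff_of_surjective eA.toRingHom eA.surjective]
        refine ⟨fun hr => ⟨eA.symm r, fun hu => hr (by simpa using hu.map eA), eA.apply_symm_apply r⟩, ?_⟩
        rintro ⟨a, ha, rfl⟩ hu
        exact ha (by simpa using hu.map eA.symm)
      show Ideal.map (f.stalkMap x).hom (maximalIdeal Oy) = _
      rw [hm, Ideal.map_map, Ideal.map_map]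
      congr 1
      exact RingHom.ext fun a => (hcomm a).symm
    obtain ⟨e1⟩ := key _ (f.fiberι_asFiber x)
    exact ringKrullDim_eq_of_ringEquiv
      (e1.trans ((Ideal.quotEquivOfEq hker.2.symm).trans (RingHom.quotientKerEquivOfSurjective hker.1)))
  exact ⟨q, inferInstance, inferInstance, hp, b, δ, hd, he, hsum⟩

/-- The dimension formula for a flat local homomorphism of local domains, essentially of finite type. -/
theorem exists_dims_of_flat {A B : Type u} [CommRing A] [CommRing B] [IsDomain A] [IsDomain B] [IsLocalRing A]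
    [IsLocalRing B] [Algebra A B] [IsLocalHom (algebraMap A B)] [FaithfulSMul A B] [Algebra.EssFiniteType A B]
    [Module.Flat A B] :
    ∃ d e : ℕ, ringKrullDim (B ⧸ Ideal.map (algebraMap A B) (maximalIdeal A)) = d ∧
      Algebra.trdeg (ResidueField A) (ResidueField B) = e ∧ Algebra.trdeg A B = (d + e : ℕ) := by
  let C := Algebra.EssFiniteType.subalgebra A B
  obtain ⟨q, _, _, hp, b, δ, hd, he, hsum⟩ := exists_chart (A := A) (B := B)
  let f := Spec.map (CommRingCat.ofHom (algebraMap A C))
  haveI : LocallyOfFiniteType f :=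
    HasRingHomProperty.Spec_iff.2 (RingHom.finiteType_algebraMap.2 (inferInstance : Algebra.FiniteType A C))
  let M : ModuleCat.{u} (CommRingCat.of C) := ModuleCat.of C C
  haveI : Module.Finite C M := inferInstanceAs (Module.Finite C C)
  letI : Module A M := inferInstanceAs (Module A C)
  haveI : IsScalarTower A C M := inferInstanceAs (IsScalarTower A C C)
  let F := tilde M
  have hqc : Coh.IsQCoh F := QC.isQCoh_tilde M
  have hft : CohB1.IsFT F := QC.isFT_tilde M
  let x : Spec (CommRingCat.of C) := (⟨q, inferInstance⟩ : PrimeSpectrum C)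
  have hCinj : Function.Injective (algebraMap A C) := fun a b hab => FaithfulSMul.algebraMap_injective A B (by
    rw [IsScalarTower.algebraMap_apply A C B, hab, ← IsScalarTower.algebraMap_apply])
  -- flatness at generalisations of `x`
  haveI hCq : Module.Flat A (LocalizedModule q.primeCompl C) := by
    let e := IsLocalizedModule.iso q.primeCompl (Algebra.linearMap C B)
    exact Module.Flat.of_linearEquiv (e.restrictScalars A)
  have hflat : ∀ w : Spec (CommRingCat.of C), w ⤳ x → FlatMod.IsFlatOverAt f F w := fun w hw => by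
    rw [S2394.flatAt_tilde_iff (B := CommRingCat.of C) M w]
    haveI := hCq
    exact flat_localized_of_le (A := A) (N := C) (Q := q) ((PrimeSpectrum.le_iff_specializes _ _).2 hw)
  let η : Spec (CommRingCat.of C) := (⊥ : PrimeSpectrum C)
  have hfη : f η = (⊥ : PrimeSpectrum A) := PrimeSpectrum.ext (by
    show Ideal.comap (algebraMap A C) ⊥ = ⊥
    rw [← RingHom.ker_eq_comap_bot]
    exact (RingHom.injective_iff_ker_eq_bot _).1 hCinj)
  have hgen : ∀ w : Spec (CommRingCat.of C), η ⤳ w := fun w =>
    (PrimeSpectrum.le_iff_specializes _ _).1 (bot_le : (⊥ : Ideal C) ≤ w.asIdeal)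
  have hη : η ∈ MoreMor.relAss f F := by
    have h1 : maximalIdeal ((Spec (CommRingCat.of C)).presheaf.stalk η) = ⊥ := maximalIdeal_stalk_eq_bot η rfl
    have h0 : (maximalIdeal ((Spec (CommRingCat.of A)).presheaf.stalk (f η))).map (f.stalkMap η).hom = ⊥ := by
      rw [maximalIdeal_stalk_eq_bot (f η) (congrArg PrimeSpectrum.asIdeal hfη), Ideal.map_bot]
    haveI : Nontrivial (F.presheaf.stalk η) := by
      exact nontrivial_stalk_tilde M η (1 : C) fun u hu h => hu (by
        have h' : u * 1 = (0 : C) := h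
        rw [mul_one] at h'
        exact h' ▸ Ideal.zero_mem _)
    obtain ⟨v, hv⟩ := exists_ne (0 : F.presheaf.stalk η)
    refine ⟨Ideal.IsMaximal.isPrime inferInstance, Submodule.Quotient.mk v, ?_⟩
    refine le_antisymm (h1.le.trans bot_le) (IsLocalRing.le_maximalIdeal fun ht => hv ?_)
    rw [Ideal.radical_eq_top, Ideal.eq_top_iff_one, Submodule.mem_colon_singleton, Submodule.mem_bot, one_smul,
      Submodule.Quotient.mk_eq_zero, h0, Submodule.bot_smul, Submodule.mem_bot] at ht
    exact ht
  obtain ⟨n, hn, -, -⟩ := exists_resTrdeg_chains f η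
  have hdim : FlatMor.fibreDimAt f x = (n : WithBot ℕ∞) := by
    refine fibreDimAt_eq_of_max f x n fun m hmx _ hmax => ?_
    rw [(relAss_and_resTrdeg_of_flat f F hqc hft hη (hgen m) (hflat m hmx) fun w _ => hmax w).2, hn]
  have hbn : n = b + δ := by exact_mod_cast hdim.symm.trans hsum
  refine ⟨b, δ, hd, he, ?_⟩
  rw [← hbn, ← hn]
  haveI : FaithfulSMul A C := (faithfulSMul_iff_algebraMap_injective _ _).2 hCinj
  haveI : Algebra.IsAlgebraic C B := IsLocalization.isAlgebraic B q.primeCompl
  haveI : FaithfulSMul C B := (faithfulSMul_iff_algebraMap_injective _ _).2 Subtype.val_injective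
  rw [← trdeg_add_eq A C (A := B), trdeg_eq_zero (R := C) (A := B), add_zero]
  exact (resTrdeg_generic η rfl).symm

end Groth.Agent.FlatFunLib
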