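import Groth.Agent.FlatFunLib.DomainFibreDim
import Groth.Agent.S0402
import Groth.Agent.S9381

/-!
A principal divisor without horizontal component contains components of fibres of expected dimension.
-/

set_option autoImplicit false
set_option linter.style.haveILetI false
set_option backward.isDefEq.respectTransparency false

universe u

open CategoryTheory AlgebraicGeometry IsLocalRing Topology
open Groth.Agent.Unibranch

namespace Groth.Agent.FlatFunLib

theorem fibreDimAt_le_of_max {X S : Scheme.{u}} (f : X ⟶ S) [LocallyOfFiniteType f] (x : X) (d : ℕ)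
    (h : ∀ m, m ⤳ x → f m = f x → (∀ w, f w = f m → w ⤳ m → w = m) → Dual3.resTrdeg f m ≤ (d : Cardinal.{u})) :
    FlatMor.fibreDimAt f x ≤ (d : WithBot ℕ∞) := by
  obtain ⟨D, hD⟩ := exists_fibreDimAt_eq f x
  obtain ⟨m, hmx, hfm, hm, hch⟩ := exists_max_hasChain f x hD.ge
  obtain ⟨δ, hδ, hle, -⟩ := exists_resTrdeg_chains f m
  have hd : δ ≤ d := by
    have := h m hmx hfm fun w hw hs => hm w (hw.trans hfm) hs
    rw [hδ] at this
    exact_mod_cast this
  rw [hfm] at hle
  rw [hD]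
  exact_mod_cast (hch.le hle).trans hd

theorem fibreDimAt_le_of_specializes {X S : Scheme.{u}} (f : X ⟶ S) [LocallyOfFiniteType f] {m x : X} (h : m ⤳ x)
    (d : ℕ) (hx : FlatMor.fibreDimAt f x ≤ (d : WithBot ℕ∞)) : FlatMor.fibreDimAt f m ≤ (d : WithBot ℕ∞) :=
  h.mem_open (S0402.result f d) hx

theorem natCast_le_fibreDimAt_of_resTrdeg {X S : Scheme.{u}} (f : X ⟶ S) [LocallyOfFiniteType f] (x : X) (d : ℕ)
    (h : (d : Cardinal.{u}) ≤ Dual3.resTrdeg f x) : (d : WithBot ℕ∞) ≤ FlatMor.fibreDimAt f x := by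
  obtain ⟨b, δ, -, hδ, hsum⟩ := SpRelDim.fibreDimAt_eq_add_resTrdeg f x
  rw [hδ] at h
  rw [hsum]
  exact_mod_cast (show d ≤ δ from by exact_mod_cast h).trans (Nat.le_add_left δ b)

theorem resTrdeg_le_of_fibreDimAt_le {X S : Scheme.{u}} (f : X ⟶ S) [LocallyOfFiniteType f] {m x : X} (h : m ⤳ x)
    (d : ℕ) (hx : FlatMor.fibreDimAt f x ≤ (d : WithBot ℕ∞)) : Dual3.resTrdeg f m ≤ (d : Cardinal.{u}) := by
  obtain ⟨δ, hδ, -, -⟩ := exists_resTrdeg_chains f m
  have := (natCast_le_fibreDimAt_of_resTrdeg f m δ hδ.ge).trans (fibreDimAt_le_of_specializes f h d hx)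
  rw [hδ]
  exact_mod_cast (show δ ≤ d by exact_mod_cast this)

/-- The dimension of the fibres of an integral scheme is at least that of the generic one. -/
theorem trdeg_le_fibreDimAt {A C : Type u} [CommRing A] [CommRing C] [IsDomain A] [IsDomain C] [Algebra A C]
    [FaithfulSMul A C] [Algebra.FiniteType A C] (x : Spec (CommRingCat.of C)) :
    ∃ n : ℕ, Algebra.trdeg A C = (n : Cardinal.{u}) ∧
      (n : WithBot ℕ∞) ≤ FlatMor.fibreDimAt (Spec.map (CommRingCat.ofHom (algebraMap A C))) x := by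
  let f := Spec.map (CommRingCat.ofHom (algebraMap A C))
  haveI : LocallyOfFiniteType f :=
    HasRingHomProperty.Spec_iff.2 (RingHom.finiteType_algebraMap.2 (inferInstance : Algebra.FiniteType A C))
  let η : Spec (CommRingCat.of C) := (⊥ : PrimeSpectrum C)
  have hη : η ⤳ x := (PrimeSpectrum.le_iff_specializes _ _).1 (bot_le : (⊥ : Ideal C) ≤ x.asIdeal)
  obtain ⟨n, hn, -, -⟩ := exists_resTrdeg_chains f η
  refine ⟨n, (resTrdeg_generic η rfl).symm.trans hn, ?_⟩
  obtain ⟨D, hD⟩ := exists_fibreDimAt_eq f x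
  have := (natCast_le_fibreDimAt_of_resTrdeg f η n hn.ge).trans (fibreDimAt_le_of_specializes f hη D hD.le)
  rw [hD]
  exact this

/-- The Noetherian case: a hypersurface through a point, containing no component of the fibre, has a
horizontal component through the point. -/
theorem exists_horizontal_of_noetherian {A C : Type u} [CommRing A] [CommRing C] [IsDomain A] [IsDomain C]
    [IsNoetherianRing A] [Algebra A C] [FaithfulSMul A C] [Algebra.FiniteType A C] (q : Ideal C) [q.IsPrime] (c : C)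
    (hcq : c ∈ q)
    (hmax : ∀ M : PrimeSpectrum C, M.asIdeal ≤ q → M.asIdeal.comap (algebraMap A C) = q.comap (algebraMap A C) →
      (∀ N : PrimeSpectrum C, N.asIdeal ≤ M.asIdeal →
        N.asIdeal.comap (algebraMap A C) = q.comap (algebraMap A C) → N = M) →
      Dual3.resTrdeg (Spec.map (CommRingCat.ofHom (algebraMap A C))) M ≤ Algebra.trdeg A C ∧ c ∉ M.asIdeal) :
    ∃ P : PrimeSpectrum C, P.asIdeal ≤ q ∧ c ∈ P.asIdeal ∧ P.asIdeal.comap (algebraMap A C) = ⊥ := by
  let f := Spec.map (CommRingCat.ofHom (algebraMap A C))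
  haveI : LocallyOfFiniteType f :=
    HasRingHomProperty.Spec_iff.2 (RingHom.finiteType_algebraMap.2 (inferInstance : Algebra.FiniteType A C))
  haveI : IsNoetherianRing C := Algebra.FiniteType.isNoetherianRing A C
  let x : Spec (CommRingCat.of C) := (⟨q, inferInstance⟩ : PrimeSpectrum C)
  have hsp : ∀ a b : Spec (CommRingCat.of C), a ⤳ b ↔ a.asIdeal ≤ b.asIdeal := fun a b =>
    (PrimeSpectrum.le_iff_specializes a b).symm
  obtain ⟨n, hn, -⟩ := trdeg_le_fibreDimAt (A := A) x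
  have hmax' : ∀ M : Spec (CommRingCat.of C), M ⤳ x → f M = f x → (∀ w, f w = f M → w ⤳ M → w = M) →
      Dual3.resTrdeg f M ≤ (n : Cardinal.{u}) ∧ c ∉ M.asIdeal := fun M hMx hfM hM => by
    rw [← hn]
    exact hmax M ((hsp _ _).1 hMx) (congrArg PrimeSpectrum.asIdeal hfM) fun N hN hNp =>
      hM N ((PrimeSpectrum.ext hNp : f N = f x).trans hfM.symm) ((hsp _ _).2 hN)
  let V := Spec (CommRingCat.of (C ⧸ Ideal.span {c}))
  let ι : V ⟶ Spec (CommRingCat.of C) := Spec.map (CommRingCat.ofHom (Ideal.Quotient.mk (Ideal.span {c})))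
  haveI : IsClosedImmersion ι := IsClosedImmersion.spec_of_surjective _ Ideal.Quotient.mk_surjective
  have hrange : ∀ w : Spec (CommRingCat.of C), c ∈ w.asIdeal → w ∈ Set.range ι := fun w hw => by
    have hker : RingHom.ker (Ideal.Quotient.mk (Ideal.span {c})) ≤ w.asIdeal := by
      rw [Ideal.mk_ker, Ideal.span_singleton_le_iff_mem]; exact hw
    haveI := Ideal.map_isPrime_of_surjective Ideal.Quotient.mk_surjective hker
    exact ⟨(⟨w.asIdeal.map (Ideal.Quotient.mk _), inferInstance⟩ : PrimeSpectrum _), PrimeSpectrum.ext (by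
      change (w.asIdeal.map _).comap (Ideal.Quotient.mk (Ideal.span {c})) = _
      rw [Ideal.comap_map_of_surjective _ Ideal.Quotient.mk_surjective, ← RingHom.ker_eq_comap_bot, sup_eq_left.2 hker])⟩
  have hmem : ∀ v : V, c ∈ (ι v).asIdeal := fun v => by
    show Ideal.Quotient.mk _ c ∈ v.asIdeal
    rw [Ideal.Quotient.eq_zero_iff_mem.2 (Ideal.mem_span_singleton_self c)]
    exact Ideal.zero_mem _
  have hr : ∀ v, Dual3.resTrdeg (ι ≫ f) v = Dual3.resTrdeg f (ι v) := fun v =>
    SpQS.resTrdeg_precomp _ _ (SpRelDim.quasiFiniteAt_of_isPreimmersion _ _)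
  have hlift : ∀ m : Spec (CommRingCat.of C), m ⤳ x → f m = f x → c ∈ m.asIdeal →
      ∃ δ : ℕ, Dual3.resTrdeg f m = (δ : Cardinal.{u}) ∧ δ < n := fun m hmx hfm hcm => by
    obtain ⟨U', hxU', -, hU'⟩ := exists_opens_maximal f (U := ⊤) (x := m) trivial (f x)
    obtain ⟨M, hMm, -, hfM, -, hM⟩ := hU' m hxU' hfm
    obtain ⟨h1, h2⟩ := hmax' M (hMm.trans hmx) hfM fun w hw hs => hM w (hw.trans hfM) hs
    have hlt : Dual3.resTrdeg f m < Dual3.resTrdeg f M :=
      S9381.result f M m hMm (fun e => h2 (e ▸ hcm)) (hfM.trans hfm.symm)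
    obtain ⟨δ, hδ, -, -⟩ := exists_resTrdeg_chains f m
    refine ⟨δ, hδ, ?_⟩
    rw [hδ] at hlt
    exact_mod_cast hlt.trans_le h1
  obtain ⟨δ₀, -, hδ₀⟩ := hlift x specializes_rfl rfl hcq
  obtain ⟨x', hx'⟩ := hrange x hcq
  have hVdim : FlatMor.fibreDimAt (ι ≫ f) x' ≤ ((n - 1 : ℕ) : WithBot ℕ∞) := by
    refine fibreDimAt_le_of_max _ x' (n - 1) fun v hv hfv _ => ?_
    obtain ⟨δ, hδ, hlt⟩ := hlift (ι v) (hx' ▸ hv.map ι.continuous)
      (by rw [← hx']; exact hfv) (hmem v)
    rw [hr, hδ]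
    have h9 : δ ≤ n - 1 := by omega
    exact (Nat.cast_le (α := Cardinal.{u})).2 h9
  obtain ⟨P, hP, hPq⟩ := Ideal.exists_minimalPrimes_le (I := Ideal.span {c}) (J := q)
    ((Ideal.span_singleton_le_iff_mem _).2 hcq)
  haveI : P.IsPrime := hP.1.1
  let p : Spec (CommRingCat.of C) := (⟨P, inferInstance⟩ : PrimeSpectrum C)
  refine ⟨p, hPq, (Ideal.span_singleton_le_iff_mem _).1 hP.1.2, ?_⟩
  by_contra hne
  obtain ⟨p', hp'⟩ := hrange p ((Ideal.span_singleton_le_iff_mem _).1 hP.1.2)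
  obtain ⟨n', hn', hge⟩ := trdeg_le_fibreDimAt (A := A) p
  obtain rfl : n' = n := Nat.cast_injective (hn'.symm.trans hn)
  obtain ⟨M, hMp, hfM, -, hch⟩ := exists_max_hasChain f p hge
  obtain ⟨δ, hδ, hle, -⟩ := exists_resTrdeg_chains f M
  rw [hfM] at hle
  have hnδ : n' ≤ δ := hch.le hle
  have hMne : M ≠ p := by
    rintro rfl
    have hp'x : p' ⤳ x' := by
      rw [← ι.isEmbedding.isInducing.specializes_iff, hp', hx']
      exact (hsp _ _).2 hPq
    have h1 := resTrdeg_le_of_fibreDimAt_le (ι ≫ f) hp'x (n' - 1) hVdim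
    rw [hr, hp', hδ] at h1
    have : δ ≤ n' - 1 := (Nat.cast_le (α := Cardinal.{u})).1 h1
    omega
  have hlt : M.asIdeal < P := lt_of_le_of_ne ((hsp _ _).1 hMp) fun e => hMne (PrimeSpectrum.ext e)
  have hMbot : M.asIdeal ≠ ⊥ := fun e => hne (by
    rw [show P.comap (algebraMap A C) = (f M).asIdeal from congrArg PrimeSpectrum.asIdeal hfM.symm]
    show M.asIdeal.comap (algebraMap A C) = ⊥
    rw [e, ← RingHom.ker_eq_comap_bot]
    exact (RingHom.injective_iff_ker_eq_bot _).1 (FaithfulSMul.algebraMap_injective A C))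
  haveI : (Ideal.span {c}).IsPrincipal := ⟨⟨c, rfl⟩⟩
  have h2 := Ideal.height_le_one_of_isPrincipal_of_mem_minimalPrimes (Ideal.span {c}) P hP
  have h4 : M.asIdeal.height < P.height := Ideal.height_strict_mono_of_isPrime hlt
  have h5 : (⊥ : Ideal C).height < M.asIdeal.height :=
    Ideal.height_strict_mono_of_isPrime (bot_lt_iff_ne_bot.2 hMbot)
  have h6 := Order.one_le_iff_pos.2 (lt_of_le_of_lt bot_le h5)
  exact absurd (h4.trans_le h2) (not_lt.2 h6)

theorem isPushout_of_relations {A₀ A k C₀ C : Type u} [CommRing A₀] [CommRing A] [CommRing k] [CommRing C₀]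
    [CommRing C] [Algebra A₀ A] [Algebra A₀ k] [Algebra A k] [IsScalarTower A₀ A k] [Algebra A₀ C₀] [Algebra A C]
    [Algebra C₀ C] [Algebra A₀ C] [IsScalarTower A₀ A C] [IsScalarTower A₀ C₀ C]
    (hinj : Function.Injective (algebraMap C₀ C)) {m : ℕ}
    (ψ : MvPolynomial (Fin m) A →ₐ[A] C) (hψ : Function.Surjective ψ)
    (ψ₀ : MvPolynomial (Fin m) A₀ →ₐ[A₀] C₀) (hψ₀ : Function.Surjective ψ₀)
    (hX : ∀ i, algebraMap C₀ C (ψ₀ (MvPolynomial.X i)) = ψ (MvPolynomial.X i))
    (Fs : Set (MvPolynomial (Fin m) A)) (hker : Fs ⊆ RingHom.ker ψ.toRingHom)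
    (hlift : ∀ F ∈ Fs, ∃ F₀, MvPolynomial.map (algebraMap A₀ A) F₀ = F)
    (hspan : Ideal.span (MvPolynomial.map (algebraMap A k) '' Fs) =
      (RingHom.ker ψ.toRingHom).map (MvPolynomial.map (algebraMap A k)))
    [Algebra C₀ (TensorProduct A k C)] [IsScalarTower A₀ C₀ (TensorProduct A k C)]
    (hC₀D : ∀ y, algebraMap C₀ (TensorProduct A k C) y = (1 : k) ⊗ₜ[A] algebraMap C₀ C y) :
    Algebra.IsPushout A₀ k C₀ (TensorProduct A k C) := by
  let ρ : MvPolynomial (Fin m) A →+* MvPolynomial (Fin m) k := MvPolynomial.map (algebraMap A k)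
  let ι₀ : MvPolynomial (Fin m) A₀ →+* MvPolynomial (Fin m) A := MvPolynomial.map (algebraMap A₀ A)
  let D := TensorProduct A k C
  have hψι : ∀ F, algebraMap C₀ C (ψ₀ F) = ψ (ι₀ F) := fun F => by
    have : (algebraMap C₀ C).comp ψ₀.toRingHom = ψ.toRingHom.comp ι₀ := MvPolynomial.ringHom_ext
      (fun r => by
        show algebraMap C₀ C (ψ₀ (MvPolynomial.C r)) = ψ (MvPolynomial.map _ (MvPolynomial.C r))
        rw [MvPolynomial.map_C, ← MvPolynomial.algebraMap_eq, AlgHom.commutes, ← IsScalarTower.algebraMap_apply,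
          ← MvPolynomial.algebraMap_eq, AlgHom.commutes, ← IsScalarTower.algebraMap_apply])
      (fun i => by
        show algebraMap C₀ C (ψ₀ (MvPolynomial.X i)) = ψ (MvPolynomial.map _ (MvPolynomial.X i))
        rw [MvPolynomial.map_X, hX])
    exact RingHom.congr_fun this F
  let u : C₀ →ₐ[A₀] D := IsScalarTower.toAlgHom A₀ C₀ D
  let Φ : TensorProduct A₀ k C₀ →ₐ[k] D := Algebra.TensorProduct.lift (Algebra.ofId k D) u fun _ _ => Commute.all _ _
  let G : MvPolynomial (Fin m) k →ₐ[k] TensorProduct A₀ k C₀ :=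
    MvPolynomial.aeval fun i => (1 : k) ⊗ₜ[A₀] ψ₀ (MvPolynomial.X i)
  let E : MvPolynomial (Fin m) k →ₐ[k] D := MvPolynomial.aeval fun i => (1 : k) ⊗ₜ[A] ψ (MvPolynomial.X i)
  have hGι : ∀ F, G (ρ (ι₀ F)) = (1 : k) ⊗ₜ[A₀] ψ₀ F := fun F => by
    have : (G.toRingHom.comp ρ).comp ι₀ =
        (Algebra.TensorProduct.includeRight : C₀ →ₐ[A₀] TensorProduct A₀ k C₀).toRingHom.comp
          ψ₀.toRingHom := MvPolynomial.ringHom_ext
      (fun r => by
        show G (MvPolynomial.map _ (MvPolynomial.map _ (MvPolynomial.C r))) = (1 : k) ⊗ₜ[A₀] ψ₀ (MvPolynomial.C r)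
        rw [MvPolynomial.map_C, MvPolynomial.map_C, MvPolynomial.aeval_C, ← MvPolynomial.algebraMap_eq, AlgHom.commutes]
        show (algebraMap A k (algebraMap A₀ A r)) ⊗ₜ[A₀] (1 : C₀) = (1 : k) ⊗ₜ[A₀] algebraMap A₀ C₀ r
        rw [← IsScalarTower.algebraMap_apply A₀ A k]
        rw [Algebra.algebraMap_eq_smul_one, Algebra.algebraMap_eq_smul_one, TensorProduct.smul_tmul])
      (fun i => by
        show G (MvPolynomial.map _ (MvPolynomial.map _ (MvPolynomial.X i))) = _
        rw [MvPolynomial.map_X, MvPolynomial.map_X, MvPolynomial.aeval_X]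
        rfl)
    exact RingHom.congr_fun this F
  have hEρ : ∀ F, E (ρ F) = (1 : k) ⊗ₜ[A] ψ F := fun F => by
    have : E.toRingHom.comp ρ = (Algebra.TensorProduct.includeRight : C →ₐ[A] D).toRingHom.comp ψ.toRingHom :=
      MvPolynomial.ringHom_ext
      (fun r => by
        show E (MvPolynomial.map _ (MvPolynomial.C r)) = (1 : k) ⊗ₜ[A] ψ (MvPolynomial.C r)
        rw [MvPolynomial.map_C, MvPolynomial.aeval_C, ← MvPolynomial.algebraMap_eq, AlgHom.commutes]
        show (algebraMap A k r) ⊗ₜ[A] (1 : C) = (1 : k) ⊗ₜ[A] algebraMap A C r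
        rw [Algebra.algebraMap_eq_smul_one, Algebra.algebraMap_eq_smul_one, TensorProduct.smul_tmul])
      (fun i => by
        show E (MvPolynomial.map _ (MvPolynomial.X i)) = _
        rw [MvPolynomial.map_X, MvPolynomial.aeval_X]
        rfl)
    exact RingHom.congr_fun this F
  have hGsurj : Function.Surjective G := fun z => by
    induction z using TensorProduct.induction_on with
    | zero => exact ⟨0, map_zero _⟩
    | add a b ha hb =>
      obtain ⟨a, rfl⟩ := ha
      obtain ⟨b, rfl⟩ := hb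
      exact ⟨a + b, map_add _ _ _⟩
    | tmul r y =>
      obtain ⟨F, rfl⟩ := hψ₀ y
      refine ⟨MvPolynomial.C r * ρ (ι₀ F), ?_⟩
      rw [map_mul, hGι, MvPolynomial.aeval_C, Algebra.TensorProduct.algebraMap_apply, Algebra.TensorProduct.tmul_mul_tmul,
        one_mul, mul_one]
      rfl
  have hE : ∀ F, Φ (G F) = E F := fun F => by
    have : Φ.comp G = E := MvPolynomial.algHom_ext fun i => by
      show Φ (G (MvPolynomial.X i)) = E (MvPolynomial.X i)
      rw [MvPolynomial.aeval_X, MvPolynomial.aeval_X, Algebra.TensorProduct.lift_tmul, map_one, one_mul]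
      show algebraMap C₀ D _ = _
      rw [hC₀D, hX]
    exact AlgHom.congr_fun this F
  let J := (RingHom.ker ψ.toRingHom).map ρ
  let Q := MvPolynomial (Fin m) k ⧸ J
  let G' : Q →+* TensorProduct A₀ k C₀ :=
    Ideal.Quotient.lift _ G.toRingHom fun F hF => by
      change F ∈ J at hF
      rw [show J = _ from hspan.symm] at hF
      refine (RingHom.mem_ker).1 (Ideal.span_le.2 ?_ hF)
      rintro _ ⟨F, hF, rfl⟩
      obtain ⟨F₀, rfl⟩ := hlift F hF
      have h0 : ψ₀ F₀ = 0 := hinj ((hψι F₀).trans (((RingHom.mem_ker).1 (hker hF)).trans (map_zero _).symm))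
      exact (RingHom.mem_ker).2 ((hGι F₀).trans (by rw [h0, TensorProduct.tmul_zero]))
  let back : C →+* Q := (Ideal.quotientMap J ρ Ideal.le_comap_map).comp
      (RingHom.quotientKerEquivOfSurjective (f := ψ.toRingHom) hψ).symm.toRingHom
  have hback : ∀ F, back (ψ F) = Ideal.Quotient.mk _ (ρ F) := fun F => by
    exact (congrArg (Ideal.quotientMap J ρ Ideal.le_comap_map)
      (RingHom.quotientKerEquivOfSurjective_symm_apply hψ F)).trans Ideal.quotientMap_mk
  haveI : IsScalarTower A k Q := inferInstance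
  let backA : C →ₐ[A] Q :=
    { toRingHom := back
      commutes' := fun r => by
        show back (algebraMap A C r) = _
        rw [← ψ.commutes r, hback, MvPolynomial.algebraMap_eq, MvPolynomial.map_C]
        rfl }
  let Ψ : D →ₐ[k] Q := Algebra.TensorProduct.lift (Algebra.ofId k Q) backA fun _ _ => Commute.all _ _
  have hinv : ∀ z, G' (Ψ (Φ z)) = z := fun z => by
    obtain ⟨F, rfl⟩ := hGsurj z
    rw [hE]
    have : ∀ F, Ψ (E F) = Ideal.Quotient.mk _ F := fun F => by
      have h1 : Ψ.comp E = Ideal.Quotient.mkₐ k _ := MvPolynomial.algHom_ext fun i => by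
        show Ψ (E (MvPolynomial.X i)) = _
        rw [MvPolynomial.aeval_X, Algebra.TensorProduct.lift_tmul, map_one, one_mul]
        show back (ψ (MvPolynomial.X i)) = _
        rw [hback, MvPolynomial.map_X]
        rfl
      exact AlgHom.congr_fun h1 F
    rw [this]
    rfl
  have hΦ : Function.Bijective Φ := by
    refine ⟨fun y z hyz => by rw [← hinv y, hyz, hinv z], fun z => ?_⟩
    induction z using TensorProduct.induction_on with
    | zero => exact ⟨0, map_zero _⟩
    | add a b ha hb =>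
      obtain ⟨a, rfl⟩ := ha
      obtain ⟨b, rfl⟩ := hb
      exact ⟨a + b, map_add _ _ _⟩
    | tmul r y =>
      obtain ⟨F, rfl⟩ := hψ y
      refine ⟨G (MvPolynomial.C r * ρ F), ?_⟩
      rw [hE, map_mul, hEρ, MvPolynomial.aeval_C, Algebra.TensorProduct.algebraMap_apply,
        Algebra.TensorProduct.tmul_mul_tmul, one_mul, mul_one]
      rfl
  letI : Algebra C₀ (TensorProduct A₀ k C₀) := Algebra.TensorProduct.rightAlgebra
  exact Algebra.IsPushout.of_equiv (AlgEquiv.ofBijective Φ hΦ)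
    (RingHom.ext fun y => by
      show Φ ((1 : k) ⊗ₜ[A₀] y) = _
      rw [Algebra.TensorProduct.lift_tmul, map_one, one_mul]
      rfl)

/-- The residual transcendence degree of a maximal point of a fibre is insensitive to field extensions. -/
theorem resTrdeg_of_max_baseChange {A k C D : Type u} [CommRing A] [Field k] [CommRing C] [CommRing D] [Algebra A k]
    [Algebra A C] [Algebra A D] [Algebra k D] [Algebra C D] [IsScalarTower A k D] [IsScalarTower A C D]
    [Algebra.IsPushout A k C D] [Algebra.FiniteType A C] (z : Spec (CommRingCat.of D))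
    (hz : ∀ w : Spec (CommRingCat.of D), w.asIdeal ≤ z.asIdeal → w = z) :
    Dual3.resTrdeg (Spec.map (CommRingCat.ofHom (algebraMap k D))) z =
      Dual3.resTrdeg (Spec.map (CommRingCat.ofHom (algebraMap A C)))
        ((Spec.map (CommRingCat.ofHom (algebraMap C D))) z) := by
  haveI : LocallyOfFiniteType (Spec.map (CommRingCat.ofHom (algebraMap A C))) :=
    HasRingHomProperty.Spec_iff.2 (RingHom.finiteType_algebraMap.2 (inferInstance : Algebra.FiniteType A C))
  exact resTrdeg_eq_of_fibre_max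
    (isPullback_SpecMap_of_isPushout _ _ _ _ (CommRingCat.isPushout_of_isPushout A k C D)).flip z
    fun w _ _ h => hz w ((PrimeSpectrum.le_iff_specializes _ _).2 h)

theorem exists_le_over_fibre {A k C D : Type u} [CommRing A] [Field k] [CommRing C] [CommRing D] [Algebra A k]
    [Algebra A C] [Algebra A D] [Algebra k D] [Algebra C D] [IsScalarTower A k D] [IsScalarTower A C D]
    [Algebra.IsPushout A k C D] (N : PrimeSpectrum C) {Z : PrimeSpectrum D}
    (hle : N.asIdeal ≤ Z.asIdeal.comap (algebraMap C D))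
    (hN : N.asIdeal.comap (algebraMap A C) = RingHom.ker (algebraMap A k)) :
    ∃ z : PrimeSpectrum D, z.asIdeal ≤ Z.asIdeal ∧ z.asIdeal.comap (algebraMap C D) = N.asIdeal := by
  let p₀ := RingHom.ker (algebraMap A k)
  haveI : p₀.IsPrime := RingHom.ker_isPrime _
  let K₀ := p₀.ResidueField
  let κ : K₀ →ₐ[A] k := Ideal.ResidueField.liftₐ p₀ (Algebra.ofId A k) le_rfl (by
    intro a ha
    exact IsUnit.mk0 _ fun h0 => ha ((RingHom.mem_ker).2 h0))
  letI : Algebra K₀ k := κ.toRingHom.toAlgebra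
  haveI : IsScalarTower A K₀ k := IsScalarTower.of_algebraMap_eq fun r => (κ.commutes r).symm
  letI : Algebra K₀ D := ((algebraMap k D).comp κ.toRingHom).toAlgebra
  haveI : IsScalarTower K₀ k D := IsScalarTower.of_algebraMap_eq fun _ => rfl
  haveI : IsScalarTower A K₀ D := IsScalarTower.of_algebraMap_eq fun r => by
    show _ = algebraMap k D (κ (algebraMap A K₀ r))
    rw [κ.commutes, ← IsScalarTower.algebraMap_apply]
  let F₀ := p₀.Fiber C
  letI : Algebra C F₀ := Algebra.TensorProduct.rightAlgebra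
  let θ : F₀ →ₐ[K₀] D := Algebra.TensorProduct.lift (Algebra.ofId K₀ D) (IsScalarTower.toAlgHom A C D)
    fun _ _ => Commute.all _ _
  letI : Algebra F₀ D := θ.toRingHom.toAlgebra
  haveI : IsScalarTower C F₀ D := IsScalarTower.of_algebraMap_eq fun y => by
    show _ = θ ((1 : K₀) ⊗ₜ[A] y)
    rw [Algebra.TensorProduct.lift_tmul, map_one, one_mul]
    rfl
  haveI : IsScalarTower K₀ F₀ D := IsScalarTower.of_algebraMap_eq fun r => (θ.commutes r).symm
  haveI : IsScalarTower A F₀ D := IsScalarTower.of_algebraMap_eq fun r => ((θ.restrictScalars A).commutes r).symm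
  haveI : Algebra.IsPushout K₀ k F₀ D := (Algebra.IsPushout.comp_iff A K₀ C F₀ (T := k) (T' := D)).1 inferInstance
  haveI : Algebra.IsPushout K₀ F₀ k D := Algebra.IsPushout.symm inferInstance
  haveI : Module.Flat F₀ D := Module.Flat.isBaseChange (R := K₀) (S := F₀) (M := k) (h := Algebra.IsPushout.out)
  haveI : Algebra.HasGoingDown F₀ D := inferInstance
  let N₁ := PrimeSpectrum.preimageOrderIsoFiber A C ⟨p₀, inferInstance⟩ ⟨N, PrimeSpectrum.ext hN⟩
  let Z₀ : PrimeSpectrum F₀ := ⟨Z.asIdeal.comap (algebraMap F₀ D), inferInstance⟩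
  let e := PrimeSpectrum.preimageOrderIsoFiber A C ⟨p₀, inferInstance⟩
  have hN₁ : N₁.asIdeal.comap (algebraMap C F₀) = N.asIdeal :=
    congrArg (fun z => z.1.asIdeal) (e.symm_apply_apply ⟨N, PrimeSpectrum.ext hN⟩)
  have hle' : N₁ ≤ Z₀ := by
    rw [← e.symm.le_iff_le]
    show ((e.symm N₁).1.asIdeal) ≤ _
    refine le_trans (le_of_eq hN₁) (le_trans hle (le_of_eq ?_))
    show _ = (Z.asIdeal.comap (algebraMap F₀ D)).comap (algebraMap C F₀)
    rw [Ideal.comap_comap, ← IsScalarTower.algebraMap_eq]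
  haveI : Z.asIdeal.LiesOver Z₀.asIdeal := ⟨rfl⟩
  obtain ⟨z, hz, hzp, hzo⟩ := Ideal.exists_ideal_le_liesOver_of_le (p := N₁.asIdeal) (q := Z₀.asIdeal) Z.asIdeal hle'
  refine ⟨⟨z, hzp⟩, hz, ?_⟩
  show z.comap (algebraMap C D) = _
  rw [IsScalarTower.algebraMap_eq C F₀ D, ← Ideal.comap_comap]
  show (z.under F₀).comap (algebraMap C F₀) = _
  rw [← hzo.over, hN₁]

theorem exists_minimalPrime_le {D : Type u} [CommRing D] (P : Ideal D) [P.IsPrime] :
    ∃ z : PrimeSpectrum D, z.asIdeal ≤ P ∧ ∀ w : PrimeSpectrum D, w.asIdeal ≤ z.asIdeal → w = z := by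
  obtain ⟨Q, hQ, hQP⟩ := Ideal.exists_minimalPrimes_le (I := (⊥ : Ideal D)) (J := P) bot_le
  exact ⟨⟨Q, hQ.1.1⟩, hQP, fun w hw => PrimeSpectrum.ext (le_antisymm hw (hQ.2 ⟨w.2, bot_le⟩ hw))⟩

theorem trdeg_le_subalgebra {A C : Type u} [CommRing A] [CommRing C] [IsDomain C] [Algebra A C] [FaithfulSMul A C]
    {A₀ : Subalgebra ℤ A} {m : ℕ} (ψ : MvPolynomial (Fin m) A →ₐ[A] C) (hψ : Function.Surjective ψ)
    (C₀ : Subalgebra A₀ C) (hC₀ : ∀ i, ψ (MvPolynomial.X i) ∈ C₀) : Algebra.trdeg A C ≤ Algebra.trdeg A₀ C₀ := by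
  have hgen : Algebra.adjoin A (Set.range fun i => ψ (MvPolynomial.X i)) = ⊤ := by
    rw [Algebra.adjoin_range_eq_range_aeval, AlgHom.range_eq_top]
    intro y
    obtain ⟨F, rfl⟩ := hψ y
    have e : (MvPolynomial.aeval fun i => ψ (MvPolynomial.X i)) = ψ :=
      MvPolynomial.algHom_ext fun i => MvPolynomial.aeval_X _ i
    exact ⟨F, by rw [e]⟩
  haveI : Algebra.IsAlgebraic (Algebra.adjoin A (Set.range fun i => ψ (MvPolynomial.X i))) C :=
    ⟨fun y => isAlgebraic_algebraMap (R := Algebra.adjoin A (Set.range fun i => ψ (MvPolynomial.X i)))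
      ⟨y, hgen ▸ Algebra.mem_top⟩⟩
  haveI : Nontrivial A := (algebraMap A C).domain_nontrivial
  obtain ⟨t, ht, htb⟩ := exists_isTranscendenceBasis_subset (R := A) (A := C) (Set.range fun i => ψ (MvPolynomial.X i))
  rw [← htb.cardinalMk_eq_trdeg]
  have hv : ∀ y : t, (y : C) ∈ C₀ := fun y => by
    obtain ⟨i, hi⟩ := ht y.2
    exact hi ▸ hC₀ i
  have h1 : AlgebraicIndependent A₀ ((↑) : t → C) := htb.1.restrictScalars (fun r r' h => Subtype.ext h)
  exact (AlgebraicIndependent.of_comp C₀.val (x := fun y : t => (⟨y, hv y⟩ : C₀)) h1).cardinalMk_le_trdeg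

/-- Maximal points of a fibre of a Noetherian model come from the fibre. -/
theorem exists_max_lift {A₀ A k C₀ C D : Type u} [CommRing A₀] [CommRing A] [Field k] [CommRing C₀] [CommRing C]
    [CommRing D] [Algebra A₀ A] [Algebra A₀ k] [Algebra A k] [IsScalarTower A₀ A k] [Algebra A₀ C₀] [Algebra A C]
    [Algebra C₀ C] [Algebra A D] [Algebra k D] [Algebra C D] [Algebra A₀ D] [Algebra C₀ D] [IsScalarTower A k D]
    [IsScalarTower A C D] [IsScalarTower A₀ k D] [IsScalarTower A₀ C₀ D] [IsScalarTower C₀ C D]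
    [Algebra.IsPushout A k C D] [Algebra.IsPushout A₀ k C₀ D] [Algebra.FiniteType A C] [Algebra.FiniteType A₀ C₀]
    (q : Ideal C) [q.IsPrime] (hker : RingHom.ker (algebraMap A k) = q.comap (algebraMap A C))
    (hsurj : ∀ N : PrimeSpectrum C, N.asIdeal.comap (algebraMap A C) = q.comap (algebraMap A C) →
      ∃ z : PrimeSpectrum D, z.asIdeal.comap (algebraMap C D) = N.asIdeal)
    (hmono : ∀ z z' : PrimeSpectrum D,
      z.asIdeal.comap (algebraMap C D) ≤ z'.asIdeal.comap (algebraMap C D) → z.asIdeal ≤ z'.asIdeal)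
    (M : PrimeSpectrum C₀) (hM : M.asIdeal ≤ q.comap (algebraMap C₀ C))
    (hMp : M.asIdeal.comap (algebraMap A₀ C₀) = (q.comap (algebraMap C₀ C)).comap (algebraMap A₀ C₀))
    (hMmin : ∀ N : PrimeSpectrum C₀, N.asIdeal ≤ M.asIdeal →
      N.asIdeal.comap (algebraMap A₀ C₀) = (q.comap (algebraMap C₀ C)).comap (algebraMap A₀ C₀) → N = M) :
    ∃ N : PrimeSpectrum C, N.asIdeal ≤ q ∧ N.asIdeal.comap (algebraMap C₀ C) = M.asIdeal ∧
      N.asIdeal.comap (algebraMap A C) = q.comap (algebraMap A C) ∧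
      (∀ N' : PrimeSpectrum C, N'.asIdeal ≤ N.asIdeal →
        N'.asIdeal.comap (algebraMap A C) = q.comap (algebraMap A C) → N' = N) ∧
      Dual3.resTrdeg (Spec.map (CommRingCat.ofHom (algebraMap A₀ C₀))) M =
        Dual3.resTrdeg (Spec.map (CommRingCat.ofHom (algebraMap A C))) N := by
  obtain ⟨Zq, hZq⟩ := hsurj ⟨q, inferInstance⟩ rfl
  replace hZq : Zq.asIdeal.comap (algebraMap C D) = q := hZq
  have hgoing : ∀ z : PrimeSpectrum D, z.asIdeal.comap (algebraMap A D) = q.comap (algebraMap A C) := fun z => by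
    rw [IsScalarTower.algebraMap_eq A k D, ← Ideal.comap_comap,
      (eq_bot_or_eq_top (z.asIdeal.comap (algebraMap k D))).resolve_right (Ideal.IsPrime.ne_top inferInstance),
      ← RingHom.ker_eq_comap_bot, hker]
  have hq₀ : (q.comap (algebraMap C₀ C)).comap (algebraMap A₀ C₀) = RingHom.ker (algebraMap A₀ k) := by
    rw [← hZq, Ideal.comap_comap, Ideal.comap_comap, ← RingHom.comp_assoc,
      ← IsScalarTower.algebraMap_eq C₀ C D, ← IsScalarTower.algebraMap_eq, IsScalarTower.algebraMap_eq A₀ k D,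
      ← Ideal.comap_comap, (eq_bot_or_eq_top (Zq.asIdeal.comap (algebraMap k D))).resolve_right
        (Ideal.IsPrime.ne_top inferInstance), ← RingHom.ker_eq_comap_bot]
  obtain ⟨z₁, hz₁, hz₁M⟩ := exists_le_over_fibre (A := A₀) (k := k) (C := C₀) (D := D) M (Z := Zq)
    (hM.trans (le_of_eq (by rw [← hZq, Ideal.comap_comap, ← IsScalarTower.algebraMap_eq]))) (hMp.trans hq₀)
  obtain ⟨z, hz, hzmin⟩ := exists_minimalPrime_le z₁.asIdeal
  have hzM : (⟨z.asIdeal.comap (algebraMap C₀ D), inferInstance⟩ : PrimeSpectrum C₀) = M :=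
    hMmin _ ((Ideal.comap_mono hz).trans hz₁M.le) (by
      show (z.asIdeal.comap (algebraMap C₀ D)).comap (algebraMap A₀ C₀) = _
      rw [hq₀, Ideal.comap_comap, ← IsScalarTower.algebraMap_eq, IsScalarTower.algebraMap_eq A₀ k D, ← Ideal.comap_comap,
        (eq_bot_or_eq_top (z.asIdeal.comap (algebraMap k D))).resolve_right
          (Ideal.IsPrime.ne_top inferInstance), ← RingHom.ker_eq_comap_bot])
  refine ⟨⟨z.asIdeal.comap (algebraMap C D), inferInstance⟩, (Ideal.comap_mono (hz.trans hz₁)).trans hZq.le, ?_, ?_,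
    fun N' h h' => ?_, ?_⟩
  · show (z.asIdeal.comap (algebraMap C D)).comap (algebraMap C₀ C) = _
    rw [Ideal.comap_comap, ← IsScalarTower.algebraMap_eq]
    exact congrArg PrimeSpectrum.asIdeal hzM
  · show (z.asIdeal.comap (algebraMap C D)).comap (algebraMap A C) = _
    rw [Ideal.comap_comap, ← IsScalarTower.algebraMap_eq, hgoing]
  · obtain ⟨z', hz'⟩ := hsurj N' h'
    have := hzmin z' (hmono z' z (hz'.le.trans h))
    exact PrimeSpectrum.ext (hz'.symm.trans (by rw [this]))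
  · rw [← hzM]
    exact (resTrdeg_of_max_baseChange (A := A₀) (k := k) (C := C₀) (D := D) z hzmin).symm.trans
      (resTrdeg_of_max_baseChange (A := A) (k := k) (C := C) (D := D) z hzmin)


/-- The subalgebra generated by finitely many elements, with its presentation. -/
theorem exists_presented_subalgebra {R S : Type u} [CommRing R] [CommRing S] [Algebra R S] {m : ℕ} (x : Fin m → S) :
    ∃ (T : Subalgebra R S) (φ : MvPolynomial (Fin m) R →ₐ[R] T),
      Function.Surjective φ ∧ (∀ i, (φ (MvPolynomial.X i) : S) = x i) ∧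
        (∀ F, MvPolynomial.aeval x F = (φ F : S)) ∧ Algebra.FiniteType R T :=
  ⟨(MvPolynomial.aeval x).range, (MvPolynomial.aeval x).rangeRestrict, (MvPolynomial.aeval x).rangeRestrict_surjective,
    fun i => MvPolynomial.aeval_X x i, fun _ => rfl,
    Algebra.FiniteType.of_surjective _ (MvPolynomial.aeval x).rangeRestrict_surjective⟩

theorem faithfulSMul_subalgebra_model {A C : Type u} [CommRing A] [CommRing C] [Algebra A C] [FaithfulSMul A C]
    (A₀ : Subalgebra ℤ A) (C₀ : Subalgebra A₀ C) : FaithfulSMul A₀ C₀ :=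
  (faithfulSMul_iff_algebraMap_injective _ _).2 fun _ _ hab => Subtype.ext
    (FaithfulSMul.algebraMap_injective A C (congrArg Subtype.val hab))

theorem map_aeval_model {A₀ A C : Type u} [CommRing A₀] [CommRing A] [CommRing C] [Algebra A₀ A] [Algebra A C]
    [Algebra A₀ C] [IsScalarTower A₀ A C] {m : ℕ}
    (ψ : MvPolynomial (Fin m) A →ₐ[A] C) (F : MvPolynomial (Fin m) A₀) :
    ψ (MvPolynomial.map (algebraMap A₀ A) F) = MvPolynomial.aeval (fun i => ψ (MvPolynomial.X i)) F := by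
  rw [← MvPolynomial.aeval_map_algebraMap A]
  have h : ψ = MvPolynomial.aeval fun i => ψ (MvPolynomial.X i) :=
    MvPolynomial.algHom_ext fun i => (MvPolynomial.aeval_X (fun i => ψ (MvPolynomial.X i)) i).symm
  exact AlgHom.congr_fun h _

theorem resTrdeg_le_of_le_of_fibreDimAt_le {A C : Type u} [CommRing A] [CommRing C] [Algebra A C]
    [Algebra.FiniteType A C] {q N : PrimeSpectrum C} (h : N.asIdeal ≤ q.asIdeal) {n : ℕ}
    (hdim : FlatMor.fibreDimAt (Spec.map (CommRingCat.ofHom (algebraMap A C))) q ≤ (n : WithBot ℕ∞)) :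
    Dual3.resTrdeg (Spec.map (CommRingCat.ofHom (algebraMap A C))) N ≤ (n : Cardinal.{u}) := by
  haveI : LocallyOfFiniteType (Spec.map (CommRingCat.ofHom (algebraMap A C))) :=
    HasRingHomProperty.Spec_iff.2 (RingHom.finiteType_algebraMap.2 (inferInstance : Algebra.FiniteType A C))
  exact resTrdeg_le_of_fibreDimAt_le _ ((PrimeSpectrum.le_iff_specializes _ _).1 h) n hdim

theorem mem_of_mem_comap_subalgebra {A C : Type u} [CommRing A] [CommRing C] [Algebra A C] {C₀ : Subalgebra A C}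
    {I : Ideal C} {J : Ideal C₀} (h : I.comap (algebraMap C₀ C) = J) {y : C₀} (hy : y ∈ J) : (y : C) ∈ I := by
  rw [← h] at hy
  exact hy

/-- A hypersurface through a point without horizontal component there contains a component of the fibre. -/
theorem exists_vertical_component {A C : Type u} [CommRing A] [CommRing C] [IsDomain A] [IsDomain C]
    [Algebra A C] [FaithfulSMul A C] [Algebra.FiniteType A C] (q : Ideal C) [q.IsPrime] (c : C) (hcq : c ∈ q)
    (n : ℕ) (hn : Algebra.trdeg A C = (n : Cardinal.{u}))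
    (hdim : FlatMor.fibreDimAt (Spec.map (CommRingCat.ofHom (algebraMap A C))) (⟨q, inferInstance⟩ : PrimeSpectrum C)
      ≤ (n : WithBot ℕ∞))
    (hhor : ∀ P : PrimeSpectrum C, P.asIdeal ≤ q → c ∈ P.asIdeal → P.asIdeal.comap (algebraMap A C) ≠ ⊥) :
    ∃ M : PrimeSpectrum C, M.asIdeal ≤ q ∧ c ∈ M.asIdeal ∧
      M.asIdeal.comap (algebraMap A C) = q.comap (algebraMap A C) ∧
      ∀ N : PrimeSpectrum C, N.asIdeal ≤ M.asIdeal →
        N.asIdeal.comap (algebraMap A C) = q.comap (algebraMap A C) → N = M := by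
  classical
  -- a witness in finitely many elements
  let T : Submonoid C := (nonZeroDivisors A).map (algebraMap A C) ⊔ q.primeCompl
  have hT : ¬ Disjoint ((Ideal.span {c} : Ideal C) : Set C) (T : Set C) := fun hd => by
    obtain ⟨P, hP, hcP, hPT⟩ := Ideal.exists_le_prime_disjoint _ T hd
    refine hhor ⟨P, hP⟩ (fun z hz => ?_) ((Ideal.span_singleton_le_iff_mem _).1 hcP) (le_bot_iff.1 fun a ha => ?_)
    · by_contra hzq
      exact Set.disjoint_left.1 hPT hz (Submonoid.mem_sup_right (show z ∈ q.primeCompl from hzq))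
    · by_contra ha0
      exact Set.disjoint_left.1 hPT ha (Submonoid.mem_sup_left ⟨a, mem_nonZeroDivisors_of_ne_zero ha0, rfl⟩)
  obtain ⟨z, hzc, hzT⟩ := Set.not_disjoint_iff.1 hT
  obtain ⟨_, ⟨a, ha, rfl⟩, s, hs, rfl⟩ := Submonoid.mem_sup.1 hzT
  obtain ⟨w, hw⟩ := Ideal.mem_span_singleton'.1 hzc
  -- presentations
  obtain ⟨m, ψ, hψ⟩ := Algebra.FiniteType.iff_quotient_mvPolynomial''.1 (inferInstance : Algebra.FiniteType A C)
  let p := q.comap (algebraMap A C)
  let k := p.ResidueField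
  let ρ : MvPolynomial (Fin m) A →+* MvPolynomial (Fin m) k := MvPolynomial.map (algebraMap A k)
  obtain ⟨Fs, hFs, hFsJ⟩ : ∃ Fs : Finset (MvPolynomial (Fin m) A),
      (Fs : Set (MvPolynomial (Fin m) A)) ⊆ RingHom.ker ψ.toRingHom ∧
      Ideal.span (ρ '' Fs) = (RingHom.ker ψ.toRingHom).map ρ := by
    obtain ⟨t, ht, htJ⟩ := Submodule.fg_span_iff_fg_span_finset_subset _ |>.1
      (IsNoetherian.noetherian ((RingHom.ker ψ.toRingHom).map ρ))
    obtain ⟨Fs, hFs, hFst⟩ := Finset.subset_set_image_iff.1 ht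
    refine ⟨Fs, hFs, ?_⟩
    show Submodule.span _ (ρ '' Fs) = _
    rw [← Finset.coe_image, hFst]
    exact htJ.symm
  obtain ⟨wp, hwp⟩ := hψ w
  obtain ⟨cp, hcp⟩ := hψ c
  obtain ⟨sp, hsp⟩ := hψ s
  let coefs : Finset A := insert a ((Fs ∪ {wp, cp, sp}).biUnion fun F => F.support.image fun d => F.coeff d)
  obtain ⟨A₀, hA₀, hsub⟩ : ∃ A₀ : Subalgebra ℤ A, Algebra.FiniteType ℤ A₀ ∧ ∀ r ∈ coefs, r ∈ A₀ :=
    ⟨Algebra.adjoin ℤ (coefs : Set A), (Subalgebra.fg_iff_finiteType _).1 (Subalgebra.fg_adjoin_finset coefs),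
      fun r hr => Algebra.subset_adjoin hr⟩
  haveI : IsNoetherianRing A₀ := Algebra.FiniteType.isNoetherianRing ℤ A₀
  obtain ⟨C₀, ψ₀, hψ₀, hX, hψ₁, _⟩ := exists_presented_subalgebra (R := A₀) fun i => ψ (MvPolynomial.X i)
  haveI : FaithfulSMul A₀ C₀ := faithfulSMul_subalgebra_model A₀ C₀
  have hlift : ∀ F ∈ Fs ∪ {wp, cp, sp}, ∃ F₀, MvPolynomial.map (algebraMap A₀ A) F₀ = F := fun F hF => by
    refine RingHom.mem_range.1 (MvPolynomial.mem_range_map_iff_coeffs_subset.2 fun r hr => ?_)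
    obtain ⟨d, hd, rfl⟩ := MvPolynomial.mem_coeffs_iff.1 hr
    exact ⟨⟨_, hsub _ (Finset.mem_insert_of_mem
      (Finset.mem_biUnion.2 ⟨F, hF, Finset.mem_image_of_mem _ hd⟩))⟩, rfl⟩
  have hmem : ∀ F ∈ Fs ∪ {wp, cp, sp}, ψ F ∈ C₀ := fun F hF => by
    obtain ⟨F₀, rfl⟩ := hlift F hF
    rw [map_aeval_model, hψ₁]
    exact (ψ₀ F₀).2
  let c₀ : C₀ := ⟨c, hcp ▸ hmem cp (by simp)⟩
  let w₀ : C₀ := ⟨w, hwp ▸ hmem wp (by simp)⟩
  let s₀ : C₀ := ⟨s, hsp ▸ hmem sp (by simp)⟩
  let a₀ : A₀ := ⟨a, hsub _ (Finset.mem_insert_self _ _)⟩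
  let q₀ : Ideal C₀ := q.comap C₀.val.toRingHom
  haveI : IsScalarTower A₀ A k := inferInstance
  letI : Algebra C (TensorProduct A k C) := Algebra.TensorProduct.rightAlgebra
  letI : Algebra C₀ (TensorProduct A k C) := ((algebraMap C (TensorProduct A k C)).comp C₀.val.toRingHom).toAlgebra
  haveI : IsScalarTower A₀ k (TensorProduct A k C) := IsScalarTower.of_algebraMap_eq fun r => by
    rw [IsScalarTower.algebraMap_apply A₀ A (TensorProduct A k C), IsScalarTower.algebraMap_apply A₀ A k,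
      ← IsScalarTower.algebraMap_apply A k (TensorProduct A k C)]
  haveI : IsScalarTower A₀ C₀ (TensorProduct A k C) := IsScalarTower.of_algebraMap_eq fun r => by
    show _ = algebraMap C (TensorProduct A k C) (algebraMap A C (algebraMap A₀ A r))
    rw [← IsScalarTower.algebraMap_apply A C (TensorProduct A k C),
      ← IsScalarTower.algebraMap_apply A₀ A (TensorProduct A k C)]
  haveI : Algebra.IsPushout A₀ k C₀ (TensorProduct A k C) :=
    isPushout_of_relations Subtype.val_injective ψ hψ ψ₀ hψ₀ hX (Fs : Set _) hFs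
      (fun F hF => hlift F (Finset.mem_union_left _ hF)) hFsJ fun _ => rfl
  haveI : IsScalarTower C₀ C (TensorProduct A k C) := IsScalarTower.of_algebraMap_eq fun _ => rfl
  let e := PrimeSpectrum.preimageOrderIsoFiber A C ⟨p, inferInstance⟩
  have hsurj : ∀ N : PrimeSpectrum C, N.asIdeal.comap (algebraMap A C) = p →
      ∃ z : PrimeSpectrum (TensorProduct A k C), z.asIdeal.comap (algebraMap C (TensorProduct A k C)) = N.asIdeal :=
    fun N hN => ⟨e ⟨N, PrimeSpectrum.ext hN⟩, congrArg (fun z => z.1.asIdeal) (e.symm_apply_apply ⟨N, PrimeSpectrum.ext hN⟩)⟩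
  have hmemX : ∀ i, ψ (MvPolynomial.X i) ∈ C₀ := fun i => by
    rw [← hX i]
    exact (ψ₀ (MvPolynomial.X i)).2
  have hle₀ : Algebra.trdeg A C ≤ Algebra.trdeg A₀ C₀ := trdeg_le_subalgebra ψ hψ C₀ hmemX
  by_contra hno
  push Not at hno
  -- the Noetherian model
  obtain ⟨P₀, hP₀q, hcP₀, hP₀⟩ := exists_horizontal_of_noetherian (A := A₀) (C := C₀) q₀ c₀ hcq fun M hMq hMp hMmin => by
    obtain ⟨N, hNq, hNM, hNp, hNmin, htr⟩ := exists_max_lift (A₀ := A₀) (A := A) (k := k) (C₀ := C₀) (C := C)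
      (D := TensorProduct A k C) q (Ideal.ker_algebraMap_residueField p) hsurj
      (fun z z' h => e.symm.le_iff_le.1 h) M hMq hMp hMmin
    refine ⟨?_, fun hcM => ?_⟩
    · rw [htr]
      exact (resTrdeg_le_of_le_of_fibreDimAt_le hNq hdim).trans (hn.ge.trans hle₀)
    · have hcN : c ∈ N.asIdeal := mem_of_mem_comap_subalgebra hNM hcM
      obtain ⟨N', hN', hN'p, hne⟩ := hno N hNq hcN hNp
      exact hne (hNmin N' hN' hN'p)
  have hz : algebraMap A₀ C₀ a₀ * s₀ = w₀ * c₀ := Subtype.ext hw.symm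
  have h1 : algebraMap A₀ C₀ a₀ * s₀ ∈ P₀.asIdeal := hz ▸ Ideal.mul_mem_left _ _ hcP₀
  rcases P₀.2.mem_or_mem h1 with h1 | h1
  · have h2 : a₀ ∈ P₀.asIdeal.comap (algebraMap A₀ C₀) := h1
    rw [hP₀, Ideal.mem_bot] at h2
    exact nonZeroDivisors.ne_zero ha (congrArg Subtype.val h2)
  · exact hs (hP₀q h1)

end Groth.Agent.FlatFunLib
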