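import Groth.Agent.S2069
import Groth.Agent.S2512
import Groth.Agent.RG.AssPts

/-!
Associated primes under an extension of the ground field.
-/

set_option autoImplicit false
set_option linter.style.haveILetI false
set_option backward.isDefEq.respectTransparency false

universe u

open TensorProduct
open Groth.Agent.RG

namespace Groth.Agent.FlatFunLib

variable {k K B B' : Type u} [Field k] [Field K] [Algebra k K] [CommRing B] [Algebra k B] [CommRing B'] [Algebra B B']
  [Algebra K B'] [Algebra k B'] [IsScalarTower k B B'] [hkK : IsScalarTower k K B'] [hpo : Algebra.IsPushout k K B B']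

include k K hkK hpo

theorem flat_baseChange_field : Module.Flat B B' := by
  haveI : Algebra.IsPushout k B K B' := Algebra.IsPushout.symm inferInstance
  exact Module.Flat.isBaseChange k B K B' (Algebra.IsPushout.out (R := k) (S := B) (R' := K) (S' := B'))

theorem isNoetherian_fibre_field [Algebra.FiniteType k B] (q : Ideal B) [q.IsPrime] :
    IsNoetherianRing (q.ResidueField ⊗[k] K) ∧ Nonempty (q.Fiber B' ≃+* q.ResidueField ⊗[k] K) := by
  letI : Algebra.FiniteType K B' := by
    have : Algebra.IsPushout k K B B' := inferInstance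
    exact Algebra.FiniteType.equiv (inferInstance : Algebra.FiniteType K (K ⊗[k] B)) (Algebra.IsPushout.equiv k K B B')
  haveI : IsNoetherianRing B' := Algebra.FiniteType.isNoetherianRing K B'
  haveI : IsNoetherianRing B := Algebra.FiniteType.isNoetherianRing k B
  haveI : IsNoetherianRing (B' ⊗[B] q.ResidueField) := Algebra.EssFiniteType.isNoetherianRing B' _
  let e : (B' ⊗[B] q.ResidueField) ≃+* q.ResidueField ⊗[k] K :=
    (Algebra.IsPushout.cancelBaseChangeAlg k K B B' q.ResidueField).toRingEquiv.trans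
      (Algebra.TensorProduct.comm k K q.ResidueField).toRingEquiv
  exact ⟨isNoetherianRing_of_ringEquiv _ e,
    ⟨(Algebra.TensorProduct.comm B q.ResidueField B').toRingEquiv.trans e⟩⟩

omit k K hkK hpo in
theorem smul_regular_quotient [Module.Flat B B'] (q : Ideal B) [q.IsPrime] {c : B} (hc : c ∉ q)
    (z : B' ⧸ q.map (algebraMap B B')) (hz : algebraMap B B' c • z = 0) : z = 0 := by
  let e := (Algebra.TensorProduct.quotIdealMapEquivTensorQuot B' q).toLinearEquiv
  let f : (B ⧸ q) →ₗ[B] B ⧸ q := LinearMap.lsmul B (B ⧸ q) c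
  have hf : Function.Injective f := by
    rw [injective_iff_map_eq_zero]
    intro v hv
    obtain ⟨b, rfl⟩ := Ideal.Quotient.mk_surjective v
    have h1 : Ideal.Quotient.mk q (c * b) = 0 := hv
    exact Ideal.Quotient.eq_zero_iff_mem.2 (((inferInstance : q.IsPrime).mem_or_mem
      (Ideal.Quotient.eq_zero_iff_mem.1 h1)).resolve_left hc)
  have hf' := Module.Flat.lTensor_preserves_injective_linearMap (M := B') f hf
  have key : ∀ w, f.lTensor B' w = algebraMap B B' c • w := by
    intro w
    induction w using TensorProduct.induction_on with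
    | zero => simp
    | tmul a b => rw [LinearMap.lTensor_tmul, algebraMap_smul, ← tmul_smul]; rfl
    | add a b ha hb => rw [map_add, smul_add, ha, hb]
  apply e.injective
  rw [map_zero]
  apply hf'
  rw [key, map_zero, ← map_smul, hz, map_zero]

/-- Associated primes after extending the ground field: they lie over associated primes and are minimal
among the primes over them. -/
theorem associatedPrimes_iff_field_baseChange [Algebra.FiniteType k B] {M M' : Type u} [AddCommGroup M] [Module B M]
    [AddCommGroup M'] [Module B' M'] (l : B' ⊗[B] M ≃ₗ[B'] M') (Q : Ideal B') [Q.IsPrime] :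
    Q ∈ associatedPrimes B' M' ↔ Q.comap (algebraMap B B') ∈ associatedPrimes B M ∧
      ∀ P : Ideal B', P.IsPrime → P.comap (algebraMap B B') = Q.comap (algebraMap B B') → P ≤ Q → Q ≤ P := by
  haveI : IsNoetherianRing B := Algebra.FiniteType.isNoetherianRing k B
  letI : Algebra.FiniteType K B' :=
    Algebra.FiniteType.equiv (inferInstance : Algebra.FiniteType K (K ⊗[k] B)) (Algebra.IsPushout.equiv k K B B')
  haveI : IsNoetherianRing B' := Algebra.FiniteType.isNoetherianRing K B'
  haveI : Module.Flat B B' := flat_baseChange_field (k := k) (K := K)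
  rw [← LinearEquiv.AssociatedPrimes.eq l, S2069.result, Set.mem_iUnion₂]
  have hJ : ∀ q : Ideal B, (q.map (algebraMap B B') • (⊤ : Submodule B' B')) = q.map (algebraMap B B') := fun q => by
    rw [smul_eq_mul, Ideal.mul_top]
  constructor
  · rintro ⟨q, hq, hQ⟩
    rw [LinearEquiv.AssociatedPrimes.eq (Submodule.quotEquivOfEq _ _ (hJ q))] at hQ
    haveI := (AssociatedPrimes.mem_iff.1 hq).isPrime
    obtain ⟨-, z, hz⟩ := isAssociatedPrime_iff.1 hQ
    have hz0 : z ≠ 0 := fun h => (inferInstance : Q.IsPrime).ne_top (by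
      rw [hz, Ideal.eq_top_iff_one, Submodule.mem_colon_singleton, h, smul_zero]; exact Submodule.zero_mem _)
    have hJQ : q.map (algebraMap B B') ≤ Q := fun j hj => by
      rw [hz, Submodule.mem_colon_singleton, Submodule.mem_bot]
      obtain ⟨w, rfl⟩ := Ideal.Quotient.mk_surjective z
      exact Ideal.Quotient.eq_zero_iff_mem.2 (Ideal.mul_mem_right w _ hj)
    have hqQ : Q.comap (algebraMap B B') = q := by
      refine le_antisymm (fun c hc => ?_) (Ideal.map_le_iff_le_comap.1 hJQ)
      by_contra hcq
      rw [Ideal.mem_comap, hz, Submodule.mem_colon_singleton, Submodule.mem_bot] at hc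
      exact hz0 (smul_regular_quotient q hcq z hc)
    refine ⟨hqQ.symm ▸ hq, fun P hP hPc hPQ => ?_⟩
    haveI := hP
    obtain ⟨hN, ⟨e⟩⟩ := isNoetherian_fibre_field (k := k) (K := K) (B' := B') q
    haveI := hN
    haveI : IsNoetherianRing (q.Fiber B') := isNoetherianRing_of_ringEquiv _ e.symm
    let inc : B' →+* q.Fiber B' := (Algebra.TensorProduct.includeRight : B' →ₐ[B] q.Fiber B').toRingHom
    obtain ⟨w, rfl⟩ := Ideal.Quotient.mk_surjective z
    have hne : inc w ≠ 0 := fun h0 => by
      obtain ⟨c, hc, hcw⟩ := (one_tmul_eq_zero_iff q w).1 h0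
      refine hc (hqQ.le ?_)
      rw [Ideal.mem_comap, hz, Submodule.mem_colon_singleton, Submodule.mem_bot]
      refine Ideal.Quotient.eq_zero_iff_mem.2 ?_
      rw [Ideal.smul_top_eq_map, Submodule.restrictScalars_mem, Algebra.smul_def] at hcw
      exact hcw
    obtain ⟨P', hP', hle⟩ := exists_le_isAssociatedPrime_of_isNoetherianRing (q.Fiber B') (inc w) hne
    have hQle : FlatCA.fiberIdeal q Q ≤ P' := Ideal.map_le_iff_le_comap.2 fun s hs => hle (by
      rw [Submodule.mem_colon_singleton, Submodule.mem_bot, smul_eq_mul]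
      show inc s * inc w = 0
      rw [← map_mul]
      refine (one_tmul_eq_zero_iff q _).2 ⟨1, fun h1 => (inferInstance : q.IsPrime).ne_top
        ((Ideal.eq_top_iff_one q).2 h1), ?_⟩
      rw [one_smul, Ideal.smul_top_eq_map, Submodule.restrictScalars_mem]
      rw [hz, Submodule.mem_colon_singleton, Submodule.mem_bot] at hs
      exact Ideal.Quotient.eq_zero_iff_mem.1 hs)
    have hmin : P' ∈ minimalPrimes (q.Fiber B') := by
      obtain ⟨hP'p, v, hv⟩ := isAssociatedPrime_iff.1 hP'
      haveI := hP'p
      have h1 : P'.comap e.symm.toRingHom ∈ associatedPrimes (q.ResidueField ⊗[k] K) (q.ResidueField ⊗[k] K) := by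
        refine isAssociatedPrime_iff.2 ⟨Ideal.IsPrime.comap _, e v, ?_⟩
        ext x
        rw [Ideal.mem_comap, hv, Submodule.mem_colon_singleton, Submodule.mem_bot, Submodule.mem_colon_singleton,
          Submodule.mem_bot, smul_eq_mul, smul_eq_mul, ← e.symm.map_eq_zero_iff (x := x * e v), map_mul,
          RingEquiv.symm_apply_apply]
        rfl
      have h2 := S2512.result h1
      refine ⟨⟨hP'p, bot_le⟩, fun P₂ hP₂ hle₂ => ?_⟩
      haveI := hP₂.1
      intro x hx
      have h3 := h2.2 ⟨Ideal.IsPrime.comap e.symm.toRingHom, bot_le⟩ (Ideal.comap_mono hle₂)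
        (x := e x) (show e.symm (e x) ∈ P' by rw [RingEquiv.symm_apply_apply]; exact hx)
      rw [Ideal.mem_comap] at h3
      simpa using h3
    obtain ⟨P₁, hP₁⟩ := exists_prime_over B B' q P (hPc.trans hqQ)
    obtain ⟨Q₁, hQ₁⟩ := exists_prime_over B B' q Q hqQ
    have hprime : ∀ (T : Ideal B') [T.IsPrime], T.comap (algebraMap B B') = q →
        (FlatCA.fiberIdeal q T).IsPrime ∧ (FlatCA.fiberIdeal q T).comap inc = T := fun T _ hT => by
      obtain ⟨T', hT'⟩ := (PrimeSpectrum.preimageEquivFiber B B' ⟨q, inferInstance⟩).symm.surjective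
        ⟨⟨T, inferInstance⟩, PrimeSpectrum.ext hT⟩
      have h1 : T'.asIdeal.comap inc = T := congrArg (fun x => x.1.asIdeal) hT'
      have h2 : FlatCA.fiberIdeal q T = T'.asIdeal := h1 ▸ fiberIdeal_comap B B' q T'.asIdeal
      rw [h2]
      exact ⟨T'.isPrime, h1⟩
    obtain ⟨hPp, hPc'⟩ := hprime P (hPc.trans hqQ)
    have h4 : P' ≤ FlatCA.fiberIdeal q P := hmin.2 ⟨hPp, bot_le⟩ ((Ideal.map_mono hPQ).trans hQle)
    rw [← (hprime Q hqQ).2, ← hPc']
    exact Ideal.comap_mono (hQle.trans h4)
  · rintro ⟨hq, hmin⟩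
    refine ⟨_, hq, ?_⟩
    rw [LinearEquiv.AssociatedPrimes.eq (Submodule.quotEquivOfEq _ _ (hJ _))]
    refine Module.associatedPrimes.minimalPrimes_annihilator_subset_associatedPrimes B' _ ?_
    rw [Ideal.annihilator_quotient]
    refine ⟨⟨inferInstance, Ideal.map_comap_le⟩, fun P hP hPQ => ?_⟩
    exact hmin P hP.1 (le_antisymm (Ideal.comap_mono hPQ) (Ideal.map_le_iff_le_comap.1 hP.2)) hPQ

end Groth.Agent.FlatFunLib
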