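import Groth.Agent.FlatFunLib.RelAssGenericSch

/-!
Generic points of fibres of the closure of a relative associated point, near that point.
-/

set_option autoImplicit false
set_option linter.style.haveILetI false
set_option backward.isDefEq.respectTransparency false

universe u

open TensorProduct Topology
open Groth.Agent.RG Groth.Agent.RG.Pure

attribute [local instance] Algebra.TensorProduct.rightAlgebra

namespace Groth.Agent.FlatFunLib

section Algebra

variable {A B N : Type u} [CommRing A] [CommRing B] [Algebra A B] [Algebra.FiniteType A B] [AddCommGroup N]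
  [Module B N] [Module A N] [IsScalarTower A B N]

/-- An associated point of a fibre is exactly the annihilator of a vector. -/
theorem exists_exact_vector {p : Ideal A} [p.IsPrime] {σ : Ideal B} (hσ : σ ∈ assPts A B N p) :
    ∃ y : p.ResidueField ⊗[A] N, y ≠ 0 ∧ ∀ (s : B), s ∈ σ ↔ act A p.ResidueField s y = 0 := by
  obtain ⟨Q, hQ, rfl⟩ := hσ
  haveI : IsNoetherianRing (p.Fiber B) := Algebra.FiniteType.isNoetherianRing p.ResidueField _
  obtain ⟨hQp, z, hz⟩ := isAssociatedPrime_iff.1 hQ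
  obtain ⟨eF, heF⟩ := exists_fibreMod_equiv (B := B) (N := N) p
  let z' : (p.Fiber B) ⊗[B] N := z
  refine ⟨eF z', fun h0 => hQp.ne_top ?_, fun s => ?_⟩
  · rw [LinearEquiv.map_eq_zero_iff] at h0
    rw [hz, Ideal.eq_top_iff_one, Submodule.mem_colon_singleton, Submodule.mem_bot]
    exact (one_smul _ _).trans h0
  · rw [Ideal.mem_comap, hz, Submodule.mem_colon_singleton, Submodule.mem_bot, ← heF, LinearEquiv.map_eq_zero_iff]
    rfl

/-- Injective maps on a fibre carry associated points to associated points. -/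
theorem assPts_subset_of_injective {M : Type u} [AddCommGroup M] [Module B M] [Module A M] [IsScalarTower A B M]
    (p : Ideal A) [p.IsPrime] (u : M →ₗ[B] N)
    (hu : Function.Injective ((u.restrictScalars A).lTensor p.ResidueField)) :
    assPts A B M p ⊆ assPts A B N p := by
  intro σ hσ
  obtain ⟨y, hy⟩ := assAt_of_mem_assPts hσ
  refine mem_assPts_of_assAt (K := p.ResidueField) (isPrime_of_mem_assPts _ _ _ hσ).1
    ⟨(u.restrictScalars A).lTensor p.ResidueField y, fun s => ?_⟩
  rw [hy]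
  refine exists_congr fun k => ?_
  have h1 : ∀ (t : B) (z : p.ResidueField ⊗[A] M), act A p.ResidueField t ((u.restrictScalars A).lTensor _ z) =
      (u.restrictScalars A).lTensor _ (act A p.ResidueField t z) := by
    intro t z
    induction z using TensorProduct.induction_on with
    | zero => simp
    | tmul a b => simp [act_tmul]
    | add a b ha hb => simp only [map_add, ha, hb]
  rw [h1, map_eq_zero_iff _ hu]

/-- Minimal primes of a closed subscheme in a fibre are associated to it. -/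
theorem mem_assPts_quotient (J : Ideal B) {p : Ideal A} [p.IsPrime] (q : Ideal B) [q.IsPrime]
    (hq : q.comap (algebraMap A B) = p) (hJ : J ≤ q)
    (hmin : ∀ q' : Ideal B, q'.IsPrime → q'.comap (algebraMap A B) = p → J ≤ q' → q' ≤ q → q ≤ q') :
    q ∈ assPts A B (B ⧸ J) p := by
  let T := p.Fiber B
  haveI : IsNoetherianRing T := Algebra.FiniteType.isNoetherianRing p.ResidueField _
  rw [mem_assPts_iff A B p q hq]
  show FlatCA.fiberIdeal p q ∈ associatedPrimes T (T ⊗[B] (B ⧸ J))
  let inc : B →+* T := (Algebra.TensorProduct.includeRight : B →ₐ[A] T).toRingHom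
  obtain ⟨Q, hQ⟩ := exists_prime_over A B p q hq
  let e := (Algebra.TensorProduct.quotIdealMapEquivTensorQuot T J).toLinearEquiv
  have hann : Module.annihilator T (T ⊗[B] (B ⧸ J)) = J.map (algebraMap B T) := by
    rw [← e.annihilator_eq, Ideal.annihilator_quotient]
  have hQp : (FlatCA.fiberIdeal p q).IsPrime ∧ (FlatCA.fiberIdeal p q).comap inc = q := by
    obtain ⟨Q', hQ'⟩ := (PrimeSpectrum.preimageEquivFiber A B ⟨p, inferInstance⟩).symm.surjective
      ⟨⟨q, inferInstance⟩, PrimeSpectrum.ext hq⟩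
    have h1 : Q'.asIdeal.comap inc = q := congrArg (fun z => z.1.asIdeal) hQ'
    have h2 : FlatCA.fiberIdeal p q = Q'.asIdeal := h1 ▸ fiberIdeal_comap A B p Q'.asIdeal
    rw [h2]
    exact ⟨Q'.isPrime, h1⟩
  haveI := hQp.1
  refine Module.associatedPrimes.minimalPrimes_annihilator_subset_associatedPrimes T _ ?_
  rw [hann]
  refine ⟨⟨hQp.1, Ideal.map_le_iff_le_comap.2 (hJ.trans hQp.2.ge)⟩, fun Q₁ hQ₁ hle => ?_⟩
  haveI := hQ₁.1
  have hc : (Q₁.comap inc).comap (algebraMap A B) = p := by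
    rw [Ideal.comap_comap, show inc.comp (algebraMap A B) = algebraMap A T from
      RingHom.ext fun r => Algebra.TensorProduct.includeRight.commutes r]
    exact (Ideal.over_def Q₁ p).symm
  have h1 := hmin _ (Ideal.IsPrime.comap _) hc (Ideal.map_le_iff_le_comap.1 hQ₁.2)
    ((Ideal.comap_mono hle).trans hQp.2.le)
  calc FlatCA.fiberIdeal p q ≤ FlatCA.fiberIdeal p (Q₁.comap inc) := Ideal.map_mono h1
    _ = Q₁ := fiberIdeal_comap A B p Q₁

theorem flat_residueField_bot [IsDomain A] : Module.Flat A (⊥ : Ideal A).ResidueField := by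
  letI : Algebra (FractionRing A) (⊥ : Ideal A).ResidueField :=
    (IsFractionRing.lift (K := FractionRing A) residueField_bot_injective).toAlgebra
  haveI : IsScalarTower A (FractionRing A) (⊥ : Ideal A).ResidueField := IsScalarTower.of_algebraMap_eq fun x =>
    (IsFractionRing.lift_algebraMap residueField_bot_injective x).symm
  exact Module.Flat.trans A (FractionRing A) _

/-- Near the generic point, generic points of the closure of an associated point are associated. -/
theorem generic_minimal_mem_assPts [IsDomain A] [Module.Finite B N] {σ : Ideal B} (hσ : σ ∈ assPts A B N ⊥) :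
    ∃ a : A, a ≠ 0 ∧ ∀ (p : Ideal A) [p.IsPrime], a ∉ p → ∀ (q : Ideal B) [q.IsPrime],
      q.comap (algebraMap A B) = p → σ ≤ q →
      (∀ q' : Ideal B, q'.IsPrime → q'.comap (algebraMap A B) = p → σ ≤ q' → q' ≤ q → q ≤ q') →
        q ∈ assPts A B N p := by
  obtain ⟨y, hy0, hy⟩ := exists_exact_vector hσ
  let K := (⊥ : Ideal A).ResidueField
  obtain ⟨n, c, hn⟩ : ∃ (n : N) (c : K), y = c ⊗ₜ[A] n := by
    obtain ⟨⟨n, c⟩, hc⟩ := IsLocalizedModule.surj (nonZeroDivisors A) (TensorProduct.mk A K N 1) y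
    have hc0 : algebraMap A K c ≠ 0 := fun h0 =>
      nonZeroDivisors.coe_ne_zero c (residueField_bot_injective (h0.trans (map_zero _).symm))
    refine ⟨n, (algebraMap A K c)⁻¹, ?_⟩
    have hc' : algebraMap A K c • y = (1 : K) ⊗ₜ[A] n := (algebraMap_smul K (c : A) y).trans hc
    rw [← inv_smul_smul₀ hc0 y, hc', smul_tmul', smul_eq_mul, mul_one]
  have hc0 : c ≠ 0 := fun h0 => hy0 (by rw [hn, h0, zero_tmul])
  have hsn : ∀ s : B, s ∈ σ ↔ (1 : K) ⊗ₜ[A] (s • n) = 0 := fun s => by
    rw [hy, hn, act_tmul, show c ⊗ₜ[A] (s • n) = c • ((1 : K) ⊗ₜ[A] (s • n)) by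
      rw [smul_tmul', smul_eq_mul, mul_one], smul_eq_zero]
    exact or_iff_right hc0
  let J := LinearMap.ker (LinearMap.toSpanSingleton B N n)
  have hJ : ∀ s, s ∈ J ↔ s • n = 0 := fun s => LinearMap.mem_ker
  have hJσ : J ≤ σ := fun s hs => (hsn s).2 (by rw [(hJ s).1 hs, tmul_zero])
  let u : (B ⧸ J) →ₗ[B] N := Submodule.liftQ J (LinearMap.toSpanSingleton B N n) le_rfl
  have hu : Function.Injective u := LinearMap.ker_eq_bot.1 (Submodule.ker_liftQ_eq_bot _ _ _ le_rfl)
  haveI := flat_residueField_bot (A := A)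
  obtain ⟨f, hf, hpf⟩ := exists_injective_near_bot' (A := A) u (LinearMap.range u).mkQ
    (LinearMap.exact_map_mkQ_range u) (Submodule.mkQ_surjective _)
    (Module.Flat.lTensor_preserves_injective_linearMap (u.restrictScalars A) hu)
  obtain ⟨f', hf', hfree, -, -, -⟩ := GenFree.generic_freeness (R := A) (S := B) (M := N)
  haveI : Module.Free (Localization.Away f') (Localization.Away f' ⊗[A] N) := hfree
  obtain ⟨_, _⟩ := exists_tower (f := f') K fun h0 => hf' (residueField_bot_injective (h0.trans (map_zero _).symm))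
  -- powers of `f'` push `σ` into `J`
  have hpow : ∀ s ∈ σ, ∃ k : ℕ, algebraMap A B (f' ^ k) * s ∈ J := by
    intro s hs
    have h1 : (1 : Localization.Away f') ⊗ₜ[A] (s • n) = 0 := one_tmul_injective_of_free hf' N _
      ((AlgebraTensorModule.cancelBaseChange A (Localization.Away f') K K N).injective (by
        rw [map_zero, AlgebraTensorModule.cancelBaseChange_tmul, one_smul]; exact (hsn s).1 hs))
    obtain ⟨⟨_, k, rfl⟩, hk⟩ := (IsLocalizedModule.eq_zero_iff (Submonoid.powers f')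
      (TensorProduct.mk A (Localization.Away f') N 1)).1 h1
    refine ⟨k, (hJ _).2 ?_⟩
    rw [mul_smul, algebraMap_smul]
    exact hk
  refine ⟨f * f', mul_ne_zero hf hf', fun p _ hp q _ hq hle hmin => ?_⟩
  refine assPts_subset_of_injective p u (hpf p fun h => hp (p.mul_mem_right f' h))
    (mem_assPts_quotient J q hq (hJσ.trans hle) fun q' hq'p hq' hJq' hle' => hmin q' hq'p hq' (fun s hs => ?_) hle')
  obtain ⟨k, hk⟩ := hpow s hs
  refine (hq'p.mem_or_mem (hJq' hk)).resolve_left fun h => hp (p.mul_mem_left f ?_)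
  have h2 : f' ^ k ∈ p := hq' ▸ h
  exact (inferInstance : p.IsPrime).mem_of_pow_mem k h2

/-- The same along the closure of a prime of the base. -/
theorem minimal_mem_assPts_near_prime [Module.Finite B N] {η : Ideal A} [η.IsPrime] {σ : Ideal B}
    (hσ : σ ∈ assPts A B N η) :
    ∃ a : A, a ∉ η ∧ ∀ (p : Ideal A) [p.IsPrime], η ≤ p → a ∉ p → ∀ (q : Ideal B) [q.IsPrime],
      q.comap (algebraMap A B) = p → σ ≤ q →
      (∀ q' : Ideal B, q'.IsPrime → q'.comap (algebraMap A B) = p → σ ≤ q' → q' ≤ q → q ≤ q') →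
        q ∈ assPts A B N p := by
  let C := A ⧸ η
  let B' := C ⊗[A] B
  let N' := B' ⊗[B] N
  have hη : (⊥ : Ideal C).comap (algebraMap A C) = η := Ideal.mk_ker
  obtain ⟨σ', hσ', hσ'c⟩ := exists_assPts_over (A := A) (B := B) (C := C) (B' := B') (M' := N') (LinearEquiv.refl B' N') η ⊥ hη σ hσ
  obtain ⟨c, hc, hcp⟩ := generic_minimal_mem_assPts hσ'
  obtain ⟨a, rfl⟩ := Ideal.Quotient.mk_surjective c
  refine ⟨a, fun h => hc (Ideal.Quotient.eq_zero_iff_mem.2 h), fun p _ hle hap q _ hq hσq hmin => ?_⟩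
  have hsurj : Function.Surjective (algebraMap B B') := by
    intro z
    induction z using TensorProduct.induction_on with
    | zero => exact ⟨0, map_zero _⟩
    | tmul c b =>
      obtain ⟨x, rfl⟩ := Ideal.Quotient.mk_surjective c
      refine ⟨x • b, ?_⟩
      show (1 : C) ⊗ₜ[A] (x • b) = _
      rw [tmul_smul, smul_tmul', Algebra.smul_def, mul_one]
      rfl
    | add y z hy hz =>
      obtain ⟨r, rfl⟩ := hy
      obtain ⟨s, rfl⟩ := hz
      exact ⟨r + s, map_add _ _ _⟩
  have hker : RingHom.ker (algebraMap B B') ≤ q := by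
    have hηq : η ≤ RingHom.ker ((Ideal.Quotient.mk q).comp (algebraMap A B)) := fun x hx =>
      Ideal.Quotient.eq_zero_iff_mem.2 (show x ∈ q.comap (algebraMap A B) from hq.symm ▸ hle hx)
    let g : C →ₐ[A] B ⧸ q :=
      { Ideal.Quotient.lift η ((Ideal.Quotient.mk q).comp (algebraMap A B)) fun x hx => hηq hx with
        commutes' := fun x => rfl }
    let Ψ : B' →ₐ[A] B ⧸ q := Algebra.TensorProduct.lift g (Ideal.Quotient.mkₐ A q) fun _ _ => Commute.all _ _
    intro b hb
    have h1 := congrArg Ψ (RingHom.mem_ker.1 hb)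
    rw [map_zero, show algebraMap B B' b = (1 : C) ⊗ₜ[A] b from rfl, Algebra.TensorProduct.lift_tmul, map_one,
      one_mul] at h1
    exact Ideal.Quotient.eq_zero_iff_mem.1 h1
  let q' := q.map (algebraMap B B')
  haveI : q'.IsPrime := Ideal.map_isPrime_of_surjective hsurj hker
  have hqc : q'.comap (algebraMap B B') = q := by
    rw [Ideal.comap_map_of_surjective _ hsurj]
    exact sup_eq_left.2 ((RingHom.ker_eq_comap_bot _).ge.trans hker)
  let p' := q'.comap (algebraMap C B')
  have hp' : p'.comap (algebraMap A C) = p := by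
    rw [Ideal.comap_comap, ← IsScalarTower.algebraMap_eq, IsScalarTower.algebraMap_eq A B B', ← Ideal.comap_comap,
      hqc, hq]
  have h := hcp p' (fun hm => hap (hp' ▸ hm)) q' rfl ?_ fun q₁ hq₁ hq₁c hσq₁ hle₁ => ?_
  · have := mem_assPts_of_baseChange (A := A) (B := B) (M' := N') (LinearEquiv.refl B' N') p' q' h
    rw [hqc] at this
    subst hp'
    exact this
  · intro z hz
    obtain ⟨b, rfl⟩ := hsurj z
    exact Ideal.mem_map_of_mem _ (hσq (hσ'c ▸ hz))
  · haveI := hq₁
    have h2 : q₁.comap (algebraMap B B') ≤ q := (Ideal.comap_mono hle₁).trans hqc.le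
    have h3 : (q₁.comap (algebraMap B B')).comap (algebraMap A B) = p := by
      rw [Ideal.comap_comap, ← IsScalarTower.algebraMap_eq, IsScalarTower.algebraMap_eq A C B', ← Ideal.comap_comap,
        hq₁c, hp']
    exact Ideal.map_le_iff_le_comap.2
      (hmin _ (Ideal.IsPrime.comap _) h3 (hσ'c ▸ Ideal.comap_mono hσq₁) h2)

end Algebra

open CategoryTheory AlgebraicGeometry

/-- Near a relative associated point, generic points of the fibres of its closure are relative associated. -/
theorem exists_open_closure_generic_relAss {X S : Scheme.{u}} (f : X ⟶ S) [LocallyOfFiniteType f] (F : X.Modules)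
    (hq : Coh.IsQCoh F) (hft : CohB1.IsFT F) (ξ : X) (hξ : ξ ∈ MoreMor.relAss f F) :
    ∃ O : X.Opens, ξ ∈ O ∧ ∀ x ∈ O, ξ ⤳ x →
      (∀ x' ∈ O, ξ ⤳ x' → f x' = f x → x' ⤳ x → x' = x) → x ∈ MoreMor.relAss f F := by
  obtain ⟨V, hV, hxV, -⟩ := exists_isAffineOpen_mem_and_subset (X := S) (x := f ξ) (U := ⊤) trivial
  obtain ⟨W, hW, hξW, e⟩ := exists_isAffineOpen_mem_and_subset (X := X) (x := ξ) (U := f ⁻¹ᵁ V) hxV
  letI : Algebra Γ(S, V) Γ(X, W) := (f.appLE V W e).hom.toAlgebra
  letI : Module Γ(S, V) Γ(F, W) := Module.compHom Γ(F, W) (f.appLE V W e).hom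
  haveI : IsScalarTower Γ(S, V) Γ(X, W) Γ(F, W) := IsScalarTower.of_algebraMap_smul fun _ _ => rfl
  haveI : Algebra.FiniteType Γ(S, V) Γ(X, W) := f.finiteType_appLE hV hW e
  haveI := QC.finite_sections hW (hM := hq) hft
  obtain ⟨a, ha, hap⟩ := minimal_mem_assPts_near_prime
    (mem_assPts_of_mem_relAss f F hq hft hV hW e ξ hξW hξ)
  have hmem : ∀ (z : X) (hz : z ∈ W), z ∈ W ⊓ f ⁻¹ᵁ S.basicOpen a ↔
      a ∉ (hV.primeIdealOf ⟨f z, e hz⟩).asIdeal := fun z hz => by
    refine (and_iff_right hz : _ ↔ f z ∈ S.basicOpen a).trans ?_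
    exact WeakAssLib.mem_primeIdealOf hV (e hz) a
  have hle_iff : ∀ (z w : X) (hz : z ∈ W) (hw : w ∈ W),
      z ⤳ w ↔ (hW.primeIdealOf ⟨z, hz⟩).asIdeal ≤ (hW.primeIdealOf ⟨w, hw⟩).asIdeal := fun z w hz hw => by
    conv_lhs => rw [← show hW.fromSpec (hW.primeIdealOf ⟨z, hz⟩) = z from hW.fromSpec_primeIdealOf ⟨z, hz⟩,
      ← show hW.fromSpec (hW.primeIdealOf ⟨w, hw⟩) = w from hW.fromSpec_primeIdealOf ⟨w, hw⟩,
      hW.fromSpec.isOpenEmbedding.isInducing.specializes_iff, ← PrimeSpectrum.le_iff_specializes]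
    rfl
  refine ⟨W ⊓ f ⁻¹ᵁ S.basicOpen a, (hmem ξ hξW).2 ha, fun x hx hsp hmax => ?_⟩
  refine RG.Pure.mem_relAss_of_assPts f F hq hV hW e x hx.1 _
    (hap (hV.primeIdealOf ⟨f x, e hx.1⟩).asIdeal ?_ ((hmem x hx.1).1 hx) _
      (congrArg PrimeSpectrum.asIdeal (IsAffineOpen.comap_primeIdealOf_appLE V hV W hW e hx.1))
      ((hle_iff ξ x hξW hx.1).1 hsp) fun q' hq' hq'c hσq' hle => ?_)
  · have h1 := Ideal.comap_mono (f := algebraMap Γ(S, V) Γ(X, W)) ((hle_iff ξ x hξW hx.1).1 hsp)
    refine ((congrArg PrimeSpectrum.asIdeal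
      (IsAffineOpen.comap_primeIdealOf_appLE V hV W hW e hξW)).ge.trans h1).trans ?_
    exact (congrArg PrimeSpectrum.asIdeal (IsAffineOpen.comap_primeIdealOf_appLE V hV W hW e hx.1)).le
  · obtain ⟨hz, hz'⟩ := InjFibre.primeIdealOf_fromSpec hW ⟨q', hq'⟩
    let z : X := hW.fromSpec ⟨q', hq'⟩
    have hzq : (hW.primeIdealOf ⟨z, hz⟩).asIdeal = q' := congrArg PrimeSpectrum.asIdeal hz'
    have hfz : f z = f x := by
      have h1 : hV.primeIdealOf ⟨f z, e hz⟩ = hV.primeIdealOf ⟨f x, e hx.1⟩ :=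
        PrimeSpectrum.ext ((congrArg PrimeSpectrum.asIdeal
          (IsAffineOpen.comap_primeIdealOf_appLE V hV W hW e hz)).symm.trans
            ((congrArg (Ideal.comap (algebraMap Γ(S, V) Γ(X, W))) hzq).trans hq'c))
      have := congrArg hV.fromSpec h1
      rwa [hV.fromSpec_primeIdealOf, hV.fromSpec_primeIdealOf] at this
    have hzx := hmax z ⟨hz, show f z ∈ S.basicOpen a by rw [hfz]; exact hx.2⟩
      ((hle_iff ξ z hξW hz).2 (hσq'.trans_eq hzq.symm)) hfz ((hle_iff z x hz hx.1).2 (hzq.le.trans hle))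
    rw [← hzq]
    exact (congrArg (fun w : W => (hW.primeIdealOf w).asIdeal) (Subtype.ext hzx)).ge

end Groth.Agent.FlatFunLib
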