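import Groth.Agent.FlatFunLib.RelAssBC
import Groth.Agent.FlatFunLib.RelAssClosure
import Groth.Agent.RG.Pure.BaseChange
import Groth.Agent.RG.ClosedFibre

/-!
At points of flatness, generic points of fibres of the closure of an associated point are associated.
-/

set_option autoImplicit false
set_option linter.style.haveILetI false
set_option backward.isDefEq.respectTransparency false

universe u

open TensorProduct
open Groth.Agent.RG Groth.Agent.RG.Pure

attribute [local instance] Algebra.TensorProduct.rightAlgebra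

namespace Groth.Agent.FlatFunLib

variable {A B N : Type u} [CommRing A] [CommRing B] [Algebra A B] [AddCommGroup N]
  [Module B N] [Module A N] [IsScalarTower A B N]

/-- Flatness at a prime passes to the primes below it. -/
theorem flat_localized_of_le {σ Q : Ideal B} [σ.IsPrime] [Q.IsPrime] (h : σ ≤ Q)
    [Module.Flat A (LocalizedModule Q.primeCompl N)] : Module.Flat A (LocalizedModule σ.primeCompl N) := by
  let W := Localization.AtPrime σ
  let NQ := LocalizedModule Q.primeCompl N
  haveI : Module.Flat B W := IsLocalization.flat W σ.primeCompl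
  haveI : Module.Flat A (W ⊗[B] NQ) := flat_tensor
  let Nσ := LocalizedModule σ.primeCompl N
  have hu : ∀ x : Q.primeCompl, IsUnit (algebraMap B (Module.End B Nσ) x) := fun x =>
    IsLocalizedModule.map_units (LocalizedModule.mkLinearMap σ.primeCompl N)
      (⟨(x : B), fun hx => x.2 (h hx)⟩ : σ.primeCompl)
  let r₀ : NQ →ₗ[B] Nσ := IsLocalizedModule.lift Q.primeCompl (LocalizedModule.mkLinearMap Q.primeCompl N)
    (LocalizedModule.mkLinearMap σ.primeCompl N) hu
  let r : W ⊗[B] NQ →ₗ[B] Nσ := (r₀.liftBaseChange W).restrictScalars B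
  let i₀ : N →ₗ[B] W ⊗[B] NQ :=
    (TensorProduct.mk B W NQ 1).comp (LocalizedModule.mkLinearMap Q.primeCompl N)
  have hu' : ∀ x : σ.primeCompl, IsUnit (algebraMap B (Module.End B (W ⊗[B] NQ)) x) := fun x => by
    obtain ⟨v, hv⟩ := IsLocalization.map_units W x
    rw [Module.End.isUnit_iff]
    refine ⟨fun a b hab => ?_, fun z => ⟨(↑v⁻¹ : W) • z, ?_⟩⟩
    · have h1 : algebraMap B W x • a = algebraMap B W x • b := by
        simpa only [algebraMap_smul, Module.algebraMap_end_apply] using hab
      rw [← hv] at h1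
      simpa [smul_smul] using congrArg ((↑v⁻¹ : W) • ·) h1
    · rw [Module.algebraMap_end_apply, ← algebraMap_smul W (x : B), ← hv, smul_smul, Units.mul_inv, one_smul]
  let i : Nσ →ₗ[B] W ⊗[B] NQ := IsLocalizedModule.lift σ.primeCompl (LocalizedModule.mkLinearMap σ.primeCompl N) i₀ hu'
  refine Module.Flat.of_retract (i.restrictScalars A) (r.restrictScalars A) ?_
  have key : r.comp i = LinearMap.id := IsLocalizedModule.ext σ.primeCompl (LocalizedModule.mkLinearMap σ.primeCompl N)
    (IsLocalizedModule.map_units (LocalizedModule.mkLinearMap σ.primeCompl N)) (LinearMap.ext fun n => by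
      rw [LinearMap.comp_apply, LinearMap.comp_apply, IsLocalizedModule.lift_apply]
      simp only [r, i₀, LinearMap.comp_apply, LinearMap.restrictScalars_apply, TensorProduct.mk_apply,
        LinearMap.liftBaseChange_tmul, one_smul, r₀, IsLocalizedModule.lift_apply, LinearMap.id_apply]
      rfl)
  exact LinearMap.ext fun z => LinearMap.congr_fun key z

variable [Algebra.FiniteType A B] [Module.Finite B N]

theorem mem_assPts_of_flat_minimal_domain [IsDomain A] {σ : Ideal B} (hσ : σ ∈ assPts A B N ⊥) {p : Ideal A}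
    [p.IsPrime] (q : Ideal B) [q.IsPrime] (hq : q.comap (algebraMap A B) = p) (hle : σ ≤ q)
    [Module.Flat A (LocalizedModule q.primeCompl N)]
    (hmin : ∀ q' : Ideal B, q'.IsPrime → q'.comap (algebraMap A B) = p → σ ≤ q' → q' ≤ q → q ≤ q') :
    q ∈ assPts A B N p := by
  obtain ⟨y, hy0, hy⟩ := exists_exact_vector hσ
  let K := (⊥ : Ideal A).ResidueField
  obtain ⟨n, c, hn⟩ : ∃ (n : N) (c : K), y = c ⊗ₜ[A] n := by
    obtain ⟨⟨n, c⟩, hc⟩ := IsLocalizedModule.surj (nonZeroDivisors A) (TensorProduct.mk A K N 1) y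
    have hc0 : algebraMap A K c ≠ 0 := fun h0 =>
      nonZeroDivisors.coe_ne_zero c (residueField_bot_injective (h0.trans (map_zero _).symm))
    refine ⟨n, (algebraMap A K c)⁻¹, ?_⟩
    have hc' : algebraMap A K c • y = (1 : K) ⊗ₜ[A] n := (algebraMap_smul K (c : A) y).trans hc
    rw [← inv_smul_smul₀ hc0 y, hc', smul_tmul', smul_eq_mul, mul_one]
  have hflat : ∀ (τ : Ideal B) [τ.IsPrime], τ ≤ q → Module.Flat A (LocalizedModule τ.primeCompl N) := fun τ _ h =>
    flat_localized_of_le h
  obtain ⟨τ, hτ, hτq, hτn⟩ := exists_assPts_le A B p q hq hflat n fun t ht h0 => ht (hle ((hy t).2 (by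
    rw [hn, act_tmul, h0, tmul_zero])))
  obtain ⟨hτp, hτc⟩ := isPrime_of_mem_assPts _ _ _ hτ
  haveI := hτp
  haveI := hflat τ hτq
  have hστ : σ ≤ τ := fun s hs => by
    by_contra hsτ
    have h1 : (1 : K) ⊗ₜ[A] (s • n) = 0 := by
      have h2 := (hy s).1 hs
      rw [hn, act_tmul, show c ⊗ₜ[A] (s • n) = c • ((1 : K) ⊗ₜ[A] (s • n)) by
        rw [smul_tmul', smul_eq_mul, mul_one], smul_eq_zero] at h2
      exact h2.resolve_left fun h0 => hy0 (by rw [hn, h0, zero_tmul])
    obtain ⟨⟨a, ha⟩, hk⟩ := (IsLocalizedModule.eq_zero_iff (nonZeroDivisors A) (TensorProduct.mk A K N 1)).1 h1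
    have h2 : a • LocalizedModule.mkLinearMap τ.primeCompl N (s • n) = 0 := by
      rw [← LinearMap.map_smul_of_tower, show a • s • n = 0 from hk, map_zero]
    obtain ⟨⟨t, ht⟩, htn⟩ := (IsLocalizedModule.eq_zero_iff τ.primeCompl (LocalizedModule.mkLinearMap τ.primeCompl N)).1
      ((Module.Flat.isSMulRegular_of_nonZeroDivisors ha).right_eq_zero_of_smul h2)
    exact hτn (t * s) (fun h => (hτp.mem_or_mem h).elim ht hsτ) (by rw [mul_smul]; exact htn)
  rwa [le_antisymm (hmin τ hτp hτc hστ hτq) hτq]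

/-- The same over an arbitrary base. -/
theorem mem_assPts_of_flat_minimal {η p : Ideal A} [η.IsPrime] [p.IsPrime] {σ : Ideal B} (hσ : σ ∈ assPts A B N η)
    (q : Ideal B) [q.IsPrime] (hq : q.comap (algebraMap A B) = p) (hσq : σ ≤ q)
    [Module.Flat A (LocalizedModule q.primeCompl N)]
    (hmin : ∀ q' : Ideal B, q'.IsPrime → q'.comap (algebraMap A B) = p → σ ≤ q' → q' ≤ q → q ≤ q') :
    q ∈ assPts A B N p := by
  have hle : η ≤ p := by
    rw [← hq, ← (isPrime_of_mem_assPts _ _ _ hσ).2]
    exact Ideal.comap_mono hσq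
  let C := A ⧸ η
  let B' := C ⊗[A] B
  let N' := B' ⊗[B] N
  have hη : (⊥ : Ideal C).comap (algebraMap A C) = η := Ideal.mk_ker
  obtain ⟨σ', hσ', hσ'c⟩ := exists_assPts_over (A := A) (B := B) (C := C) (B' := B') (M' := N')
    (LinearEquiv.refl B' N') η ⊥ hη σ hσ
  have hsurj : Function.Surjective (algebraMap B B') := by
    intro z
    induction z using TensorProduct.induction_on with
    | zero => exact ⟨0, map_zero _⟩
    | tmul c b =>
      obtain ⟨x, rfl⟩ := Ideal.Quotient.mk_surjective c
      refine ⟨x • b, ?_⟩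
      show (1 : C) ⊗ₜ[A] (x • b) = _
      rw [tmul_smul, smul_tmul', Algebra.smul_def, mul_one]
      rfl
    | add y z hy hz =>
      obtain ⟨r, rfl⟩ := hy
      obtain ⟨s, rfl⟩ := hz
      exact ⟨r + s, map_add _ _ _⟩
  have hker : RingHom.ker (algebraMap B B') ≤ q := by
    let g : C →ₐ[A] B ⧸ q :=
      { Ideal.Quotient.lift η ((Ideal.Quotient.mk q).comp (algebraMap A B)) fun x hx =>
          Ideal.Quotient.eq_zero_iff_mem.2 (show x ∈ q.comap (algebraMap A B) from hq.symm ▸ hle hx) with
        commutes' := fun x => rfl }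
    let Ψ : B' →ₐ[A] B ⧸ q := Algebra.TensorProduct.lift g (Ideal.Quotient.mkₐ A q) fun _ _ => Commute.all _ _
    intro b hb
    have h1 := congrArg Ψ (RingHom.mem_ker.1 hb)
    rw [map_zero, show algebraMap B B' b = (1 : C) ⊗ₜ[A] b from rfl, Algebra.TensorProduct.lift_tmul, map_one,
      one_mul] at h1
    exact Ideal.Quotient.eq_zero_iff_mem.1 h1
  let q' := q.map (algebraMap B B')
  haveI : q'.IsPrime := Ideal.map_isPrime_of_surjective hsurj hker
  have hqc : q'.comap (algebraMap B B') = q := by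
    rw [Ideal.comap_map_of_surjective _ hsurj]
    exact sup_eq_left.2 ((RingHom.ker_eq_comap_bot _).ge.trans hker)
  let p' := q'.comap (algebraMap C B')
  have hp' : p'.comap (algebraMap A C) = p := by
    rw [Ideal.comap_comap, ← IsScalarTower.algebraMap_eq, IsScalarTower.algebraMap_eq A B B', ← Ideal.comap_comap,
      hqc, hq]
  haveI : Module.Flat C (LocalizedModule q'.primeCompl N') := flatAt_baseChange q q' hqc
  have h := mem_assPts_of_flat_minimal_domain hσ' (p := p') q' rfl ?_ fun q₁ hq₁ hq₁c hσq₁ hle₁ => ?_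
  · have := mem_assPts_of_baseChange (A := A) (B := B) (M' := N') (LinearEquiv.refl B' N') p' q' h
    rw [hqc] at this
    subst hp'
    exact this
  · intro z hz
    obtain ⟨b, rfl⟩ := hsurj z
    exact Ideal.mem_map_of_mem _ (hσq (hσ'c ▸ hz))
  · haveI := hq₁
    have h2 : q₁.comap (algebraMap B B') ≤ q := (Ideal.comap_mono hle₁).trans hqc.le
    have h3 : (q₁.comap (algebraMap B B')).comap (algebraMap A B) = p := by
      rw [Ideal.comap_comap, ← IsScalarTower.algebraMap_eq, IsScalarTower.algebraMap_eq A C B', ← Ideal.comap_comap,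
        hq₁c, hp']
    exact Ideal.map_le_iff_le_comap.2
      (hmin _ (Ideal.IsPrime.comap _) h3 (hσ'c ▸ Ideal.comap_mono hσq₁) h2)

end Groth.Agent.FlatFunLib
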