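import Mathlib
import Groth.Agent.FlatFunLib.Flat
import Groth.Agent.FlatFunLib.Trdeg

/-!
The functor of flatness in dimensions at least `n`.
-/

set_option autoImplicit false
set_option linter.style.haveILetI false
set_option backward.isDefEq.respectTransparency false

universe u

open CategoryTheory CategoryTheory.Limits AlgebraicGeometry Opposite

namespace Groth.Agent.FlatFunLib

variable {X S : Scheme.{u}} (f : X ⟶ S) (F : X.Modules) (n : ℕ)

/-- The condition. -/
abbrev DimFlat (T : Over S) : Prop :=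
  FlatFun.DimFibresLT n (PicF.XTproj f T) {x | ¬ FlatMod.IsFlatOverAt (PicF.XTproj f T) (FGA.ET f F T) x}

theorem stable_dimFlat ⦃T T₀ : Over S⦄ (g : T ⟶ T₀) (h : DimFlat f F n T₀) : DimFlat f F n T := fun z hz =>
  lt_of_le_of_lt (trdeg_le_of_isPullback (HilbOne.isPullback_XTmap f g) z)
    (h _ fun hfl => hz (isFlatOverAt_XT f F g z hfl))

theorem dimFlat_descends [Coh.IsQCoh F] (T : Over S)
    (hT : ∀ z : T.left, ∃ (T' : Over S) (g : T' ⟶ T), Flat g.left ∧ DimFlat f F n T' ∧ ∃ w, g.left w = z) :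
    DimFlat f F n T := by
  intro z hz
  obtain ⟨T', g, hg, hP, w, hw⟩ := hT (PicF.XTproj f T z)
  haveI := hg
  obtain ⟨z', hz', -, hle⟩ := exists_trdeg_ge (HilbOne.isPullback_XTmap f g) z w hw.symm
  refine hle.trans_lt (hP z' fun hfl => hz ?_)
  have := FlatModBC.isFlatOverAt_of_baseChange (HilbOne.isPullback_XTmap f g) (FGA.ET f F T)
    (QC.isQCoh_pullback _ inferInstance) z' (Flat.stalkMap g.left _)
    (FlatLimMod.isFlatOverAt_of_iso _ (FGA.ETiso f F g).symm hfl)
  rwa [hz'] at this

end Groth.Agent.FlatFunLib
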