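import Mathlib
import Groth.Agent.FlatFunLib.Trdeg
import Groth.Agent.DimFormula.ResTrdeg
import Groth.Prelude.Def_Dual3

/-!
Residual transcendence degree as algebraic dependence of generators.
-/

set_option autoImplicit false
set_option linter.style.haveILetI false
set_option backward.isDefEq.respectTransparency false

universe u

open CategoryTheory CategoryTheory.Limits AlgebraicGeometry

namespace Groth.Agent.FlatFunLib

theorem exists_integral_multiple {R K : Type u} [CommRing R] [Field K] (φ : R →+* K)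
    (hφ : ∀ z : K, ∃ b d : R, φ d ≠ 0 ∧ z * φ d = φ b) {σ : Type*} (p : MvPolynomial σ K) :
    ∃ (P : MvPolynomial σ R) (d : R), φ d ≠ 0 ∧ MvPolynomial.map φ P = MvPolynomial.C (φ d) * p := by
  induction p using MvPolynomial.induction_on with
  | C a =>
    obtain ⟨b, d, hd, h⟩ := hφ a
    exact ⟨MvPolynomial.C b, d, hd, by rw [MvPolynomial.map_C, ← map_mul, ← h, mul_comm]⟩
  | add p q hp hq =>
    obtain ⟨P, d, hd, hP⟩ := hp
    obtain ⟨Q, e, he, hQ⟩ := hq
    refine ⟨MvPolynomial.C e * P + MvPolynomial.C d * Q, d * e, by rw [map_mul]; exact mul_ne_zero hd he, ?_⟩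
    simp only [map_add, map_mul, MvPolynomial.map_C, hP, hQ]
    ring
  | mul_X p i hp =>
    obtain ⟨P, d, hd, hP⟩ := hp
    exact ⟨P * MvPolynomial.X i, d, hd, by rw [map_mul, MvPolynomial.map_X, hP, mul_assoc]⟩

variable {Y T : Scheme.{u}}

theorem Γeval_frac (T : Scheme.{u}) [IsAffine T] (t : T) (z : T.residueField t) :
    ∃ b d : Γ(T, ⊤), (T.Γevaluation t).hom d ≠ 0 ∧ z * (T.Γevaluation t).hom d = (T.Γevaluation t).hom b :=
  (DimFormula.evaluation_facts (isAffineOpen_top T) (x := t) trivial).2 z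

theorem Γeval_comm (q : Y ⟶ T) (y : Y) (a : Γ(T, ⊤)) :
    (q.residueFieldMap y).hom ((T.Γevaluation (q y)).hom a) = (Y.Γevaluation y).hom (q.appTop.hom a) :=
  Scheme.Γevaluation_naturality_apply q y a

theorem exists_dep_of_trdeg_lt [IsAffine T] (q : Y ⟶ T) (y : Y) {n : ℕ}
    (hy : Dual3.resTrdeg q y < (n : Cardinal.{u})) (b : Fin n → Γ(Y, ⊤)) :
    ∃ (P : MvPolynomial (Fin n) Γ(T, ⊤)) (m : Fin n →₀ ℕ), (T.Γevaluation (q y)).hom (P.coeff m) ≠ 0 ∧
      (Y.Γevaluation y).hom (MvPolynomial.eval₂ q.appTop.hom b P) = 0 := by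
  letI := (q.residueFieldMap y).hom.toAlgebra
  let c : ULift.{u} (Fin n) → Y.residueField y := fun i => (Y.Γevaluation y).hom (b i.down)
  have hc : ¬ AlgebraicIndependent (T.residueField (q y)) c := fun h => by
    have := h.cardinalMk_le_trdeg
    rw [Cardinal.mk_fintype, Fintype.card_ulift, Fintype.card_fin] at this
    exact absurd this (not_le.2 hy)
  obtain ⟨p, hp0, hp⟩ : ∃ p : MvPolynomial (ULift.{u} (Fin n)) (T.residueField (q y)), p ≠ 0 ∧ MvPolynomial.aeval c p = 0 := by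
    by_contra hcon
    exact hc ((injective_iff_map_eq_zero _).2 fun p hp => by_contra fun h => hcon ⟨p, h, hp⟩)
  obtain ⟨P, d, hd, hP⟩ := exists_integral_multiple (T.Γevaluation (q y)).hom (Γeval_frac T _)
    (MvPolynomial.rename Equiv.ulift p)
  have hne : MvPolynomial.map (T.Γevaluation (q y)).hom P ≠ 0 := by
    rw [hP]
    exact mul_ne_zero (MvPolynomial.C_ne_zero.2 hd)
      ((map_ne_zero_iff _ (MvPolynomial.rename_injective _ Equiv.ulift.injective)).2 hp0)
  obtain ⟨m, hm⟩ := MvPolynomial.ne_zero_iff.1 hne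
  rw [MvPolynomial.coeff_map] at hm
  refine ⟨P, m, hm, ?_⟩
  have h1 : (Y.Γevaluation y).hom (MvPolynomial.eval₂ q.appTop.hom b P) =
      MvPolynomial.aeval (fun i => (Y.Γevaluation y).hom (b i)) (MvPolynomial.map (T.Γevaluation (q y)).hom P) := by
    rw [MvPolynomial.eval₂_comp_left (Y.Γevaluation y).hom, MvPolynomial.aeval_def, MvPolynomial.eval₂_map]
    congr 1
    ext a
    exact (Γeval_comm q y a).symm
  rw [h1, hP, map_mul, MvPolynomial.aeval_rename]
  exact mul_eq_zero_of_right _ hp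

variable {W₀ T₀ : Scheme.{u}}

theorem trdeg_lt_of_dep [IsAffine W₀] [IsAffine T₀] {q₀ : W₀ ⟶ T₀} {a : Y ⟶ W₀} {g : T ⟶ T₀} {q : Y ⟶ T}
    (hc : IsPullback a q q₀ g) {m : ℕ} (b : Fin m → Γ(W₀, ⊤))
    (hb : Subring.closure (Set.range q₀.appTop.hom ∪ Set.range b) = ⊤) (y : Y) {n : ℕ}
    (h : ∀ σ : Fin n ↪ Fin m, ∃ (P : MvPolynomial (Fin n) Γ(T, ⊤)) (k : Fin n →₀ ℕ),
      (T.Γevaluation (q y)).hom (P.coeff k) ≠ 0 ∧
        (Y.Γevaluation y).hom (MvPolynomial.eval₂ q.appTop.hom (fun i => a.appTop.hom (b (σ i))) P) = 0) :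
    Dual3.resTrdeg q y < (n : Cardinal.{u}) := by
  classical
  letI := (q.residueFieldMap y).hom.toAlgebra
  let K := T.residueField (q y)
  let F := Y.residueField y
  let c : Fin m → F := fun i => (Y.Γevaluation y).hom (a.appTop.hom (b i))
  let Fs : IntermediateField K F := IntermediateField.adjoin K (Set.range c)
  have hB : ∀ x : Γ(W₀, ⊤), (Y.Γevaluation y).hom (a.appTop.hom x) ∈ Fs := by
    have : (⊤ : Subring Γ(W₀, ⊤)) ≤ Fs.toSubfield.toSubring.comap ((Y.Γevaluation y).hom.comp a.appTop.hom) := by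
      rw [← hb, Subring.closure_le]
      rintro _ (⟨r, rfl⟩ | ⟨i, rfl⟩)
      · show (Y.Γevaluation y).hom ((q₀.appTop ≫ a.appTop).hom r) ∈ Fs
        rw [← Scheme.Hom.comp_appTop, hc.w, Scheme.Hom.comp_appTop, CommRingCat.comp_apply, ← Γeval_comm q y]
        exact Fs.algebraMap_mem _
      · exact IntermediateField.subset_adjoin K _ ⟨i, rfl⟩
    exact fun x => this (Subring.mem_top x)
  have htop : ∀ z : F, z ∈ Fs := by
    have h1 : Subfield.closure (Set.range (a.residueFieldMap y).hom ∪ Set.range (q.residueFieldMap y).hom) ≤ Fs.toSubfield := by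
      rw [Subfield.closure_le]
      rintro _ (⟨l, rfl⟩ | ⟨k, rfl⟩)
      · obtain ⟨x, d, hd, hxd⟩ := Γeval_frac W₀ (a y) l
        rw [← eq_div_iff hd] at hxd
        rw [hxd, map_div₀, Γeval_comm, Γeval_comm]
        exact Fs.div_mem (hB _) (hB _)
      · exact Fs.algebraMap_mem k
    exact fun z => h1 (by rw [residueField_generated hc y]; exact Subfield.mem_top z)
  haveI : Algebra.IsAlgebraic Fs F := ⟨fun z => isAlgebraic_algebraMap (⟨z, htop z⟩ : Fs)⟩
  haveI : Algebra.IsAlgebraic (Algebra.adjoin K (Set.range c)) F := IntermediateField.isAlgebraic_adjoin_iff_top.1 ‹_›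
  obtain ⟨t, hts, ht⟩ := exists_isTranscendenceBasis_subset (R := K) (Set.range c)
  by_contra hlt
  rw [not_lt] at hlt
  have hn : (n : Cardinal.{u}) ≤ Cardinal.mk t := hlt.trans_eq ht.cardinalMk_eq_trdeg.symm
  haveI : Fintype t := ((Set.finite_range c).subset hts).fintype
  rw [Cardinal.mk_fintype, Nat.cast_le] at hn
  obtain ⟨e⟩ : Nonempty (Fin n ↪ t) := Function.Embedding.nonempty_of_card_le (by simpa using hn)
  choose idx hidx using fun i => hts (e i).2
  let σ : Fin n ↪ Fin m := ⟨idx, fun i j hij => e.injective (Subtype.ext ((hidx i).symm.trans (hij ▸ hidx j)))⟩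
  obtain ⟨P, k, hk, hP⟩ := h σ
  have hind : AlgebraicIndependent K (fun i => c (σ i)) := by
    have h2 : (fun i => c (σ i)) = ((↑) : t → F) ∘ e := funext hidx
    rw [h2]
    exact ht.1.comp e e.injective
  apply hk
  have h3 : MvPolynomial.map (T.Γevaluation (q y)).hom P = 0 := by
    refine hind.eq_zero_of_aeval_eq_zero _ (Eq.trans ?_ hP)
    rw [MvPolynomial.aeval_def, MvPolynomial.eval₂_map, MvPolynomial.eval₂_comp_left (Y.Γevaluation y).hom]
    congr 1
    ext r
    exact Γeval_comm q y r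
  rw [← MvPolynomial.coeff_map, h3, MvPolynomial.coeff_zero]

/-- Finite generators of the sections of an affine scheme of finite type over an affine scheme. -/
theorem exists_generators {W₀ T₀ : Scheme.{u}} [IsAffine W₀] [IsAffine T₀] (q₀ : W₀ ⟶ T₀) [LocallyOfFiniteType q₀] :
    ∃ (m : ℕ) (b : Fin m → Γ(W₀, ⊤)), Subring.closure (Set.range q₀.appTop.hom ∪ Set.range b) = ⊤ := by
  have e : (⊤ : W₀.Opens) ≤ q₀ ⁻¹ᵁ ⊤ := fun _ _ => trivial
  have h : q₀.appTop.hom.FiniteType := by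
    have h1 : (q₀.appLE ⊤ ⊤ e).hom.FiniteType := q₀.finiteType_appLE (isAffineOpen_top T₀) (isAffineOpen_top W₀) e
    have h2 : q₀.appLE ⊤ ⊤ e = q₀.appTop := q₀.appLE_eq_app
    rwa [h2] at h1
  letI : Algebra Γ(T₀, ⊤) Γ(W₀, ⊤) := q₀.appTop.hom.toAlgebra
  obtain ⟨s, hs⟩ := (h : Algebra.FiniteType Γ(T₀, ⊤) Γ(W₀, ⊤)).out
  refine ⟨s.card, fun i => (s.equivFin.symm i : Γ(W₀, ⊤)), eq_top_iff.2 fun x _ => ?_⟩
  have hx : x ∈ Algebra.adjoin Γ(T₀, ⊤) (s : Set Γ(W₀, ⊤)) := by rw [hs]; trivial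
  rw [← Subalgebra.mem_toSubring, Algebra.adjoin_eq_ring_closure] at hx
  refine Subring.closure_mono (Set.union_subset_union (le_refl (Set.range q₀.appTop.hom)) ?_) hx
  exact fun z hz => ⟨s.equivFin ⟨z, hz⟩, by simp⟩

end Groth.Agent.FlatFunLib
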