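import Mathlib
import Groth.Agent.FlatFunLib.DimFlat
import Groth.Agent.FlatFunLib.TrdegDep
import Groth.Agent.Weighting.LimLC
import Groth.Agent.SpQS.TrdegQF

/-!
Flatness in dimensions at least `n` descends to a stage of an affine limit.
-/

set_option autoImplicit false
set_option linter.style.haveILetI false
set_option backward.isDefEq.respectTransparency false

universe u

open CategoryTheory CategoryTheory.Limits AlgebraicGeometry Opposite Topology

namespace Groth.Agent.FlatFunLib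

theorem resTrdeg_openImmersion {W U V : Scheme.{u}} (u : W ⟶ U) [IsOpenImmersion u] (h : U ⟶ V) {k : W ⟶ V}
    (hk : u ≫ h = k) (w : W) : Dual3.resTrdeg k w = Dual3.resTrdeg h (u w) := by
  subst hk
  exact SpQS.resTrdeg_precomp u h (u.quasiFiniteAt w)

theorem isConstructible_eval (Y : Scheme.{u}) [IsAffine Y] (h : Γ(Y, ⊤)) :
    IsConstructible {y : Y | (Y.Γevaluation y).hom h ≠ 0} := by
  have e : {y : Y | (Y.Γevaluation y).hom h ≠ 0} = (Y.basicOpen h : Set Y) := by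
    ext y
    exact Scheme.evaluation_ne_zero_iff_mem_basicOpen (X := Y) (U := ⊤) y trivial h
  rw [e]
  exact ((isAffineOpen_top Y).basicOpen h).isCompact.isConstructible (Y.basicOpen h).2

theorem appTop_eval₂ {Y Y' T T' : Scheme.{u}} (π : Y' ⟶ Y) (q : Y ⟶ T) (g : Y' ⟶ T') (p : T' ⟶ T) (w : π ≫ q = g ≫ p)
    {σ : Type} (b : σ → Γ(Y, ⊤)) (Q : MvPolynomial σ Γ(T, ⊤)) :
    π.appTop.hom (MvPolynomial.eval₂ q.appTop.hom b Q) =
      MvPolynomial.eval₂ g.appTop.hom (fun i => π.appTop.hom (b i)) (MvPolynomial.map p.appTop.hom Q) := by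
  rw [MvPolynomial.eval₂_comp_left π.appTop.hom, MvPolynomial.eval₂_map, ← CommRingCat.hom_comp,
    ← CommRingCat.hom_comp, ← Scheme.Hom.comp_appTop, ← Scheme.Hom.comp_appTop, w]
  rfl

variable {I : Type u} [SmallCategory I] [IsCofiltered I] (E : I ⥤ Scheme.{u}) (e : Cone E) (he : IsLimit e)
  [∀ i, IsAffine (E.obj i)] {i₀ : I} {X₀ : Scheme.{u}} (f₀ : X₀ ⟶ E.obj i₀) (F₀ : X₀.Modules) (n : ℕ)

include he in
theorem exists_stage_poly (σ : Type) (P : MvPolynomial σ Γ(e.pt, ⊤)) :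
    ∃ (j : I) (_ : j ⟶ i₀) (P' : MvPolynomial σ Γ(E.obj j, ⊤)), MvPolynomial.map (e.π.app j).appTop.hom P' = P := by
  induction P using MvPolynomial.induction_on with
  | C a =>
    obtain ⟨j, t, rfl⟩ := exists_appTop_π_eq_of_isAffine_of_isLimit E e he a
    obtain ⟨k, p, q, -⟩ := IsCofilteredOrEmpty.cone_objs j i₀
    refine ⟨k, q, MvPolynomial.C ((E.map p).appTop.hom t), ?_⟩
    rw [MvPolynomial.map_C, ← CommRingCat.comp_apply, ← Scheme.Hom.comp_appTop, e.w]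
    rfl
  | add P Q hP hQ =>
    obtain ⟨j₁, φ₁, P₁, rfl⟩ := hP
    obtain ⟨j₂, φ₂, P₂, rfl⟩ := hQ
    obtain ⟨k, p, q, -⟩ := IsCofilteredOrEmpty.cone_objs j₁ j₂
    refine ⟨k, p ≫ φ₁, MvPolynomial.map (E.map p).appTop.hom P₁ + MvPolynomial.map (E.map q).appTop.hom P₂, ?_⟩
    rw [map_add, MvPolynomial.map_map, MvPolynomial.map_map, ← CommRingCat.hom_comp, ← CommRingCat.hom_comp,
      ← Scheme.Hom.comp_appTop, ← Scheme.Hom.comp_appTop, e.w, e.w]
    rfl
  | mul_X P i hP =>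
    obtain ⟨j, φ, P', rfl⟩ := hP
    exact ⟨j, φ, P' * MvPolynomial.X i, by rw [map_mul, MvPolynomial.map_X]⟩

/-- The condition at a point of a stage. -/
def StageOK (j : Over i₀) (y : LimDesc.stage E (f₀ ≫ 𝟙 _) j) : Prop :=
  ¬ FlatMod.IsFlatOverAt (LimDesc.toStage E (f₀ ≫ 𝟙 _) j)
      ((Scheme.Modules.pullback (LimDesc.toBase E (f₀ ≫ 𝟙 _) j)).obj F₀) y →
    Dual3.resTrdeg (LimDesc.toStage E (f₀ ≫ 𝟙 _) j) y < (n : Cardinal.{u})

theorem stageOK_trans {j k : Over i₀} (a : j ⟶ k) (y : LimDesc.stage E (f₀ ≫ 𝟙 _) j)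
    (h : StageOK E f₀ F₀ n k (LimDesc.trans E (f₀ ≫ 𝟙 _) a y)) : StageOK E f₀ F₀ n j y := fun hy =>
  lt_of_le_of_lt (trdeg_le_of_isPullback (LimDesc.isPullback_trans E (f₀ ≫ 𝟙 _) a) y) (h fun hfl => hy
    (FlatLimMod.isFlatOverAt_of_iso _ ((ModDesc.trIso _ _ (LimDesc.trans_toBase E (f₀ ≫ 𝟙 _) a)).app F₀)
      (FlatModBC.isFlatOverAt_baseChange (LimDesc.isPullback_trans E (f₀ ≫ 𝟙 _) a) _ y hfl)))

variable [LocallyOfFinitePresentation f₀] (hq : Coh.IsQCoh F₀) (hfp : CohB1.IsFP F₀)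
  {X : Scheme.{u}} {f : X ⟶ e.pt} {qX : X ⟶ X₀} (hX : IsPullback qX f f₀ (e.π.app i₀))

include he hq hfp hX in
theorem exists_piece_flat {W : X₀.Opens} (hW : IsAffineOpen W) (z : X) (hzW : qX z ∈ W)
    (hz : FlatMod.IsFlatOverAt f ((Scheme.Modules.pullback qX).obj F₀) z) :
    ∃ (j : Over i₀) (C : Set (LimDesc.stage E (W.ι ≫ f₀ ≫ 𝟙 _) j)), IsConstructible C ∧
      (∃ w ∈ C, LimDesc.stageMap E (f₀ ≫ 𝟙 _) W.ι j w =
        LimDesc.proj E (f₀ ≫ 𝟙 _) e (LimDesc.isPullback_comp E (𝟙 (E.obj i₀)) e IsPullback.of_id_snd f₀ hX) j z) ∧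
      ∀ w ∈ C, StageOK E f₀ F₀ n j (LimDesc.stageMap E (f₀ ≫ 𝟙 _) W.ι j w) := by
  haveI : ∀ {i j : I} (a : i ⟶ j), IsAffineHom (E.map a) := fun a => isAffineHom_of_isAffine _
  let g₁ : X₀ ⟶ E.obj i₀ := f₀ ≫ 𝟙 _
  have hXg := LimDesc.isPullback_comp E (𝟙 (E.obj i₀)) e IsPullback.of_id_snd f₀ hX
  haveI : LocallyOfFinitePresentation f := MorphismProperty.of_isPullback (P := @LocallyOfFinitePresentation) hX ‹_›
  let L : X.Opens := ⟨_, InjFibre.isOpen_setOf_isFlatOverAt f _ (QC.isQCoh_pullback qX hq)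
    (ModDesc.isFP_pullback qX hq hfp)⟩
  obtain ⟨D, hD, hzD, hDle⟩ := exists_isAffineOpen_mem_and_subset (X := X) (x := z) (U := L ⊓ qX ⁻¹ᵁ W) ⟨hz, hzW⟩
  haveI : ∀ {j k : Over i₀} (a : j ⟶ k), IsAffineHom ((LimDesc.tower E g₁).map a) :=
    fun a => LimDesc.isAffineHom_tower_map E g₁ a
  obtain ⟨k, V₁, -, hV₁⟩ := exists_preimage_eq (LimDesc.tower E g₁) (LimDesc.towerCone E g₁ e hXg)
    (LimDesc.isLimitTowerCone E g₁ e hXg he) D hD.isCompact
  let zk := LimDesc.proj E g₁ e hXg k z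
  have hzk : zk ∈ V₁ ⊓ LimDesc.toBase E g₁ k ⁻¹ᵁ W := by
    refine ⟨hV₁.ge hzD, ?_⟩
    show LimDesc.toBase E g₁ k (LimDesc.proj E g₁ e hXg k z) ∈ W
    rw [← Scheme.Hom.comp_apply, LimDesc.proj_toBase]
    exact hzW
  obtain ⟨U, hU, hzU, hUle⟩ := exists_isAffineOpen_mem_and_subset (X := LimDesc.stage E g₁ k) (x := zk)
    (U := V₁ ⊓ LimDesc.toBase E g₁ k ⁻¹ᵁ W) hzk
  haveI : IsAffine (LimDesc.stage E (𝟙 (E.obj i₀)) k) := .of_isIso (LimDesc.toStage E (𝟙 (E.obj i₀)) k)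
  obtain ⟨j, a, hj⟩ := FlatLimMod.exists_flat_over_piece E e he f₀ (𝟙 (E.obj i₀)) IsPullback.of_id_snd hX F₀ hq hfp k
    (isAffineOpen_top _) hU (fun _ _ => trivial) fun y hy => (hDle (hV₁.le (hUle hy).1)).1
  let u := LimDesc.stageMap E g₁ W.ι j
  haveI : IsOpenImmersion u :=
    MorphismProperty.of_isPullback (P := @IsOpenImmersion) (LimDesc.isPullback_stageMap E g₁ W.ι j) inferInstance
  have hrange : ∀ y ∈ LimDesc.trans E g₁ a ⁻¹ᵁ U, ∃ w, u w = y := by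
    intro y hy
    have h1 : LimDesc.toBase E g₁ j y ∈ W := by
      rw [← LimDesc.trans_toBase E g₁ a, Scheme.Hom.comp_apply]
      exact (hUle hy).2
    obtain ⟨p, -, hp₂⟩ := Scheme.Pullback.exists_preimage_pullback (f := W.ι) (g := LimDesc.toBase E g₁ j)
      ⟨_, h1⟩ y rfl
    refine ⟨(LimDesc.isPullback_stageMap E g₁ W.ι j).isoPullback.inv p, ?_⟩
    rw [← Scheme.Hom.comp_apply, IsPullback.isoPullback_inv_snd]
    exact hp₂
  haveI := LimDesc.isAffineHom_toBase E (W.ι ≫ g₁) j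
  haveI : IsAffine W.toScheme := hW
  haveI : IsAffine (LimDesc.stage E (W.ι ≫ g₁) j) := isAffine_of_isAffineHom (LimDesc.toBase E (W.ι ≫ g₁) j)
  haveI : IsAffineHom (LimDesc.trans E g₁ a) := LimDesc.isAffineHom_tower_map E g₁ a
  refine ⟨j, (u ⁻¹ᵁ (LimDesc.trans E g₁ a ⁻¹ᵁ U) : Set _), ?_, ?_, ?_⟩
  · refine IsCompact.isConstructible ?_ (u ⁻¹ᵁ (LimDesc.trans E g₁ a ⁻¹ᵁ U)).2
    exact u.isOpenEmbedding.isInducing.isCompact_preimage' (hU.preimage (LimDesc.trans E g₁ a)).isCompact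
      fun y hy => hrange y hy
  · have hz' : LimDesc.proj E g₁ e hXg j z ∈ LimDesc.trans E g₁ a ⁻¹ᵁ U := by
      show LimDesc.trans E g₁ a (LimDesc.proj E g₁ e hXg j z) ∈ U
      rw [← Scheme.Hom.comp_apply]
      exact (congr($((LimDesc.towerCone E g₁ e hXg).w a) z)).symm ▸ hzU
    obtain ⟨w, hw⟩ := hrange _ hz'
    refine ⟨w, ?_, hw⟩
    show u w ∈ LimDesc.trans E g₁ a ⁻¹ᵁ U
    rw [hw]
    exact hz'
  · intro w hw hnf
    exact absurd (FlatLimMod.isFlatOverAt_comp_iso _ (LimDesc.toStage E (𝟙 (E.obj i₀)) j)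
      (LimDesc.stageMap_toStage E (𝟙 (E.obj i₀)) f₀ j) _ (hj _ hw)) hnf

include he hX in
theorem exists_piece_trdeg {W : X₀.Opens} (hW : IsAffineOpen W) (y : (qX ⁻¹ᵁ W).toScheme)
    (hy : Dual3.resTrdeg f ((qX ⁻¹ᵁ W).ι y) < (n : Cardinal.{u})) [IsAffine e.pt] :
    ∃ (j : Over i₀) (C : Set (LimDesc.stage E (W.ι ≫ f₀ ≫ 𝟙 _) j)), IsConstructible C ∧
      LimDesc.proj E (W.ι ≫ f₀ ≫ 𝟙 _) e ((isPullback_morphismRestrict qX W).paste_vert
        (LimDesc.isPullback_comp E (𝟙 (E.obj i₀)) e IsPullback.of_id_snd f₀ hX)) j y ∈ C ∧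
      ∀ w ∈ C, StageOK E f₀ F₀ n j (LimDesc.stageMap E (f₀ ≫ 𝟙 _) W.ι j w) := by
  classical
  haveI : ∀ {i j : I} (a : i ⟶ j), IsAffineHom (E.map a) := fun a => isAffineHom_of_isAffine _
  let g₁ : X₀ ⟶ E.obj i₀ := f₀ ≫ 𝟙 _
  let G := W.ι ≫ g₁
  haveI : IsAffine W.toScheme := hW
  have hY := (isPullback_morphismRestrict qX W).paste_vert
        (LimDesc.isPullback_comp E (𝟙 (E.obj i₀)) e IsPullback.of_id_snd f₀ hX)
  haveI : LocallyOfFiniteType G := inferInstanceAs (LocallyOfFiniteType (W.ι ≫ f₀ ≫ 𝟙 _))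
  obtain ⟨m, b, hb⟩ := exists_generators G
  let g' : (qX ⁻¹ᵁ W).toScheme ⟶ e.pt := (qX ⁻¹ᵁ W).ι ≫ f ≫ 𝟙 _
  have hy' : Dual3.resTrdeg g' y < (n : Cardinal.{u}) := by
    rw [resTrdeg_openImmersion (qX ⁻¹ᵁ W).ι f (k := g') (by simp [g']) y]
    exact hy
  choose P k hk hP using fun σ : Fin n ↪ Fin m =>
    exists_dep_of_trdeg_lt g' y hy' (fun i => (qX ∣_ W).appTop.hom (b (σ i)))
  choose s φ P' hP' using fun σ : Fin n ↪ Fin m => exists_stage_poly E e he (i₀ := i₀) (Fin n) (P σ)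
  obtain ⟨j, hj⟩ := IsCofiltered.inf_objs_exists (Finset.univ.image fun σ : Fin n ↪ Fin m => Over.mk (φ σ))
  have a : ∀ σ, j ⟶ Over.mk (φ σ) := fun σ => (hj (Finset.mem_image_of_mem _ (Finset.mem_univ σ))).some
  let Q : (Fin n ↪ Fin m) → MvPolynomial (Fin n) Γ(E.obj j.left, ⊤) := fun σ =>
    MvPolynomial.map (E.map (a σ).left).appTop.hom (P' σ)
  have hQ : ∀ σ, MvPolynomial.map (e.π.app j.left).appTop.hom (Q σ) = P σ := fun σ => by
    rw [MvPolynomial.map_map, ← CommRingCat.hom_comp, ← Scheme.Hom.comp_appTop, e.w, ← hP' σ]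
    rfl
  let Yj := LimDesc.stage E G j
  haveI := LimDesc.isAffineHom_toBase E G j
  haveI : IsAffine Yj := isAffine_of_isAffineHom (LimDesc.toBase E G j)
  let q : Yj ⟶ E.obj j.left := LimDesc.toStage E G j
  let c : (Fin n ↪ Fin m) → Γ(Yj, ⊤) := fun σ => q.appTop.hom ((Q σ).coeff (k σ))
  let h : (Fin n ↪ Fin m) → Γ(Yj, ⊤) := fun σ =>
    MvPolynomial.eval₂ q.appTop.hom (fun i => (LimDesc.toBase E G j).appTop.hom (b (σ i))) (Q σ)
  refine ⟨j, ⋂ σ, {w | (Yj.Γevaluation w).hom (c σ) ≠ 0} ∩ {w | (Yj.Γevaluation w).hom (h σ) ≠ 0}ᶜ,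
    IsConstructible.iInter fun σ => (isConstructible_eval _ _).inter (isConstructible_eval _ _).compl, ?_, ?_⟩
  · let w := LimDesc.proj E G e hY j y
    let π' := LimDesc.proj E G e hY j
    refine Set.mem_iInter.2 fun σ => ⟨?_, ?_⟩
    · show (Yj.Γevaluation w).hom (c σ) ≠ 0
      intro h0
      have h1 : ((qX ⁻¹ᵁ W).toScheme.Γevaluation y).hom (π'.appTop.hom (c σ)) = 0 := by
        rw [← Γeval_comm π' y, h0, map_zero]
      apply hk σ
      apply (g'.residueFieldMap y).hom.injective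
      rw [map_zero, ← hQ σ]
      erw [MvPolynomial.coeff_map]
      rw [Γeval_comm]
      refine Eq.trans ?_ h1
      congr 1
      show ((e.π.app j.left).appTop ≫ g'.appTop).hom _ = ((LimDesc.toStage E G j).appTop ≫ π'.appTop).hom _
      rw [← Scheme.Hom.comp_appTop, ← Scheme.Hom.comp_appTop, LimDesc.proj_toStage]
    · show ¬ (Yj.Γevaluation w).hom (h σ) ≠ 0
      rw [not_not]
      apply (π'.residueFieldMap y).hom.injective
      rw [map_zero, Γeval_comm]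
      refine Eq.trans ?_ (hP σ)
      congr 1
      rw [← hQ σ, appTop_eval₂ π' q g' (e.π.app j.left) (LimDesc.proj_toStage E G e hY j)]
      congr 1
      funext i
      show ((LimDesc.toBase E G j).appTop ≫ π'.appTop).hom _ = _
      rw [← Scheme.Hom.comp_appTop, LimDesc.proj_toBase]
  · intro w hw _
    have hsq : IsPullback (LimDesc.toBase E G j) q G (E.map j.hom) := LimDesc.isPullback_stage E G j
    have h1 := trdeg_lt_of_dep hsq b hb w (n := n) fun σ => by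
      obtain ⟨hc, hh⟩ := Set.mem_iInter.1 hw σ
      refine ⟨Q σ, k σ, fun h0 => hc ?_, not_not.1 hh⟩
      show (Yj.Γevaluation w).hom (c σ) = 0
      rw [← Γeval_comm q w, h0, map_zero]
    let u := LimDesc.stageMap E g₁ W.ι j
    haveI : IsOpenImmersion u :=
      MorphismProperty.of_isPullback (P := @IsOpenImmersion) (LimDesc.isPullback_stageMap E g₁ W.ι j) inferInstance
    rwa [resTrdeg_openImmersion u (LimDesc.toStage E g₁ j) (k := q) (LimDesc.stageMap_toStage E g₁ W.ι j) w] at h1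

include he hq hfp hX in
theorem exists_stage_piece [IsAffine e.pt] {W : X₀.Opens} (hW : IsAffineOpen W)
    (hlim : ∀ z : X, ¬ FlatMod.IsFlatOverAt f ((Scheme.Modules.pullback qX).obj F₀) z →
      Dual3.resTrdeg f z < (n : Cardinal.{u})) :
    ∃ j : Over i₀, ∀ y ∈ LimDesc.toBase E (f₀ ≫ 𝟙 _) j ⁻¹ᵁ W, StageOK E f₀ F₀ n j y := by
  classical
  haveI : ∀ {i j : I} (a : i ⟶ j), IsAffineHom (E.map a) := fun a => isAffineHom_of_isAffine _
  let g₁ : X₀ ⟶ E.obj i₀ := f₀ ≫ 𝟙 _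
  let G := W.ι ≫ g₁
  haveI : IsAffine W.toScheme := hW
  have hXg := LimDesc.isPullback_comp E (𝟙 (E.obj i₀)) e IsPullback.of_id_snd f₀ hX
  have hY := (isPullback_morphismRestrict qX W).paste_vert hXg
  let D := LimDesc.tower E G
  let cD := LimDesc.towerCone E G e hY
  have hcD := LimDesc.isLimitTowerCone E G e hY he
  haveI : ∀ j, IsAffine (D.obj j) := fun j =>
    haveI := LimDesc.isAffineHom_toBase E G j
    isAffine_of_isAffineHom (LimDesc.toBase E G j)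
  have hpt : ∀ y : cD.pt, ∃ (j : Over i₀) (C : Set (D.obj j)), IsConstructible C ∧ cD.π.app j y ∈ C ∧
      ∀ w ∈ C, StageOK E f₀ F₀ n j (LimDesc.stageMap E g₁ W.ι j w) := by
    intro y
    by_cases hy : FlatMod.IsFlatOverAt f ((Scheme.Modules.pullback qX).obj F₀) ((qX ⁻¹ᵁ W).ι y)
    · obtain ⟨j, C, hC, ⟨w, hwC, hw⟩, hCok⟩ := exists_piece_flat E e he f₀ F₀ n hq hfp hX hW _ y.2 hy
      refine ⟨j, C, hC, ?_, hCok⟩
      haveI : IsOpenImmersion (LimDesc.stageMap E g₁ W.ι j) :=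
        MorphismProperty.of_isPullback (P := @IsOpenImmersion) (LimDesc.isPullback_stageMap E g₁ W.ι j) inferInstance
      have he' : cD.π.app j y = w := by
        apply (LimDesc.stageMap E g₁ W.ι j).isOpenEmbedding.injective
        rw [hw]
        exact congr($(LimDesc.proj_stageMap E g₁ e hXg W.ι (isPullback_morphismRestrict qX W) j) y)
      rw [he']
      exact hwC
    · exact exists_piece_trdeg E e he f₀ F₀ n hX hW y (hlim _ hy)
  choose j C hC hmem hok using hpt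
  haveI : IsAffine cD.pt := Weighting.isAffine_pt D cD hcD
  obtain ⟨t, ht⟩ := Weighting.exists_finite_constructible_cover (S := (Set.univ : Set cD.pt))
    (by rw [Set.compl_univ]; letI := constructibleTopology cD.pt; exact isOpen_empty)
    (fun y => cD.π.app (j y.1) ⁻¹' C y.1)
    (fun y => Scheme.Hom.isConstructible_preimage _ (hC _)) (fun y => hmem _)
  obtain ⟨l, hl⟩ := IsCofiltered.inf_objs_exists (t.image fun y => j y.1)
  have a : ∀ y : t, l ⟶ j y.1.1 := fun y => (hl (Finset.mem_image_of_mem _ y.2)).some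
  let Cl : Set (D.obj l) := ⋃ y : t, D.map (a y) ⁻¹' C y.1.1
  have hCl : IsConstructible Cl := IsConstructible.iUnion fun y => Scheme.Hom.isConstructible_preimage _ (hC _)
  obtain ⟨k, b, hkb⟩ := Weighting.exists_preimage_eq_empty D cD hcD hCl.compl (by
    rw [Set.preimage_compl, Set.compl_empty_iff, Set.eq_univ_iff_forall]
    intro z
    obtain ⟨y, hy, hz⟩ := Set.mem_iUnion₂.1 (ht (Set.mem_univ z))
    refine Set.mem_iUnion.2 ⟨⟨y, hy⟩, ?_⟩
    show D.map (a ⟨y, hy⟩) (cD.π.app l z) ∈ C y.1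
    rw [← Scheme.Hom.comp_apply, cD.w]
    exact hz)
  refine ⟨k, fun y hy => ?_⟩
  obtain ⟨p, -, hp₂⟩ := Scheme.Pullback.exists_preimage_pullback (f := W.ι) (g := LimDesc.toBase E g₁ k) ⟨_, hy⟩ y rfl
  have hy' : LimDesc.stageMap E g₁ W.ι k ((LimDesc.isPullback_stageMap E g₁ W.ι k).isoPullback.inv p) = y := by
    rw [← Scheme.Hom.comp_apply, IsPullback.isoPullback_inv_snd]
    exact hp₂
  set w := (LimDesc.isPullback_stageMap E g₁ W.ι k).isoPullback.inv p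
  have hw : D.map b w ∈ Cl := by
    by_contra h
    exact Set.eq_empty_iff_forall_notMem.1 hkb w h
  obtain ⟨yt, hyt⟩ := Set.mem_iUnion.1 hw
  rw [← hy']
  refine stageOK_trans E f₀ F₀ n (b ≫ a yt) _ ?_
  have h1 := hok _ _ hyt
  have h2 : LimDesc.trans E g₁ (b ≫ a yt) (LimDesc.stageMap E g₁ W.ι k w) =
      LimDesc.stageMap E g₁ W.ι (j yt.1.1) (D.map (a yt) (D.map b w)) := by
    rw [← Scheme.Hom.comp_apply, ← LimDesc.trans_stageMap, ← Scheme.Hom.comp_apply (D.map b), ← D.map_comp]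
    rfl
  rw [h2]
  exact h1

end Groth.Agent.FlatFunLib

namespace Groth.Agent.FlatFunLib

variable {X S : Scheme.{u}} (f : X ⟶ S) [QuasiCompact f] [LocallyOfFinitePresentation f] (F : X.Modules) [Coh.IsQCoh F] (n : ℕ)

theorem exists_stage_dimFlat (hF : CohB1.IsFP F)
    {I : Type u} [SmallCategory I] [IsCofiltered I] (D : I ⥤ Over S) (c : Cone D)
    (hc : IsLimit ((Over.forget S).mapCone c)) (hD : ∀ i, IsAffine (D.obj i).left) (hT : IsAffine c.pt.left)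
    (h : DimFlat f F n c.pt) : ∃ i, DimFlat f F n (D.obj i) := by
  classical
  let E := D ⋙ Over.forget S
  let e : Cone E := (Over.forget S).mapCone c
  haveI : ∀ i, IsAffine (E.obj i) := hD
  haveI : IsAffine e.pt := hT
  haveI : ∀ {i j : I} (a : i ⟶ j), IsAffineHom (E.map a) := fun a => isAffineHom_of_isAffine _
  obtain ⟨i₀⟩ := IsCofiltered.nonempty (C := I)
  let X₀ := PicF.XT f (D.obj i₀)
  let f₀ : X₀ ⟶ E.obj i₀ := PicF.XTproj f (D.obj i₀)
  haveI : LocallyOfFinitePresentation f₀ := MorphismProperty.pullback_snd _ _ ‹_›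
  haveI : CompactSpace X₀ := QuasiCompact.compactSpace_of_compactSpace f₀
  let F₀ := FGA.ET f F (D.obj i₀)
  have hq : Coh.IsQCoh F₀ := QC.isQCoh_pullback _ inferInstance
  have hfp : CohB1.IsFP F₀ := ModDesc.isFP_pullback _ inferInstance hF
  have hX : IsPullback (PicF.XTmap f (c.π.app i₀)) (PicF.XTproj f c.pt) f₀ (e.π.app i₀) :=
    HilbOne.isPullback_XTmap f (c.π.app i₀)
  obtain ⟨t, ht⟩ := ModDesc.exists_finite_cover X₀
  choose j hj using fun W : X₀.affineOpens => exists_stage_piece E e hc f₀ F₀ n hq hfp hX W.2 fun z hz =>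
    h z fun hfl => hz (FlatLimMod.isFlatOverAt_of_iso _ (FGA.ETiso f F (c.π.app i₀)).symm hfl)
  obtain ⟨l, hl⟩ := IsCofiltered.inf_objs_exists (t.image j)
  let g₁ : X₀ ⟶ E.obj i₀ := f₀ ≫ 𝟙 _
  have hok : ∀ y, StageOK E f₀ F₀ n l y := by
    intro y
    obtain ⟨W, hWt, hyW⟩ := ht (LimDesc.toBase E g₁ l y)
    have a : l ⟶ j W := (hl (Finset.mem_image_of_mem _ hWt)).some
    refine stageOK_trans E f₀ F₀ n a y (hj W _ ?_)
    show LimDesc.toBase E g₁ (j W) (LimDesc.trans E g₁ a y) ∈ W.1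
    rw [← Scheme.Hom.comp_apply, LimDesc.trans_toBase]
    exact hyW
  refine ⟨l.left, ?_⟩
  let φ := D.map l.hom
  let eX : PicF.XT f (D.obj l.left) ⟶ LimDesc.stage E g₁ l :=
    pullback.lift (PicF.XTmap f φ) (PicF.XTproj f _) (by
      simp only [g₁, Category.comp_id]
      exact HilbOne.XTmap_snd f φ)
  have hsq : IsPullback eX (PicF.XTproj f (D.obj l.left)) (LimDesc.toStage E g₁ l) (𝟙 (E.obj l.left)) := by
    refine IsPullback.of_right ?_ ((LimDesc.lift_toStage _ _ _ _ _).trans (Category.comp_id _).symm) (LimDesc.isPullback_stage E g₁ l)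
    rw [LimDesc.lift_toBase]
    erw [Category.id_comp]
    have h1 : g₁ = f₀ := Category.comp_id _
    rw [h1]
    exact HilbOne.isPullback_XTmap f φ
  intro z hz
  refine lt_of_le_of_lt (trdeg_le_of_isPullback hsq z) (hok (eX z) fun hfl => hz ?_)
  exact FlatLimMod.isFlatOverAt_of_iso _
    ((ModDesc.trIso eX (LimDesc.toBase E g₁ l) (LimDesc.lift_toBase _ _ _ _ _)).app F₀ ≪≫ FGA.ETiso f F φ)
    (FlatModBC.isFlatOverAt_baseChange hsq _ z hfl)

end Groth.Agent.FlatFunLib
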