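import Mathlib
import Groth.Agent.FlatFunLib.GenPts
import Groth.Agent.LimDesc.Tower
import Groth.Agent.S4790
import Groth.Agent.RelPCS.Single

/-!
Freeness near a point of a limit descends to a stage; limit preservation for `H_p`.
-/

set_option autoImplicit false
set_option linter.style.haveILetI false
set_option backward.isDefEq.respectTransparency false

universe u

open CategoryTheory CategoryTheory.Limits AlgebraicGeometry Opposite

namespace Groth.Agent.FlatFunLib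

/-- A pullback along an open immersion which is free gives freeness near the points of its range. -/
theorem isFreeOfRankNear_of_openImmersion {X Y : Scheme.{u}} (o : Y ⟶ X) [IsOpenImmersion o] (F : X.Modules) (p : ℕ)
    (e : (Scheme.Modules.pullback o).obj F ≅ FlatMod.freeMod Y p) (y : Y) : FlatFun.IsFreeOfRankNear F p (o y) := by
  refine ⟨o.opensRange, ⟨y, rfl⟩, ⟨?_⟩⟩
  let i := o.isoOpensRange
  have hi : i.inv ≫ o = o.opensRange.ι := o.isoOpensRange_inv_comp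
  exact (Scheme.Modules.restrictFunctorIsoPullback _).app F ≪≫ ((ModDesc.trIso i.inv o hi).app F).symm ≪≫
    (Scheme.Modules.pullback i.inv).mapIso e ≪≫ DerPerf.pullFreeIso i.inv p

/-- Freeness on an open gives a free pullback along any open inside it. -/
theorem pullback_free_of_le {X : Scheme.{u}} {F : X.Modules} {p : ℕ} {U D : X.Opens} (hDU : D ≤ U)
    (e : F.restrict U.ι ≅ FlatMod.freeMod (↑U) p) : Nonempty ((Scheme.Modules.pullback D.ι).obj F ≅ FlatMod.freeMod (↑D) p) :=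
  ⟨((ModDesc.trIso (X.homOfLE hDU) U.ι (X.homOfLE_ι hDU)).app F).symm ≪≫
    (Scheme.Modules.pullback (X.homOfLE hDU)).mapIso (((Scheme.Modules.restrictFunctorIsoPullback _).app F).symm ≪≫ e) ≪≫
    DerPerf.pullFreeIso (X.homOfLE hDU) p⟩

/-- Freeness near a point of a limit descends to a stage. -/
theorem exists_stage_free {J : Type u} [SmallCategory J] [IsCofiltered J] (E : J ⥤ Scheme.{u})
    [∀ {i j : J} (a : i ⟶ j), IsAffineHom (E.map a)] (e : Cone E) (he : IsLimit e) (j₀ : J)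
    (M : (E.obj j₀).Modules) [Coh.IsQCoh M] (hM : CohB1.IsFP M) (p : ℕ) (x : e.pt)
    (h : FlatFun.IsFreeOfRankNear ((Scheme.Modules.pullback (e.π.app j₀)).obj M) p x) :
    ∃ (j : J) (a : j ⟶ j₀), FlatFun.IsFreeOfRankNear ((Scheme.Modules.pullback (E.map a)).obj M) p (e.π.app j x) := by
  obtain ⟨G, hxG, ⟨eG⟩⟩ := h
  obtain ⟨D₀, hD₀, hxD₀, hD₀G⟩ := exists_isAffineOpen_mem_and_subset (X := e.pt) (x := x) (U := G) hxG
  obtain ⟨i, V₁, -, hV₁⟩ := exists_preimage_eq E e he D₀ hD₀.isCompact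
  obtain ⟨k, a₁, a₂, -⟩ := IsCofilteredOrEmpty.cone_objs i j₀
  have hxV : e.π.app k x ∈ E.map a₁ ⁻¹ᵁ V₁ := by
    show E.map a₁ (e.π.app k x) ∈ V₁
    rw [← Scheme.Hom.comp_apply, e.w a₁]
    exact hV₁.ge hxD₀
  obtain ⟨V, hV, hxV', hVle⟩ := exists_isAffineOpen_mem_and_subset (X := E.obj k) (x := e.π.app k x)
    (U := E.map a₁ ⁻¹ᵁ V₁) hxV
  let D : e.pt.Opens := e.π.app k ⁻¹ᵁ V
  have hDG : D ≤ G := fun z hz => hD₀G (hV₁.le (by
    show e.π.app i z ∈ V₁
    rw [← e.w a₁, Scheme.Hom.comp_apply]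
    exact hVle hz))
  obtain ⟨eD⟩ := pullback_free_of_le hDG eG
  let g₀ : V.toScheme ⟶ E.obj k := V.ι
  let qY : D.toScheme ⟶ V.toScheme := e.π.app k ∣_ V
  have hY : IsPullback qY D.ι g₀ (e.π.app k) := (isPullback_morphismRestrict (e.π.app k) V)
  haveI : IsAffine V.toScheme := hV
  let o : Over k := Over.mk (𝟙 k)
  haveI : ∀ {j l : Over k} (b : j ⟶ l), IsAffineHom ((LimDesc.tower E g₀).map b) :=
    fun b => LimDesc.isAffineHom_tower_map E g₀ b
  haveI : ∀ (j l : Over k) (b : j ⟶ l), IsAffineHom ((LimDesc.tower E g₀).map b) :=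
    fun _ _ b => LimDesc.isAffineHom_tower_map E g₀ b
  haveI : CompactSpace ((LimDesc.tower E g₀).obj o) := LimDesc.compactSpace_stage E g₀ o
  haveI : QuasiSeparatedSpace ((LimDesc.tower E g₀).obj o) := LimDesc.quasiSeparatedSpace_stage E g₀ o
  let Mo : (LimDesc.stage E g₀ o).Modules := (Scheme.Modules.pullback (LimDesc.toStage E g₀ o ≫ E.map a₂)).obj M
  haveI : Coh.IsQCoh Mo := QC.isQCoh_pullback _ inferInstance
  haveI : Coh.IsQCoh (FlatMod.freeMod (LimDesc.stage E g₀ o) p) := LocFree.isQCoh_freeMod _ p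
  have hw : LimDesc.proj E g₀ e hY o ≫ LimDesc.toStage E g₀ o ≫ E.map a₂ = D.ι ≫ e.π.app j₀ := by
    rw [LimDesc.proj_toStage_assoc]
    exact congrArg (D.ι ≫ ·) (e.w a₂)
  obtain ⟨j, b, ⟨ej⟩⟩ := (S4790.result (LimDesc.tower E g₀) (LimDesc.towerCone E g₀ e hY)
    (LimDesc.isLimitTowerCone E g₀ e hY he) o Mo (FlatMod.freeMod (LimDesc.stage E g₀ o) p)
    (ModDesc.isFP_pullback _ inferInstance hM) (LocFree.isFP_of_isFinLocFree (RelPCS.isFinLocFree_freeMod p))).1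
    ⟨(ModDesc.trIso (LimDesc.proj E g₀ e hY o) (LimDesc.toStage E g₀ o ≫ E.map a₂) hw).app M ≪≫
      ((ModDesc.trIso D.ι (e.π.app j₀) rfl).app M).symm ≪≫ eD ≪≫ (DerPerf.pullFreeIso (LimDesc.proj E g₀ e hY o) p).symm⟩
  refine ⟨j.left, j.hom ≫ a₂, ?_⟩
  have hb : b.left = j.hom := by simpa [o] using Over.w b
  have hw2 : LimDesc.toStage E g₀ j ≫ E.map (j.hom ≫ a₂) =
      LimDesc.trans E g₀ b ≫ LimDesc.toStage E g₀ o ≫ E.map a₂ := by
    rw [LimDesc.trans_toStage_assoc, E.map_comp]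
    congr 2
    rw [hb]
  have hpt : e.π.app j.left x = LimDesc.toStage E g₀ j (LimDesc.proj E g₀ e hY j ⟨x, hxV'⟩) := by
    rw [← Scheme.Hom.comp_apply, LimDesc.proj_toStage]
    rfl
  rw [hpt]
  exact isFreeOfRankNear_of_openImmersion _ _ p
    (((ModDesc.trIso (LimDesc.toStage E g₀ j) (E.map (j.hom ≫ a₂)) rfl).app M) ≪≫
      ((ModDesc.trIso (LimDesc.trans E g₀ b) (LimDesc.toStage E g₀ o ≫ E.map a₂) hw2.symm).app M).symm ≪≫
      ej ≪≫ DerPerf.pullFreeIso _ p) _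

variable {X S : Scheme.{u}} (f : X ⟶ S) [Smooth f] [GeometricallyIrreducible f] (F : X.Modules) [Coh.IsQCoh F] (p : ℕ)

theorem exists_stage_freeGen (hF : CohB1.IsFP F)
    {I : Type u} [SmallCategory I] [IsCofiltered I] (D : I ⥤ Over S) (c : Cone D)
    (hc : IsLimit ((Over.forget S).mapCone c)) (hD : ∀ i, IsAffine (D.obj i).left) (hT : IsAffine c.pt.left)
    (h : FlatFun.FreeAtGenericPts (PicF.XTproj f c.pt) (FGA.ET f F c.pt) p) :
    ∃ i, FlatFun.FreeAtGenericPts (PicF.XTproj f (D.obj i)) (FGA.ET f F (D.obj i)) p := by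
  let E := D ⋙ Over.forget S
  let e : Cone E := (Over.forget S).mapCone c
  haveI : ∀ {i j : I} (a : i ⟶ j), IsAffineHom (E.map a) := fun {i j} a => by
    haveI : IsAffine (E.obj i) := hD i
    haveI : IsAffine (E.obj j) := hD j
    exact isAffineHom_of_isAffine _
  obtain ⟨i₀⟩ := IsCofiltered.nonempty (C := I)
  let G : ∀ i, Set ↥(PicF.XT f (D.obj i)) := fun i => {z | FlatFun.IsFreeOfRankNear (FGA.ET f F (D.obj i)) p z}
  have hGo : ∀ i, IsOpen (G i) := fun i => isOpen_iff_forall_mem_open.2 fun z ⟨U, hzU, hU⟩ =>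
    ⟨U, fun w hw => ⟨U, hw, hU⟩, U.2, hzU⟩
  let V : ∀ i, (D.obj i).left.Opens := fun i => ⟨PicF.XTproj f (D.obj i) '' G i, by
    haveI : Smooth (PicF.XTproj f (D.obj i)) := MorphismProperty.pullback_snd _ _ ‹_›
    exact (PicF.XTproj f (D.obj i)).isOpenMap _ (hGo i)⟩
  have hpt : ∀ t : c.pt.left, ∃ (i : I) (_ : i ⟶ i₀), (c.π.app i).left t ∈ V i := by
    intro t
    obtain ⟨x, hxt, -, hx⟩ := h t
    let g₀ : PicF.XT f (D.obj i₀) ⟶ E.obj i₀ := PicF.XTproj f (D.obj i₀)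
    have hY : IsPullback (PicF.XTmap f (c.π.app i₀)) (PicF.XTproj f c.pt) g₀ (e.π.app i₀) :=
      HilbOne.isPullback_XTmap f (c.π.app i₀)
    let o : Over i₀ := Over.mk (𝟙 i₀)
    haveI : ∀ {j k : Over i₀} (a : j ⟶ k), IsAffineHom ((LimDesc.tower E g₀).map a) :=
      fun a => LimDesc.isAffineHom_tower_map E g₀ a
    let M : ((LimDesc.tower E g₀).obj o).Modules := (Scheme.Modules.pullback (LimDesc.toBase E g₀ o)).obj (FGA.ET f F (D.obj i₀))
    have hqM : Coh.IsQCoh M := QC.isQCoh_pullback _ (QC.isQCoh_pullback _ inferInstance)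
    haveI := hqM
    have hMfp : CohB1.IsFP M :=
      ModDesc.isFP_pullback _ (QC.isQCoh_pullback _ inferInstance) (ModDesc.isFP_pullback _ inferInstance hF)
    obtain ⟨j, a, hj⟩ := exists_stage_free (LimDesc.tower E g₀) (LimDesc.towerCone E g₀ e hY)
      (LimDesc.isLimitTowerCone E g₀ e hY hc) o M hMfp p x
      (isFreeOfRankNear_of_iso ((((ModDesc.trIso (LimDesc.proj E g₀ e hY o) (LimDesc.toBase E g₀ o)
        (LimDesc.proj_toBase _ _ _ _ _)).app _)) ≪≫ FGA.ETiso f F (c.π.app i₀)).symm hx)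
    let φ := D.map j.hom
    let l := (HilbOne.isPullback_XTmap f φ).isoPullback
    have hl₁ : l.hom ≫ LimDesc.toBase E g₀ j = PicF.XTmap f φ := IsPullback.isoPullback_hom_fst _
    have hl₂ : l.inv ≫ PicF.XTproj f (D.obj j.left) = LimDesc.toStage E g₀ j := IsPullback.isoPullback_inv_snd _
    refine ⟨j.left, j.hom, l.inv (LimDesc.proj E g₀ e hY j x), ?_, ?_⟩
    · let z := LimDesc.proj E g₀ e hY j x
      have hz : l.hom (l.inv z) = z := by rw [← Scheme.Hom.comp_apply, l.inv_hom_id]; rfl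
      refine isFreeOfRankNear_of_iso ?_ (isFreeOfRankNear_pullback l.hom ((Scheme.Modules.pullback ((LimDesc.tower E g₀).map a)).obj M) p (l.inv z) (by rw [hz]; exact hj))
      exact (Scheme.Modules.pullback l.hom).mapIso
        ((ModDesc.trIso (LimDesc.trans E g₀ a) (LimDesc.toBase E g₀ o) (LimDesc.trans_toBase E g₀ a)).app _) ≪≫
        (ModDesc.trIso l.hom (LimDesc.toBase E g₀ j) hl₁).app _ ≪≫ FGA.ETiso f F φ
    · rw [← Scheme.Hom.comp_apply, hl₂]
      show (LimDesc.proj E g₀ e hY j ≫ LimDesc.toStage E g₀ j) x = _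
      rw [LimDesc.proj_toStage]
      exact congrArg (fun u => (e.π.app j.left) u) hxt
  have hmono : ∀ {i j : I} (a : i ⟶ j), E.map a ⁻¹ᵁ V j ≤ V i := by
    rintro i j a t ⟨z, hzG, hzt⟩
    obtain ⟨z', hz', hz't⟩ : ∃ z', PicF.XTmap f (D.map a) z' = z ∧ PicF.XTproj f (D.obj i) z' = t := by
      obtain ⟨q, hq₁, hq₂⟩ := Scheme.Pullback.exists_preimage_pullback (f := PicF.XTproj f (D.obj j)) (g := (D.map a).left) z t hzt
      refine ⟨(HilbOne.isPullback_XTmap f (D.map a)).isoPullback.inv q, ?_, ?_⟩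
      · rw [← Scheme.Hom.comp_apply, IsPullback.isoPullback_inv_fst]; exact hq₁
      · rw [← Scheme.Hom.comp_apply, IsPullback.isoPullback_inv_snd]; exact hq₂
    exact ⟨z', isFreeOfRankNear_of_iso (FGA.ETiso f F (D.map a)) (isFreeOfRankNear_pullback _ _ p z' (hz'.symm ▸ hzG)), hz't⟩
  haveI := hT
  let W : I → c.pt.left.Opens := fun i => e.π.app i ⁻¹ᵁ V i
  obtain ⟨s, hs⟩ := (isCompact_univ (X := c.pt.left)).elim_finite_subcover (fun i => (W i : Set c.pt.left))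
    (fun i => (W i).2) fun t _ => let ⟨i, _, hi⟩ := hpt t; Set.mem_iUnion.2 ⟨i, hi⟩
  classical
  obtain ⟨l, hl⟩ := IsCofiltered.inf_objs_exists s
  have htop : e.π.app l ⁻¹ᵁ ⊤ ≤ e.π.app l ⁻¹ᵁ V l := by
    intro t _
    obtain ⟨i, hi, ht⟩ := Set.mem_iUnion₂.1 (hs (Set.mem_univ t))
    refine hmono (hl hi).some ?_
    show E.map (hl hi).some (e.π.app l t) ∈ V i
    rw [← Scheme.Hom.comp_apply, e.w]
    exact ht
  haveI : IsAffine (E.obj l) := hD l
  obtain ⟨k, b, hk⟩ := exists_map_preimage_le_map_preimage E e hc (U := ⊤) (V := V l)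
    (isAffineOpen_top (E.obj l)).isCompact htop
  refine ⟨k, fun t => ?_⟩
  haveI : GeometricallyIrreducible (PicF.XTproj f (D.obj k)) := MorphismProperty.pullback_snd _ _ ‹_›
  obtain ⟨z, hzG, hzt⟩ := hmono b (hk (Set.mem_univ t))
  obtain ⟨x, hxt, hx⟩ := exists_genericPt (PicF.XTproj f (D.obj k)) t
  obtain ⟨U, hzU, hU⟩ := hzG
  exact ⟨x, hxt, hx, U, (hx z (hzt.trans hxt.symm)).mem_open U.2 hzU, hU⟩

end Groth.Agent.FlatFunLib
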