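import Mathlib
import Groth.Agent.FlatFunLib.GenPts
import Groth.Agent.Fitting.Local
import Groth.Agent.FittLib.Free

/-!
The locus where a module is generated by `p` elements; freeness of a base change via relations; sections
vanishing at the generic points of the fibres.
-/

set_option autoImplicit false
set_option linter.style.haveILetI false
set_option backward.isDefEq.respectTransparency false

universe u

open CategoryTheory CategoryTheory.Limits AlgebraicGeometry Opposite TensorProduct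

namespace Groth.Agent.FlatFunLib

/-- The dimension of a fibre of a finite module in terms of Fitting ideals. -/
theorem finrank_le_iff_fitting {A M : Type u} (K : Type u) [CommRing A] [Field K] [Algebra A K] [AddCommGroup M]
    [Module A M] [Module.Finite A M] (k : ℕ) :
    Module.finrank K (K ⊗[A] M) ≤ k ↔ ¬ Fitt.ideal A M k ≤ RingHom.ker (algebraMap A K) := by
  have h := Fitting.ideal_baseChange (R := A) (M := M) K k
  let b := Module.finBasis K (K ⊗[A] M)
  obtain ⟨h1, h2⟩ := Fitting.ideal_of_basis (k := k) b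
  rw [Fintype.card_fin] at h1 h2
  rw [← Ideal.map_eq_bot_iff_le_ker, ← h]
  refine ⟨fun hle => ?_, fun hn => ?_⟩
  · rw [h1 hle]
    exact top_ne_bot
  · by_contra hlt
    exact hn (h2 (not_le.1 hlt))

/-- A base change of a generated module is free on the generators iff the relations die. -/
theorem nonempty_basis_iff_relations {R L N : Type u} [CommRing R] [CommRing L] [Algebra R L] [Nontrivial L]
    [AddCommGroup N] [Module R N] {p : ℕ} (σ : Fin p → N) (hσ : Submodule.span R (Set.range σ) = ⊤) :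
    Nonempty (Module.Basis (Fin p) L (L ⊗[R] N)) ↔
      ∀ r : Fin p → R, ∑ i, r i • σ i = 0 → ∀ i, algebraMap R L (r i) = 0 := by
  classical
  let τ : Fin p → L ⊗[R] N := fun i => (1 : L) ⊗ₜ[R] σ i
  have hτ : Submodule.span L (Set.range τ) = ⊤ := by
    have h := Submodule.baseChange_span (A := L) (R := R) (M := N) (Set.range σ)
    rw [hσ, Submodule.baseChange_top, ← Set.range_comp] at h
    exact h.symm
  constructor
  · rintro ⟨b⟩ r hr i
    have hli : LinearIndependent L τ := linearIndependent_of_top_le_span_of_card_eq_finrank hτ.ge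
      (by rw [Module.finrank_eq_card_basis b])
    refine Fintype.linearIndependent_iff.1 hli (fun i => algebraMap R L (r i)) ?_ i
    simp only [τ, TensorProduct.smul_tmul', smul_eq_mul, mul_one]
    rw [← TensorProduct.tmul_zero N (1 : L), ← hr, TensorProduct.tmul_sum]
    exact Finset.sum_congr rfl fun j _ => by
      rw [Algebra.algebraMap_eq_smul_one, TensorProduct.smul_tmul]
  · intro h
    let π : (Fin p → R) →ₗ[R] N := Fintype.linearCombination R σ
    have hπ : Function.Surjective π := by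
      rw [← LinearMap.range_eq_top, Fintype.range_linearCombination, hσ]
    let φ : (Fin p → R) →ₗ[R] (Fin p → L) := LinearMap.compLeft (Algebra.linearMap R L) (Fin p)
    have hker : LinearMap.ker π ≤ LinearMap.ker φ := fun r hr => funext fun i => h r (by
      rwa [LinearMap.mem_ker, Fintype.linearCombination_apply] at hr) i
    let ψ₀ : N →ₗ[R] (Fin p → L) :=
      (LinearMap.ker π).liftQ φ hker ∘ₗ (π.quotKerEquivOfSurjective hπ).symm.toLinearMap
    have hψ₀ : ∀ r, ψ₀ (π r) = φ r := fun r => by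
      have he : (π.quotKerEquivOfSurjective hπ).symm (π r) = Submodule.Quotient.mk r :=
        (π.quotKerEquivOfSurjective hπ).injective (by simp)
      simp [ψ₀, he]
    let ψ : L ⊗[R] N →ₗ[L] (Fin p → L) := ψ₀.liftBaseChange L
    have hψ : ∀ i, ψ (τ i) = Pi.basisFun L (Fin p) i := fun i => by
      have h1 : σ i = π (Pi.single i 1) := by simp [π, Fintype.linearCombination_apply_single]
      simp only [ψ, τ, LinearMap.liftBaseChange_tmul, one_smul, h1, hψ₀, Pi.basisFun_apply]
      ext j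
      by_cases hj : j = i <;> simp [φ, hj]
    refine ⟨Module.Basis.mk (LinearIndependent.of_comp ψ ?_) hτ.ge⟩
    rw [show ψ ∘ τ = Pi.basisFun L (Fin p) from funext hψ]
    exact (Pi.basisFun L (Fin p)).linearIndependent

variable {X : Scheme.{u}} (F : X.Modules)

/-- The rank at a point in terms of the Fitting ideals of the sections over an affine neighbourhood. -/
theorem rk_le_iff [Coh.IsQCoh F] {U : X.Opens} (hU : IsAffineOpen U) [Module.Finite Γ(X, U) Γ(F, U)] {x : X}
    (hx : x ∈ U) (k : ℕ) :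
    LocFree.rk F x ≤ k ↔ ¬ Fitt.ideal Γ(X, U) Γ(F, U) k ≤ (hU.primeIdealOf ⟨x, hx⟩).asIdeal := by
  let A := Γ(X, U)
  let R := X.presheaf.stalk x
  let κ := IsLocalRing.ResidueField R
  letI : Algebra A R := (X.presheaf.germ U x hx).hom.toAlgebra
  haveI : IsLocalization.AtPrime R (hU.primeIdealOf ⟨x, hx⟩).asIdeal := hU.isLocalization_stalk ⟨x, hx⟩
  obtain ⟨g, hg⟩ := LocFree.exists_stalkMap hU (M := F) inferInstance hx
  letI := Module.compHom (F.presheaf.stalk x) (X.presheaf.germ U x hx).hom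
  haveI : IsScalarTower A R (F.presheaf.stalk x) := ⟨fun a c m => mul_smul ((X.presheaf.germ U x hx).hom a) c m⟩
  haveI := hg
  have hb : IsBaseChange R g := IsLocalizedModule.isBaseChange (hU.primeIdealOf ⟨x, hx⟩).asIdeal.primeCompl R g
  let e : κ ⊗[R] F.presheaf.stalk x ≃ₗ[κ] κ ⊗[A] Γ(F, U) :=
    (AlgebraTensorModule.congr (LinearEquiv.refl κ κ) hb.equiv.symm).trans
      (AlgebraTensorModule.cancelBaseChange A R κ κ Γ(F, U))
  show Module.finrank κ (κ ⊗[R] F.presheaf.stalk x) ≤ k ↔ _
  rw [e.finrank_eq, finrank_le_iff_fitting (A := A) (M := Γ(F, U)) κ k]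
  have hk : RingHom.ker (algebraMap A κ) = (hU.primeIdealOf ⟨x, hx⟩).asIdeal := by
    rw [IsScalarTower.algebraMap_eq A R κ, ← RingHom.comap_ker, IsLocalRing.ResidueField.algebraMap_eq,
      IsLocalRing.ker_residue]
    exact IsLocalization.AtPrime.under_maximalIdeal R _
  rw [hk]

/-- The locus of rank at most `k`. -/
def rkLocus (k : ℕ) : Set X := {x | LocFree.rk F x ≤ k}

theorem isOpen_rkLocus [Coh.IsQCoh F] (hft : CohB1.IsFT F) (k : ℕ) : IsOpen (rkLocus F k) := by
  refine isOpen_iff_forall_mem_open.2 fun x hx => ?_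
  obtain ⟨U, hU, hxU, -⟩ := exists_isAffineOpen_mem_and_subset (X := X) (x := x) (U := ⊤) trivial
  haveI := QC.finite_sections hU (M := F) hft
  obtain ⟨a, ha, hax⟩ := SetLike.not_le_iff_exists.1 ((rk_le_iff F hU hxU k).1 hx)
  refine ⟨X.basicOpen a, fun y hy => ?_, (X.basicOpen a).2, (WeakAssLib.mem_primeIdealOf hU hxU a).2 hax⟩
  have hyU : y ∈ U := X.basicOpen_le a hy
  exact (rk_le_iff F hU hyU k).2 fun h => (WeakAssLib.mem_primeIdealOf hU hyU a).1 hy (h ha)

theorem isCompact_rkLocus_inter [Coh.IsQCoh F] (hfp : CohB1.IsFP F) {U : X.Opens} (hU : IsAffineOpen U) (k : ℕ) :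
    IsCompact (rkLocus F k ∩ U) := by
  haveI := LocFree.finitePresentation_sections_of_isFP (M := F) inferInstance hfp hU
  obtain ⟨G, hG⟩ := Fitting.fg_ideal (R := Γ(X, U)) (M := Γ(F, U)) k
  have : rkLocus F k ∩ U = ⋃ a ∈ G, (X.basicOpen a : Set X) := by
    ext y
    simp only [Set.mem_inter_iff, Set.mem_iUnion, SetLike.mem_coe]
    constructor
    · rintro ⟨hy, hyU⟩
      have := (rk_le_iff F hU hyU k).1 hy
      rw [← hG, Submodule.span_le, Set.not_subset] at this
      obtain ⟨a, haG, ha⟩ := this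
      exact ⟨a, haG, (WeakAssLib.mem_primeIdealOf hU hyU a).2 ha⟩
    · rintro ⟨a, haG, hy⟩
      have hyU : y ∈ U := X.basicOpen_le a hy
      refine ⟨(rk_le_iff F hU hyU k).2 fun h => ?_, hyU⟩
      rw [← hG, Submodule.span_le] at h
      exact (WeakAssLib.mem_primeIdealOf hU hyU a).1 hy (h haG)
  rw [this]
  exact G.finite_toSet.isCompact_biUnion fun a _ => (hU.basicOpen a).isCompact

variable {Y T : Scheme.{u}}

/-- A point above which the pullback is free of rank `p` lies in the rank locus. -/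
theorem rk_le_of_basis_pullback [Coh.IsQCoh F] (hft : CohB1.IsFT F) (a : Y ⟶ X) (y : Y) (p : ℕ)
    (b : Module.Basis (Fin p) (Y.presheaf.stalk y) (((Scheme.Modules.pullback a).obj F).presheaf.stalk y)) :
    LocFree.rk F (a y) ≤ p := by
  obtain ⟨W, hW, hxW, -⟩ := exists_isAffineOpen_mem_and_subset (X := X) (x := a y) (U := ⊤) trivial
  haveI := QC.finite_sections hW (M := F) hft
  let R := X.presheaf.stalk (a y)
  let L := Y.presheaf.stalk y
  haveI : Module.Finite R (F.presheaf.stalk (a y)) := LocFree.finite_stalk hW inferInstance hxW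
  letI : Algebra R L := (a.stalkMap y).hom.toAlgebra
  haveI : IsLocalHom (algebraMap R L) := inferInstanceAs (IsLocalHom (a.stalkMap y).hom)
  let e : ((Scheme.Modules.pullback a).obj F).presheaf.stalk y ≃ₗ[L] L ⊗[R] F.presheaf.stalk (a y) :=
    ((KFlat.pullStalkIso a y).app F).toLinearEquiv
  have h1 : Fitt.ideal L (L ⊗[R] F.presheaf.stalk (a y)) p = ⊤ :=
    (Fitting.ideal_of_basis (k := p) (b.map e)).1 (by simp)
  rw [Fitting.ideal_baseChange] at h1
  show Module.finrank _ _ ≤ p
  rw [finrank_le_iff_fitting (A := R) (M := F.presheaf.stalk (a y)) (IsLocalRing.ResidueField R) p,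
    IsLocalRing.ResidueField.algebraMap_eq, IsLocalRing.ker_residue]
  intro hle
  have h2 : Ideal.map (algebraMap R L) (Fitt.ideal R (F.presheaf.stalk (a y)) p) ≤ IsLocalRing.maximalIdeal L := by
    rw [Ideal.map_le_iff_le_comap]
    exact fun r hr => map_nonunit (algebraMap R L) r (hle hr)
  rw [h1] at h2
  exact (IsLocalRing.maximalIdeal.isMaximal L).ne_top (top_le_iff.1 h2)

/-- The pullback is free on the generators at a point iff the coordinates of the global relations die there. -/
theorem basis_pullback_iff [Coh.IsQCoh F] {U : X.Opens} (hU : IsAffineOpen U) {p : ℕ} (s : Fin p → Γ(F, U))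
    (hs : Submodule.span Γ(X, U) (Set.range s) = ⊤) (a : Y ⟶ X) (y : Y) (hy : a y ∈ U) :
    Nonempty (Module.Basis (Fin p) (Y.presheaf.stalk y) (((Scheme.Modules.pullback a).obj F).presheaf.stalk y)) ↔
      ∀ k : Fin p → Γ(X, U), ∑ i, k i • s i = 0 → ∀ i, Y.presheaf.germ (a ⁻¹ᵁ U) y hy (a.app U (k i)) = 0 := by
  let R := X.presheaf.stalk (a y)
  let L := Y.presheaf.stalk y
  letI : Algebra R L := (a.stalkMap y).hom.toAlgebra
  let e : ((Scheme.Modules.pullback a).obj F).presheaf.stalk y ≃ₗ[L] L ⊗[R] F.presheaf.stalk (a y) :=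
    ((KFlat.pullStalkIso a y).app F).toLinearEquiv
  let σ : Fin p → F.presheaf.stalk (a y) := fun i => WeakAssLib.mgerm F hy (s i)
  have hσ : Submodule.span R (Set.range σ) = ⊤ := LocFree.span_germ hU inferInstance hy s hs
  have hgerm : ∀ c : Γ(X, U), algebraMap R L ((X.presheaf.germ U (a y) hy).hom c) =
      Y.presheaf.germ (a ⁻¹ᵁ U) y hy (a.app U c) := fun c => a.germ_stalkMap_apply U y hy c
  have hiff := nonempty_basis_iff_relations (L := L) σ hσ
  refine Iff.trans ⟨fun ⟨b⟩ => ⟨b.map e⟩, fun ⟨b⟩ => ⟨b.map e.symm⟩⟩ (hiff.trans ⟨fun h k hk i => ?_, fun h r hr i => ?_⟩)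
  · rw [← hgerm]
    refine h (fun i => (X.presheaf.germ U (a y) hy).hom (k i)) ?_ i
    have := congrArg (WeakAssLib.mgerm F hy) hk
    rw [map_sum, map_zero] at this
    simp only [WeakAssLib.mgerm_smul] at this
    exact this
  · letI : Algebra Γ(X, U) R := (X.presheaf.germ U (a y) hy).hom.toAlgebra
    haveI := hU.isLocalization_stalk ⟨a y, hy⟩
    let P := (hU.primeIdealOf ⟨a y, hy⟩).asIdeal
    obtain ⟨d, hd⟩ := IsLocalization.exist_integer_multiples_of_finite P.primeCompl r
    choose c hc using hd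
    have hc' : ∀ i, (X.presheaf.germ U (a y) hy).hom (c i) = (X.presheaf.germ U (a y) hy).hom d * r i := fun i =>
      (hc i).trans (Algebra.smul_def _ _)
    have h0 : WeakAssLib.mgerm F hy (∑ i, c i • s i) = 0 := by
      rw [map_sum]
      simp only [WeakAssLib.mgerm_smul, hc', mul_smul, ← Finset.smul_sum]
      show (X.presheaf.germ U (a y) hy).hom d • (∑ i, r i • σ i) = 0
      rw [hr, smul_zero]
    obtain ⟨u, hu, hu0⟩ := (WeakAssLib.germ_eq_zero_iff hU (QC.isLoc_of_isQCoh hU (hM := inferInstance)) hy _).1 h0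
    rw [Finset.smul_sum] at hu0
    have h2 := h (fun i => u * c i) (by simpa [mul_smul] using hu0) i
    rw [← hgerm, map_mul, hc', map_mul, map_mul, ← mul_assoc] at h2
    exact (((WeakAssLib.isUnit_germ hU hy hu).map _).mul
      ((WeakAssLib.isUnit_germ hU hy d.2).map _)).mul_right_eq_zero.1 h2

/-- A section vanishing at the generic points of the fibres of a smooth morphism vanishes. -/
theorem eq_zero_of_genericStalks (q : Y ⟶ T) [Smooth q] (hgen : ∀ t : T, ∃ η, q η = t ∧ FlatFun.IsGenericPtOfFibre q η)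
    {D : Y.Opens} (b : Γ(Y, D))
    (hb : ∀ (η : Y) (hη : η ∈ D), FlatFun.IsGenericPtOfFibre q η → Y.presheaf.germ D η hη b = 0) : b = 0 := by
  refine TopCat.Presheaf.section_ext ⟨Y.presheaf, Y.IsSheaf⟩ D _ _ fun z hz => ?_
  show Y.presheaf.germ D z hz b = Y.presheaf.germ D z hz 0
  obtain ⟨V, hV, hzV, -⟩ := exists_isAffineOpen_mem_and_subset (X := T) (x := q z) (U := ⊤) trivial
  obtain ⟨W, hW, hzW, eW⟩ := exists_isAffineOpen_mem_and_subset (X := Y) (x := z) (U := q ⁻¹ᵁ V ⊓ D) ⟨hzV, hz⟩
  have e : W ≤ q ⁻¹ᵁ V := fun w hw => (eW hw).1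
  have eD : W ≤ D := fun w hw => (eW hw).2
  let B := Γ(Y, W)
  letI : Algebra Γ(T, V) B := (q.appLE V W e).hom.toAlgebra
  haveI : Algebra.Smooth Γ(T, V) B :=
    RingHom.smooth_algebraMap.1 (HasRingHomProperty.appLE @Smooth q ‹_› ⟨V, hV⟩ ⟨W, hW⟩ e)
  have h0 : Y.presheaf.map (homOfLE eD).op b = 0 := by
    refine eq_zero_of_genericPts (A := Γ(T, V)) _ fun Q _ hQ => ?_
    let P : PrimeSpectrum B := ⟨Q, ‹_›⟩
    obtain ⟨hηW, hηP⟩ := InjFibre.primeIdealOf_fromSpec hW P
    obtain ⟨η₁, hη₁t, hη₁⟩ := hgen (q (hW.fromSpec P))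
    have hspec : η₁ ⤳ hW.fromSpec P := hη₁ _ hη₁t.symm
    have hη₁W : η₁ ∈ W := hspec.mem_open W.2 hηW
    have hηeq : η₁ = hW.fromSpec P := by
      have hle : (hW.primeIdealOf ⟨η₁, hη₁W⟩).asIdeal ≤ Q := by
        refine PrimeSpectrum.le_iff_specializes _ P |>.2 ?_
        rw [← hW.fromSpec.isOpenEmbedding.isInducing.specializes_iff]
        show hW.fromSpec _ ⤳ hW.fromSpec P
        rw [hW.fromSpec_primeIdealOf]
        exact hspec
      have hcomap : ∀ w (hw : w ∈ W), (hV.primeIdealOf ⟨q w, e hw⟩).asIdeal =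
          (hW.primeIdealOf ⟨w, hw⟩).asIdeal.comap (algebraMap Γ(T, V) B) := by
        intro w hw
        refine (congrArg PrimeSpectrum.asIdeal (?_ : PrimeSpectrum.comap (algebraMap Γ(T, V) B) (hW.primeIdealOf ⟨w, hw⟩) = _)).symm
        apply hV.fromSpec.isOpenEmbedding.injective
        show hV.fromSpec _ = hV.fromSpec _
        rw [hV.fromSpec_primeIdealOf]
        refine (congr($(hV.SpecMap_appLE_fromSpec q hW e).base (hW.primeIdealOf ⟨w, hw⟩))).trans ?_
        exact congrArg q.base (hW.fromSpec_primeIdealOf _)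
      have h2 : Q ≤ (hW.primeIdealOf ⟨η₁, hη₁W⟩).asIdeal := by
        refine hQ _ hle ?_
        rw [← hcomap η₁ hη₁W, show Q = (hW.primeIdealOf ⟨hW.fromSpec P, hηW⟩).asIdeal from congrArg PrimeSpectrum.asIdeal hηP.symm,
          ← hcomap _ hηW]
        exact congrArg (fun w : V => (hV.primeIdealOf w).asIdeal) (Subtype.ext hη₁t)
      refine (hW.fromSpec_primeIdealOf ⟨η₁, hη₁W⟩).symm.trans (congrArg hW.fromSpec ?_)
      exact PrimeSpectrum.ext (le_antisymm hle h2)
    subst hηeq
    let η := hW.fromSpec P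
    have hz' : Y.presheaf.germ W η hηW (Y.presheaf.map (homOfLE eD).op b) = 0 :=
      (Y.presheaf.germ_res_apply _ _ _ _).trans (hb η (eD hηW) hη₁)
    letI : Algebra B (Y.presheaf.stalk η) := (Y.presheaf.germ W η hηW).hom.toAlgebra
    haveI : IsLocalization.AtPrime (Y.presheaf.stalk η) (hW.primeIdealOf ⟨η, hηW⟩).asIdeal :=
      hW.isLocalization_stalk ⟨η, hηW⟩
    obtain ⟨t, ht⟩ := (IsLocalization.map_eq_zero_iff (hW.primeIdealOf ⟨η, hηW⟩).asIdeal.primeCompl
      (Y.presheaf.stalk η) _).1 hz'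
    exact ⟨t.1, fun hm => t.2 ((congrArg PrimeSpectrum.asIdeal hηP).ge hm), ht⟩
  rw [map_zero, ← Y.presheaf.germ_res_apply (homOfLE eD) z hzW b]
  exact (congrArg _ h0).trans (map_zero _)

end Groth.Agent.FlatFunLib
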