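import Mathlib
import Groth.Agent.FlatFunLib.GenRepBasic
import Groth.Agent.ClosedRep.GeomIntegral

/-!
Local representability of `H_p` by closed subschemes.
-/

set_option autoImplicit false
set_option linter.style.haveILetI false
set_option backward.isDefEq.respectTransparency false

universe u

open CategoryTheory CategoryTheory.Limits AlgebraicGeometry Opposite TensorProduct

namespace Groth.Agent.FlatFunLib

variable {X S : Scheme.{u}} (f : X ⟶ S) [Smooth f] [GeometricallyIrreducible f] (F : X.Modules) [Coh.IsQCoh F]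

/-- `H_p` over the image of an affine open with `p` generators. -/
theorem freeGen_iff_relations (hft : CohB1.IsFT F) {U : X.Opens} (hU : IsAffineOpen U) {p : ℕ} (s : Fin p → Γ(F, U))
    (hs : Submodule.span Γ(X, U) (Set.range s) = ⊤) (T : Over S) (hT : ∀ t : T.left, ∃ x ∈ U, f x = T.hom t) :
    FlatFun.FreeAtGenericPts (PicF.XTproj f T) (FGA.ET f F T) p ↔
      ∀ k : Fin p → Γ(X, U), ∑ i, k i • s i = 0 → ∀ i, (pullback.fst f T.hom).app U (k i) = 0 := by
  haveI : GeometricallyIrreducible (PicF.XTproj f T) := MorphismProperty.pullback_snd _ _ ‹_›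
  haveI : Smooth (PicF.XTproj f T) := MorphismProperty.pullback_snd _ _ ‹_›
  have hgen := exists_genericPt (PicF.XTproj f T)
  have hmem : ∀ η : ↥(PicF.XT f T), FlatFun.IsGenericPtOfFibre (PicF.XTproj f T) η → pullback.fst f T.hom η ∈ U := by
    intro η hη
    obtain ⟨x, hx, hxt⟩ := hT (PicF.XTproj f T η)
    obtain ⟨y, hy1, hy2⟩ := Scheme.Pullback.exists_preimage_pullback (f := f) (g := T.hom) x _ hxt
    exact (hη y hy2).mem_open (pullback.fst f T.hom ⁻¹ᵁ U).2 (show pullback.fst f T.hom y ∈ U from hy1 ▸ hx)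
  have hq : Coh.IsQCoh (FGA.ET f F T) := QC.isQCoh_pullback _ inferInstance
  constructor
  · intro h k hk i
    refine eq_zero_of_genericStalks (PicF.XTproj f T) hgen _ fun η hη hgη => ?_
    obtain ⟨x, hxt, hx, hfree⟩ := h (PicF.XTproj f T η)
    obtain rfl : x = η := ((hx η hxt.symm).antisymm (hgη x hxt)).eq
    obtain ⟨W, hxW, ⟨eW⟩⟩ := hfree
    obtain ⟨b⟩ := LocFree.exists_basis_stalk eW hq hxW
    exact (basis_pullback_iff F hU s hs (pullback.fst f T.hom) x hη).1 ⟨b.reindex Equiv.ulift⟩ k hk i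
  · intro h t
    obtain ⟨x, hxt, hx⟩ := hgen t
    refine ⟨x, hxt, hx, isFreeOfRankNear_of_stalks _ _ hq (ModDesc.isFT_pullback _ inferInstance hft) p
      (fun η hη => (basis_pullback_iff F hU s hs (pullback.fst f T.hom) η (hmem η hη)).2 fun k hk i => ?_) hgen x hx⟩
    rw [h k hk i, map_zero]

/-- Morphisms to an affine scheme factoring through a closed subscheme. -/
theorem factors_quotient_iff {B : CommRingCat.{u}} (J : Ideal B) {W : Scheme.{u}} (e : W ⟶ Spec B) :
    (∃ l, l ≫ Spec.map (CommRingCat.ofHom (Ideal.Quotient.mk J)) = e) ↔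
      ∀ b ∈ J, e.appTop ((Scheme.ΓSpecIso B).inv b) = 0 := by
  constructor
  · rintro ⟨l, rfl⟩ b hb
    have h := congrArg (fun m => m b) (Scheme.ΓSpecIso_inv_naturality (CommRingCat.ofHom (Ideal.Quotient.mk J)))
    simp only [CommRingCat.comp_apply] at h
    rw [Scheme.Hom.comp_appTop, CommRingCat.comp_apply]
    refine (congrArg l.appTop h.symm).trans ?_
    have h0 : (CommRingCat.ofHom (Ideal.Quotient.mk J)) b = 0 := Ideal.Quotient.eq_zero_iff_mem.2 hb
    rw [h0, map_zero, map_zero]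
  · intro h
    let φ := (Scheme.ΓSpecIso B).inv ≫ e.appTop
    refine ⟨W.toSpecΓ ≫ Spec.map (CommRingCat.ofHom (Ideal.Quotient.lift J φ.hom h)), ?_⟩
    rw [Category.assoc, ← Spec.map_comp,
      show CommRingCat.ofHom (Ideal.Quotient.mk J) ≫ CommRingCat.ofHom (Ideal.Quotient.lift J φ.hom h) = φ from rfl,
      Spec.map_comp, ← Scheme.toSpecΓ_naturality_assoc, toSpecΓ_SpecMap_ΓSpecIso_inv, Category.comp_id]

theorem appLE_of_eq {X P : Scheme.{u}} {φ ψ : P ⟶ X} (h : φ = ψ) {U : X.Opens} {W : P.Opens} (e : W ≤ φ ⁻¹ᵁ U) :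
    φ.appLE U W e = ψ.appLE U W (h ▸ e) := by
  subst h
  rfl

theorem appLE_comp_fromSpec {X W : Scheme.{u}} {U : X.Opens} (hU : IsAffineOpen U) (φ : W ⟶ Spec Γ(X, U))
    (e : (⊤ : W.Opens) ≤ (φ ≫ hU.fromSpec) ⁻¹ᵁ U) :
    (φ ≫ hU.fromSpec).appLE U ⊤ e = (Scheme.ΓSpecIso Γ(X, U)).inv ≫ φ.appTop := by
  rw [← Scheme.Hom.appLE_comp_appLE φ hU.fromSpec U ⊤ ⊤ (by rw [hU.fromSpec_preimage_self]) le_top,
    show hU.fromSpec.appLE U ⊤ (by rw [hU.fromSpec_preimage_self]) = (Scheme.ΓSpecIso Γ(X, U)).inv from ?_]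
  · exact congrArg (fun ψ => (Scheme.ΓSpecIso Γ(X, U)).inv ≫ ψ) (Scheme.Hom.appLE_eq_app φ (U := ⊤))
  · rw [Scheme.Hom.appLE, hU.fromSpec_app_self, Category.assoc, ← Functor.map_comp]
    exact (congrArg _ ((congrArg _ (Subsingleton.elim _ (𝟙 _))).trans (CategoryTheory.Functor.map_id _ _))).trans
      (Category.comp_id _)

/-- A section dies on an open subscheme covering the preimage iff it dies there. -/
theorem app_eq_zero_iff_of_range {X Y P : Scheme.{u}} (m : P ⟶ Y) [IsOpenImmersion m] (a : Y ⟶ X) {U : X.Opens}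
    (hr : Set.range m = a ⁻¹ᵁ U) (b : Γ(X, U)) (htop : (⊤ : P.Opens) ≤ (m ≫ a) ⁻¹ᵁ U) :
    a.app U b = 0 ↔ (m ≫ a).appLE U ⊤ htop b = 0 := by
  have hc : (m ≫ a).appLE U ⊤ htop b = P.presheaf.map (homOfLE htop).op (m.app (a ⁻¹ᵁ U) (a.app U b)) := rfl
  refine ⟨fun h => by rw [hc, h, map_zero, map_zero], fun h => ?_⟩
  rw [hc] at h
  refine TopCat.Presheaf.section_ext ⟨Y.presheaf, Y.IsSheaf⟩ _ _ _ fun y hy => ?_
  show Y.presheaf.germ _ y hy _ = Y.presheaf.germ _ y hy 0
  obtain ⟨w, rfl⟩ : y ∈ Set.range m := hr.ge hy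
  refine (ConcreteCategory.bijective_of_isIso (m.stalkMap w)).1 ?_
  rw [map_zero, map_zero, Scheme.Hom.germ_stalkMap_apply]
  exact (P.presheaf.germ_res_apply (homOfLE htop) w trivial _).symm.trans ((congrArg _ h).trans (map_zero _))

theorem geometricallyIntegral_resLE {V : S.Opens} {U : X.Opens} (e : U ≤ f ⁻¹ᵁ V)
    (hsurj : ∀ v ∈ V, ∃ x ∈ U, f x = v) : GeometricallyIntegral (f.resLE V U e) := by
  haveI := Rigid.geometricallyReduced_of_smooth f
  haveI := GeometricallyIntegral.of_geometricallyReduced_of_geometricallyIrreducible f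
  let g := f.resLE V U e
  have hg : g ≫ V.ι = U.ι ≫ f := f.resLE_comp_ι e
  haveI : Surjective g := ⟨fun v => by
    obtain ⟨x, hx, hxv⟩ := hsurj (V.ι v) v.2
    refine ⟨⟨x, hx⟩, V.ι.isOpenEmbedding.injective ?_⟩
    exact (congrArg (fun m : U.toScheme ⟶ S => m ⟨x, hx⟩) hg).trans hxv⟩
  refine ⟨fun K _ y Z p q h => ?_⟩
  let b := y ≫ V.ι
  haveI : IsIntegral (pullback f b) :=
    GeometricallyIntegral.geometrically_isIntegral (f := f) b _ _ (IsPullback.of_hasPullback f b)
  let m : pullback g y ⟶ pullback f b :=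
    pullback.map g y f b U.ι (𝟙 _) V.ι hg (Category.id_comp _).symm
  haveI : IsOpenImmersion m := by dsimp [m]; infer_instance
  haveI : Nonempty ↥(pullback g y) := by
    obtain ⟨v⟩ : Nonempty (Spec (CommRingCat.of K)) := inferInstanceAs (Nonempty (PrimeSpectrum K))
    obtain ⟨w, hw⟩ := (pullback.snd g y).surjective v
    exact ⟨w⟩
  haveI := isIntegral_of_isOpenImmersion m
  exact IsIntegral.of_isIso h.isoPullback.inv

/-- Representability of `H_p` over a chart. -/
theorem exists_reps_chart (hft : CohB1.IsFT F) {V : S.Opens} {U : X.Opens} (hU : IsAffineOpen U) (e : U ≤ f ⁻¹ᵁ V)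
    (hsurj : ∀ v ∈ V, ∃ x ∈ U, f x = v) {p : ℕ} (s : Fin p → Γ(F, U))
    (hs : Submodule.span Γ(X, U) (Set.range s) = ⊤) :
    ∃ J : V.toScheme.IdealSheafData,
      ClosedRep.Reps (fun T' h => FlatFun.FreeAtGenericPts (PicF.XTproj f (Over.mk (h ≫ V.ι)))
        (FGA.ET f F (Over.mk (h ≫ V.ι))) p) J ∧
      (CohB1.IsFP F → LocallyOfFinitePresentation J.subschemeι) := by
  haveI := geometricallyIntegral_resLE f e hsurj
  let g := f.resLE V U e
  have hg : g ≫ V.ι = U.ι ≫ f := f.resLE_comp_ι e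
  haveI : Flat g := by dsimp [g]; infer_instance
  haveI : LocallyOfFinitePresentation g := by dsimp [g]; infer_instance
  let π : (Fin p → Γ(X, U)) →ₗ[Γ(X, U)] Γ(F, U) := Fintype.linearCombination Γ(X, U) s
  let J : Ideal Γ(X, U) := ⨆ i, (LinearMap.ker π).map (LinearMap.proj i)
  let j : Spec (CommRingCat.of (Γ(X, U) ⧸ J)) ⟶ U.toScheme :=
    Spec.map (CommRingCat.ofHom (Ideal.Quotient.mk J)) ≫ hU.isoSpec.inv
  haveI : IsClosedImmersion (Spec.map (CommRingCat.ofHom (Ideal.Quotient.mk J))) :=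
    IsClosedImmersion.spec_of_surjective _ Ideal.Quotient.mk_surjective
  haveI : IsClosedImmersion j := inferInstanceAs (IsClosedImmersion (_ ≫ _))
  obtain ⟨Z, z, hz, hZ, hfp⟩ := ClosedRep.GeomIntegral.exists_weilRestriction_closed g j
  haveI := hz
  refine ⟨z.ker, fun T' h => ?_, fun hFP => ?_⟩
  · have hlift : ClosedRep.Reps (fun T'' a => ∃ l, l ≫ j = a) j.ker := fun T'' a => by
      rw [ClosedRep.comap_eq_bot_iff]
      refine ⟨?_, fun hle => ⟨IsClosedImmersion.lift j a hle, IsClosedImmersion.lift_fac _ _ _⟩⟩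
      rintro ⟨l, rfl⟩
      exact l.le_ker_comp j
    have hz' : z.ker.comap h = ⊥ ↔ ∃ l, l ≫ z = h := by
      rw [ClosedRep.comap_eq_bot_iff]
      refine ⟨fun hle => ⟨IsClosedImmersion.lift z h hle, IsClosedImmersion.lift_fac _ _ _⟩, ?_⟩
      rintro ⟨l, rfl⟩
      exact l.le_ker_comp z
    rw [hz', hZ T' h, ← hlift (pullback.fst g h)]
    beta_reduce
    rw [freeGen_iff_relations f F hft hU s hs (Over.mk (h ≫ V.ι)) (fun t => hsurj _ (h t).2)]
    let a := pullback.fst g h
    let m : pullback g h ⟶ pullback f (h ≫ V.ι) :=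
      pullback.map g h f (h ≫ V.ι) U.ι (𝟙 T') V.ι hg (Category.id_comp _).symm
    haveI : IsOpenImmersion m := by dsimp [m]; infer_instance
    have hm : m ≫ pullback.fst f (h ≫ V.ι) = a ≫ U.ι := pullback.lift_fst _ _ _
    have hr : Set.range m = (pullback.fst f (h ≫ V.ι) ⁻¹ᵁ U : Set _) := by
      ext y
      rw [Scheme.Pullback.range_map]
      simp
    have htop : (⊤ : (pullback g h).Opens) ≤ (m ≫ pullback.fst f (h ≫ V.ι)) ⁻¹ᵁ U := by
      intro w _
      show (m ≫ pullback.fst f (h ≫ V.ι)) w ∈ U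
      rw [hm]
      exact (a w).2
    have key : ∀ b : Γ(X, U), (pullback.fst f (h ≫ V.ι)).app U b = 0 ↔
        (a ≫ hU.isoSpec.hom).appTop ((Scheme.ΓSpecIso Γ(X, U)).inv b) = 0 := by
      intro b
      rw [app_eq_zero_iff_of_range m _ hr b htop]
      have hm' : m ≫ pullback.fst f (h ≫ V.ι) = (a ≫ hU.isoSpec.hom) ≫ hU.fromSpec := by
        rw [hm, Category.assoc, hU.isoSpec_hom_fromSpec]
      refine Eq.congr_left ?_
      have : (m ≫ pullback.fst f (h ≫ V.ι)).appLE U ⊤ htop =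
          (Scheme.ΓSpecIso Γ(X, U)).inv ≫ (a ≫ hU.isoSpec.hom).appTop := by
        rw [appLE_of_eq hm' htop]
        exact appLE_comp_fromSpec hU _ _
      exact congrArg (fun φ => φ b) this
    have hlift' : (∃ l, l ≫ j = a) ↔ ∃ l, l ≫ Spec.map (CommRingCat.ofHom (Ideal.Quotient.mk J)) = a ≫ hU.isoSpec.hom := by
      refine exists_congr fun l => ?_
      rw [← Iso.comp_inv_eq, Category.assoc]
    rw [hlift', factors_quotient_iff]
    refine ⟨fun hk b hb => ?_, fun hb k hk i => ?_⟩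
    · rw [← key]
      have hJ : J ≤ RingHom.ker ((pullback.fst f (h ≫ V.ι)).app U).hom := by
        refine iSup_le fun i => ?_
        rintro _ ⟨k, hk', rfl⟩
        exact hk k (by rwa [SetLike.mem_coe, LinearMap.mem_ker, Fintype.linearCombination_apply] at hk') i
      exact hJ hb
    · refine (key _).2 (hb _ (Ideal.mem_iSup_of_mem i ⟨k, ?_, rfl⟩))
      rwa [SetLike.mem_coe, LinearMap.mem_ker, Fintype.linearCombination_apply]
  · haveI := LocFree.finitePresentation_sections_of_isFP (M := F) inferInstance hFP hU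
    have hπ : Function.Surjective π := by
      rw [← LinearMap.range_eq_top, Fintype.range_linearCombination, hs]
    have hJ : J.FG := Submodule.fg_iSup _ fun i => (Module.FinitePresentation.fg_ker π hπ).map _
    haveI : LocallyOfFinitePresentation (Spec.map (CommRingCat.ofHom (Ideal.Quotient.mk J))) := by
      rw [HasRingHomProperty.Spec_iff (P := @LocallyOfFinitePresentation), CommRingCat.hom_ofHom]
      exact RingHom.FinitePresentation.of_surjective _ Ideal.Quotient.mk_surjective (by rwa [Ideal.mk_ker])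
    haveI : LocallyOfFinitePresentation j := inferInstanceAs (LocallyOfFinitePresentation (_ ≫ _))
    haveI := hfp inferInstance
    exact ClosedRep.lfp_ker_subschemeι z

end Groth.Agent.FlatFunLib
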