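import Mathlib
import Groth.Agent.FlatFunLib.GenPts
import Groth.Agent.SpRelDim.Trdeg
import Groth.Agent.LocalDimBC.Smooth
import Groth.Agent.FibCrit.Scheme
import Groth.Agent.Rigid.Smooth

/-!
Transcendence degrees at generic and non-generic points of fibres of a smooth morphism.
-/

set_option autoImplicit false
set_option linter.style.haveILetI false
set_option backward.isDefEq.respectTransparency false

universe u

open CategoryTheory CategoryTheory.Limits AlgebraicGeometry IsLocalRing

namespace Groth.Agent.FlatFunLib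

variable {X T : Scheme.{u}}

theorem specializes_asFiber_iff (q : X ⟶ T) {x : X} (y : ↥(q.fiber (q x))) :
    y ⤳ q.asFiber x ↔ q.fiberι (q x) y ⤳ x := by
  rw [← (q.fiberι (q x)).isEmbedding.isInducing.specializes_iff, q.fiberι_asFiber x]

/-- The local ring of the fibre at its generic point has a single prime. -/
theorem subsingleton_spec_fibre_stalk (q : X ⟶ T) {η : X} (hη : FlatFun.IsGenericPtOfFibre q η) :
    Subsingleton (PrimeSpectrum ((q.fiber (q η)).presheaf.stalk (q.asFiber η))) := by
  refine ⟨fun a b => ((q.fiber (q η)).fromSpecStalk (q.asFiber η)).isEmbedding.injective ?_⟩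
  have key : ∀ c, (q.fiber (q η)).fromSpecStalk (q.asFiber η) c = q.asFiber η := by
    intro c
    have h1 : (q.fiber (q η)).fromSpecStalk (q.asFiber η) c ⤳ q.asFiber η :=
      Scheme.range_fromSpecStalk.le ⟨c, rfl⟩
    have h2 := (specializes_asFiber_iff q _).1 h1
    have h3 := hη (q.fiberι (q η) ((q.fiber (q η)).fromSpecStalk (q.asFiber η) c)) ((q.range_fiberι (q η)).le ⟨_, rfl⟩)
    apply (q.fiberι (q η)).isEmbedding.injective
    rw [q.fiberι_asFiber η]
    exact (h2.antisymm h3).eq
  rw [key, key]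

theorem resTrdeg_genericPt (d : ℕ) (q : X ⟶ T) [SmoothOfRelativeDimension d q] {η : X}
    (hη : FlatFun.IsGenericPtOfFibre q η) : Dual3.resTrdeg q η = (d : Cardinal.{u}) := by
  haveI : Smooth q := SmoothOfRelativeDimension.smooth d q
  obtain ⟨b, δ, hb, hδ, hd⟩ := SpRelDim.fibreDimAt_eq_add_resTrdeg q η
  rw [LocalDimBC.fibreDimAt_of_smoothOfRelativeDimension d q η] at hd
  haveI := subsingleton_spec_fibre_stalk q hη
  have hb0 : b = 0 := by
    have h0 : ringKrullDim ((q.fiber (q η)).presheaf.stalk (q.asFiber η)) = 0 := Order.krullDim_eq_zero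
    have := hb.symm.trans h0
    exact_mod_cast this
  subst hb0
  rw [hδ]
  have : d = δ := by
    have h : ((d : ℕ) : WithBot ℕ∞) = ((δ : ℕ) : WithBot ℕ∞) := by simpa using hd
    exact_mod_cast h
  rw [this]

theorem isGenericPt_of_le_resTrdeg (d : ℕ) (q : X ⟶ T) [SmoothOfRelativeDimension d q] [GeometricallyIrreducible q]
    {x : X} (hx : (d : Cardinal.{u}) ≤ Dual3.resTrdeg q x) : FlatFun.IsGenericPtOfFibre q x := by
  haveI : Smooth q := SmoothOfRelativeDimension.smooth d q
  obtain ⟨η, hηx, hη⟩ := exists_genericPt q (q x)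
  obtain ⟨b, δ, hb, hδ, hd⟩ := SpRelDim.fibreDimAt_eq_add_resTrdeg q x
  rw [LocalDimBC.fibreDimAt_of_smoothOfRelativeDimension d q x] at hd
  have hdb : d = b + δ := by exact_mod_cast hd
  rw [hδ, Nat.cast_le] at hx
  have hb0 : b = 0 := by omega
  subst hb0
  let R := (q.fiber (q x)).presheaf.stalk (q.asFiber x)
  haveI : Ring.KrullDimLE 0 R := Ring.krullDimLE_iff.2 hb.le
  haveI : Subsingleton (PrimeSpectrum R) := ⟨fun a c => PrimeSpectrum.ext
    ((IsLocalRing.eq_maximalIdeal (Ideal.IsPrime.isMaximal' (I := a.asIdeal) inferInstance)).trans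
      (IsLocalRing.eq_maximalIdeal (Ideal.IsPrime.isMaximal' (I := c.asIdeal) inferInstance)).symm)⟩
  obtain ⟨y, rfl⟩ : η ∈ Set.range (q.fiberι (q x)) := (q.range_fiberι (q x)).ge hηx
  have hy : y ⤳ q.asFiber x := (specializes_asFiber_iff q y).2 (hη x hηx.symm)
  obtain ⟨a, ha⟩ := Scheme.range_fromSpecStalk.ge hy
  have : y = q.asFiber x := by
    rw [← ha, show a = IsLocalRing.closedPoint R from Subsingleton.elim (α := PrimeSpectrum R) _ _,
      Scheme.fromSpecStalk_closedPoint]
  rw [this, q.fiberι_asFiber x] at hη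
  exact hη

/-- The local ring at a generic point of a fibre is a field modulo the maximal ideal of the base. -/
theorem isField_quotient_genericPt (q : X ⟶ T) [Smooth q] {η : X} (hη : FlatFun.IsGenericPtOfFibre q η) :
    IsField (X.presheaf.stalk η ⧸ (maximalIdeal (T.presheaf.stalk (q η))).map (q.stalkMap η).hom) := by
  haveI := Rigid.geometricallyReduced_of_smooth q
  haveI : IsReduced (q.fiber (q η)) :=
    GeometricallyReduced.geometrically_isReduced (f := q) (T.fromSpecResidueField (q η)) _ _ (IsPullback.of_hasPullback _ _)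
  let R := (q.fiber (q η)).presheaf.stalk (q.asFiber η)
  haveI := subsingleton_spec_fibre_stalk q hη
  have hR : IsField R := by
    refine IsLocalRing.isField_iff_maximalIdeal_eq.2 (eq_bot_iff.2 fun a ha => ?_)
    refine IsReduced.eq_zero _ (mem_nilradical.1 ?_)
    rw [nilradical_eq_sInf, Ideal.mem_sInf]
    intro P hP
    rwa [show P = maximalIdeal R from congrArg PrimeSpectrum.asIdeal
      (Subsingleton.elim (⟨P, hP⟩ : PrimeSpectrum R) (IsLocalRing.closedPoint R))]
  obtain ⟨-, hk, hs⟩ := FibCrit.ker_stalkCongr_comp q (q η) (q.asFiber η) η (q.fiberι_asFiber η)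
  exact MulEquiv.isField hR
    ((Ideal.quotEquivOfEq hk.symm).trans (RingHom.quotientKerEquivOfSurjective hs)).toMulEquiv

end Groth.Agent.FlatFunLib
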