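import Mathlib
import Groth.Agent.FlatSpread.Model

/-!
Noetherian models of a finitely presented algebra, module and ideal.
-/

set_option autoImplicit false
set_option linter.style.haveILetI false
set_option backward.isDefEq.respectTransparency false

universe u

open TensorProduct MvPolynomial

namespace Groth.Agent.FlatFunLib

variable {A B N : Type u} [CommRing A] [CommRing B] [Algebra A B] [AddCommGroup N] [Module B N]

/-- A finitely presented module with relations from a subring is a base change. -/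
theorem exists_equiv_of_relations {B₀ : Type u} [CommRing B₀] [Algebra B₀ B] {m : ℕ}
    (π : (Fin m → B) →ₗ[B] N) (hπ : Function.Surjective π) (R₀ : Set (Fin m → B₀))
    (hker : Submodule.span B ((fun v i => algebraMap B₀ B (v i)) '' R₀) = LinearMap.ker π) :
    Nonempty ((B ⊗[B₀] ((Fin m → B₀) ⧸ Submodule.span B₀ R₀)) ≃ₗ[B] N) := by
  classical
  let W₀ := Submodule.span B₀ R₀
  letI : Module B₀ N := Module.compHom N (algebraMap B₀ B)
  haveI : IsScalarTower B₀ B N := IsScalarTower.of_algebraMap_smul fun _ _ => rfl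
  let φ₀ : (Fin m → B₀) →ₗ[B₀] N :=
    (π.restrictScalars B₀).comp ((Algebra.linearMap B₀ B).compLeft (Fin m))
  have hφ₀ : W₀ ≤ LinearMap.ker φ₀ := Submodule.span_le.2 fun v hv => by
    have : (fun i => algebraMap B₀ B (v i)) ∈ LinearMap.ker π := hker ▸ Submodule.subset_span ⟨v, hv, rfl⟩
    exact this
  let Φ : B ⊗[B₀] ((Fin m → B₀) ⧸ W₀) →ₗ[B] N := (W₀.liftQ φ₀ hφ₀).liftBaseChange B
  let ψ : (Fin m → B) →ₗ[B] B ⊗[B₀] ((Fin m → B₀) ⧸ W₀) :=
    (Pi.basisFun B (Fin m)).constr B fun i => (1 : B) ⊗ₜ W₀.mkQ (Pi.single i 1)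
  have hψ : ∀ v : Fin m → B₀, ψ (fun i => algebraMap B₀ B (v i)) = (1 : B) ⊗ₜ W₀.mkQ v := by
    intro v
    conv_rhs => rw [← Finset.univ_sum_single v, map_sum, tmul_sum]
    rw [Module.Basis.constr_apply_fintype]
    refine Finset.sum_congr rfl fun i _ => ?_
    have h1 : (Pi.single i (v i) : Fin m → B₀) = v i • Pi.single i 1 := by
      rw [← Pi.single_smul, smul_eq_mul, mul_one]
    rw [h1, map_smul, ← smul_tmul, Algebra.smul_def, mul_one]
    simp [smul_tmul', smul_eq_mul, Algebra.smul_def]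
  have hΦψ : Φ.comp ψ = π := (Pi.basisFun B (Fin m)).ext fun i => by
    rw [LinearMap.comp_apply, Module.Basis.constr_basis]
    simp only [Φ, LinearMap.liftBaseChange_tmul, one_smul, Submodule.mkQ_apply, Submodule.liftQ_apply, φ₀,
      LinearMap.comp_apply, LinearMap.restrictScalars_apply, Pi.basisFun_apply]
    congr 1
    funext j
    by_cases h : j = i
    · subst h; simp
    · simp [Pi.single_eq_of_ne h]
  have hψk : LinearMap.ker π ≤ LinearMap.ker ψ := by
    rw [← hker, Submodule.span_le]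
    rintro _ ⟨v, hv, rfl⟩
    rw [SetLike.mem_coe, LinearMap.mem_ker, hψ, Submodule.mkQ_apply,
      (Submodule.Quotient.mk_eq_zero W₀).2 (Submodule.subset_span hv), tmul_zero]
  have hsurj : Function.Surjective ψ := by
    intro z
    induction z using TensorProduct.induction_on with
    | zero => exact ⟨0, map_zero _⟩
    | tmul b q =>
      obtain ⟨v, rfl⟩ := W₀.mkQ_surjective q
      exact ⟨b • fun i => algebraMap B₀ B (v i), by rw [map_smul, hψ, smul_tmul', smul_eq_mul, mul_one]⟩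
    | add a b ha hb =>
      obtain ⟨x, rfl⟩ := ha
      obtain ⟨y, rfl⟩ := hb
      exact ⟨x + y, map_add _ _ _⟩
  refine ⟨LinearEquiv.ofBijective Φ ⟨?_, fun y => ?_⟩⟩
  · rw [injective_iff_map_eq_zero]
    intro z hz
    obtain ⟨v, rfl⟩ := hsurj z
    exact hψk (show π v = 0 by rw [← hΦψ]; exact hz)
  · obtain ⟨v, rfl⟩ := hπ y
    exact ⟨ψ v, by rw [← hΦψ]; rfl⟩

/-- The model over a given ring of coefficients. -/
theorem exists_model_over (A₀ : Type u) [CommRing A₀] [Algebra A₀ A] {n m : ℕ} (π : MvPolynomial (Fin n) A →ₐ[A] B)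
    (lift : B → MvPolynomial (Fin n) A) (hlift : ∀ b, π (lift b) = b) (K : Finset (MvPolynomial (Fin n) A))
    (hK : Ideal.span (K : Set (MvPolynomial (Fin n) A)) = RingHom.ker π.toRingHom)
    (ρ : (Fin m → B) →ₗ[B] N) (hρ : Function.Surjective ρ) (T : Finset (Fin m → B))
    (hT : Submodule.span B (T : Set (Fin m → B)) = LinearMap.ker ρ) (G : Finset B)
    (d : MvPolynomial (Fin n) A → MvPolynomial (Fin n) A₀)
    (hdK : ∀ k ∈ K, MvPolynomial.map (algebraMap A₀ A) (d k) = k)
    (hdT : ∀ t ∈ T, ∀ i, MvPolynomial.map (algebraMap A₀ A) (d (lift (t i))) = lift (t i))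
    (hdG : ∀ g ∈ G, MvPolynomial.map (algebraMap A₀ A) (d (lift g)) = lift g) :
    ∃ (B₀ : Type u) (_ : CommRing B₀)
      (_ : Algebra A₀ B₀) (_ : Algebra B₀ B) (_ : Algebra A₀ B) (_ : IsScalarTower A₀ A B)
      (_ : IsScalarTower A₀ B₀ B) (_ : Algebra.IsPushout A₀ A B₀ B) (_ : Algebra.FiniteType A₀ B₀)
      (N₀ : Type u) (_ : AddCommGroup N₀) (_ : Module B₀ N₀) (_ : Module A₀ N₀) (_ : IsScalarTower A₀ B₀ N₀)
      (_ : Module.Finite B₀ N₀) (I₀ : Ideal B₀),
      Nonempty (B ⊗[B₀] N₀ ≃ₗ[B] N) ∧ I₀.map (algebraMap B₀ B) = Ideal.span (G : Set B) := by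
  classical
  let J₀ : Ideal (MvPolynomial (Fin n) A₀) := Ideal.span (d '' (K : Set (MvPolynomial (Fin n) A)))
  have hmap : J₀.map (MvPolynomial.map (algebraMap A₀ A)) = RingHom.ker π.toRingHom := by
    rw [Ideal.map_span, ← hK, Set.image_image]
    exact congrArg Ideal.span ((Set.image_congr fun k hk => hdK k hk).trans (Set.image_id' _))
  let B₀ := MvPolynomial (Fin n) A₀ ⧸ J₀
  let θ : B₀ →+* B := Ideal.Quotient.lift J₀ (π.toRingHom.comp (MvPolynomial.map (algebraMap A₀ A))) fun x hx =>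
    RingHom.mem_ker.1 ((le_of_eq hmap) (Ideal.mem_map_of_mem _ hx))
  letI : Algebra B₀ B := θ.toAlgebra
  letI : Algebra A₀ B := ((algebraMap A B).comp (algebraMap A₀ A)).toAlgebra
  haveI : IsScalarTower A₀ A B := IsScalarTower.of_algebraMap_eq fun _ => rfl
  haveI : IsScalarTower A₀ B₀ B := IsScalarTower.of_algebraMap_eq (R := A₀) (S := B₀) (A := B) fun a => by
    show _ = π (MvPolynomial.map _ (MvPolynomial.C a))
    rw [MvPolynomial.map_C]
    exact (π.commutes _).symm
  haveI : Algebra.IsPushout A₀ A B₀ B :=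
    FlatSpread.isPushout_model π (fun b => ⟨lift b, hlift b⟩) J₀ hmap fun _ => rfl
  have hb : ∀ b : B, MvPolynomial.map (algebraMap A₀ A) (d (lift b)) = lift b →
      algebraMap B₀ B (Ideal.Quotient.mk J₀ (d (lift b))) = b := fun b hb => by
    show π (MvPolynomial.map _ (d (lift b))) = b
    rw [hb, hlift]
  let R₀ : Set (Fin m → B₀) := (fun t i => Ideal.Quotient.mk J₀ (d (lift (t i)))) '' (T : Set (Fin m → B))
  have hR : Submodule.span B ((fun v i => algebraMap B₀ B (v i)) '' R₀) = LinearMap.ker ρ := by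
    rw [Set.image_image, ← hT]
    congr 1
    exact (Set.image_congr fun t ht => funext fun i => hb _ (hdT t ht i)).trans (Set.image_id' _)
  refine ⟨B₀, inferInstance, inferInstance, inferInstance, inferInstance, inferInstance, inferInstance, inferInstance,
    inferInstance, (Fin m → B₀) ⧸ Submodule.span B₀ R₀, inferInstance, inferInstance, inferInstance, inferInstance,
    inferInstance, Ideal.span ((fun g => Ideal.Quotient.mk J₀ (d (lift g))) '' (G : Set B)),
    exists_equiv_of_relations ρ hρ R₀ hR, ?_⟩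
  rw [Ideal.map_span, Set.image_image]
  congr 1
  exact (Set.image_congr fun g hg => hb _ (hdG g hg)).trans (Set.image_id' _)

/-- A finitely presented algebra, module and finitely generated ideal come from a noetherian base. -/
theorem exists_model_ideal [Algebra.FinitePresentation A B] [Module.FinitePresentation B N] (G : Finset B) :
    ∃ (A₀ : Type u) (_ : CommRing A₀) (_ : IsNoetherianRing A₀) (_ : Algebra A₀ A) (B₀ : Type u) (_ : CommRing B₀)
      (_ : Algebra A₀ B₀) (_ : Algebra B₀ B) (_ : Algebra A₀ B) (_ : IsScalarTower A₀ A B)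
      (_ : IsScalarTower A₀ B₀ B) (_ : Algebra.IsPushout A₀ A B₀ B) (_ : Algebra.FiniteType A₀ B₀)
      (N₀ : Type u) (_ : AddCommGroup N₀) (_ : Module B₀ N₀) (_ : Module A₀ N₀) (_ : IsScalarTower A₀ B₀ N₀)
      (_ : Module.Finite B₀ N₀) (I₀ : Ideal B₀),
      Nonempty (B ⊗[B₀] N₀ ≃ₗ[B] N) ∧ I₀.map (algebraMap B₀ B) = Ideal.span (G : Set B) := by
  classical
  obtain ⟨n, π, hπ, ⟨K, hK⟩⟩ := Algebra.FinitePresentation.out (R := A) (A := B)
  obtain ⟨m, ρ, hρ⟩ := Module.Finite.exists_fin' B N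
  obtain ⟨T, hT⟩ := Module.FinitePresentation.fg_ker ρ hρ
  choose lift hlift using hπ
  let P : Finset (MvPolynomial (Fin n) A) :=
    K ∪ (T ×ˢ (Finset.univ : Finset (Fin m))).image (fun p => lift (p.1 p.2)) ∪ G.image lift
  let S : Finset A := P.biUnion MvPolynomial.coeffs
  obtain ⟨A₀, hA₀⟩ : ∃ A₀ : Subalgebra ℤ A, A₀ = Algebra.adjoin ℤ (S : Set A) := ⟨_, rfl⟩
  haveI : Algebra.FiniteType ℤ A₀ := (Subalgebra.fg_iff_finiteType A₀).1 ⟨S, hA₀.symm⟩
  haveI : IsNoetherianRing A₀ := Algebra.FiniteType.isNoetherianRing ℤ A₀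
  have hP : ∀ p ∈ P, p ∈ Set.range (MvPolynomial.map (σ := Fin n) (algebraMap A₀ A)) := by
    intro p hp
    rw [MvPolynomial.mem_range_map_iff_coeffs_subset]
    intro c hc
    exact ⟨⟨c, hA₀ ▸ Algebra.subset_adjoin (Finset.mem_biUnion.2 ⟨p, hp, hc⟩)⟩, rfl⟩
  choose! d hd using hP
  exact ⟨A₀, inferInstance, inferInstance, inferInstance, exists_model_over A₀ π lift hlift K hK ρ hρ T hT G d
    (fun k hk => hd k (Finset.mem_union_left _ (Finset.mem_union_left _ hk)))
    (fun t ht i => hd _ (Finset.mem_union_left _ (Finset.mem_union_right _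
      (Finset.mem_image.2 ⟨(t, i), by simpa using ht, rfl⟩))))
    (fun g hg => hd _ (Finset.mem_union_right _ (Finset.mem_image_of_mem lift hg)))⟩

end Groth.Agent.FlatFunLib
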