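import Groth.Agent.FlatFunLib.RelAssGenericSch
import Groth.Agent.FlatFunLib.RelAssModel
import Groth.Agent.EtCons.NoethCons
import Groth.Agent.LocFree.Props

/-!
Constructibility of the locus where the associated points of fibres lie in an open.
-/

set_option autoImplicit false
set_option linter.style.haveILetI false
set_option backward.isDefEq.respectTransparency false

universe u

open CategoryTheory CategoryTheory.Limits AlgebraicGeometry Opposite TensorProduct Topology PrimeSpectrum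
open Groth.Agent.RG Groth.Agent.RG.Pure

namespace Groth.Agent.FlatFunLib

section Algebra

variable {A B N : Type u} [CommRing A] [CommRing B] [Algebra A B] [AddCommGroup N] [Module B N] [Module A N]
  [IsScalarTower A B N]

variable (A N) in
/-- the primes of the base over which the associated points avoid `V(I)` -/
def avoidSet (I : Ideal B) : Set (PrimeSpectrum A) := {p | ∀ σ ∈ assPts A B N p.asIdeal, ¬ I ≤ σ}

theorem isConstructible_avoid_noetherian [IsNoetherianRing A] [Algebra.FiniteType A B] [Module.Finite B N]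
    (I : Ideal B) : IsConstructible (avoidSet A N I) := by
  suffices h : ∀ J : Ideal A, IsConstructible (avoidSet A N I ∩ zeroLocus (J : Set A)) by
    simpa [zeroLocus_bot] using h ⊥
  intro J
  induction J using WellFoundedGT.induction with
  | ind J ih =>
    by_cases hJ : J = ⊤
    · subst hJ
      rw [Submodule.top_coe, zeroLocus_univ, Set.inter_empty]
      exact IsConstructible.empty
    have hlt : ∀ c, c ∉ J → J < J ⊔ Ideal.span {c} := fun c hc =>
      left_lt_sup.2 fun h => hc (h (Ideal.mem_span_singleton_self c))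
    by_cases hp : J.IsPrime
    · obtain ⟨a, ha, hap⟩ := avoid_near_prime (A := A) (B := B) (N := N) I J
      have hs : IsConstructible (avoidSet A N I ∩ (zeroLocus (J : Set A) ∩ (basicOpen a : Set (PrimeSpectrum A)))) := by
        by_cases hJI : ∀ σ ∈ assPts A B N J, ¬ I ≤ σ
        · rw [Set.inter_eq_right.2 (show zeroLocus (J : Set A) ∩ (basicOpen a : Set (PrimeSpectrum A)) ⊆ avoidSet A N I from
            fun q hq => (hap q.asIdeal hq.1 hq.2).2 hJI)]
          exact EtCons.isConstructible_of_lc ((isClosed_zeroLocus _).isLocallyClosed.inter (basicOpen a).isOpen.isLocallyClosed)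
        · rw [show avoidSet A N I ∩ _ = ∅ from Set.disjoint_iff_inter_eq_empty.1
            (Set.disjoint_left.2 fun q h1 hq => hJI ((hap q.asIdeal hq.1 hq.2).1 h1))]
          exact IsConstructible.empty
      convert hs.union (ih _ (hlt a ha)) using 1
      rw [zeroLocus_sup, zeroLocus_span, basicOpen_eq_zeroLocus_compl]
      ext x
      simp only [Set.mem_inter_iff, Set.mem_union, Set.mem_compl_iff]
      tauto
    · obtain ⟨a, b, hab, ha, hb⟩ : ∃ a b, a * b ∈ J ∧ a ∉ J ∧ b ∉ J := by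
        by_contra h
        push Not at h
        exact hp ⟨hJ, fun {a b} hab => or_iff_not_imp_left.2 (h a b hab)⟩
      convert (ih _ (hlt a ha)).union (ih _ (hlt b hb)) using 1
      simp only [zeroLocus_sup, zeroLocus_span]
      ext x
      simp only [Set.mem_inter_iff, Set.mem_union]
      refine ⟨fun ⟨h1, h2⟩ => ?_, by tauto⟩
      rcases x.isPrime.mem_or_mem (h2 hab) with h4 | h4
      · exact Or.inl ⟨h1, h2, Set.singleton_subset_iff.2 h4⟩
      · exact Or.inr ⟨h1, h2, Set.singleton_subset_iff.2 h4⟩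

theorem isConstructible_avoid [Algebra.FinitePresentation A B] [Module.FinitePresentation B N] (G : Finset B) :
    IsConstructible (avoidSet A N (Ideal.span (G : Set B))) := by
  obtain ⟨A₀, _, _, _, B₀, _, _, _, _, _, _, _, _, N₀, _, _, _, _, _, I₀, ⟨l⟩, hI⟩ :=
    exists_model_ideal (A := A) (N := N) G
  obtain ⟨S, hS⟩ := exists_constructibleSetData_iff.2 (isConstructible_avoid_noetherian (A := A₀) (N := N₀) I₀)
  have e : avoidSet A N (Ideal.span (G : Set B)) = (S.map (algebraMap A₀ A)).toSet := by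
    rw [ConstructibleSetData.toSet_map, hS]
    ext p
    show (∀ σ ∈ assPts A B N p.asIdeal, _) ↔ _
    rw [← hI]
    exact (avoid_iff_baseChange (A := A₀) (B := B₀) (C := A) (B' := B) l I₀ _ p.asIdeal rfl).symm
  rw [e]
  exact ConstructibleSetData.isConstructible_toSet _

end Algebra

variable {X Y : Scheme.{u}}

theorem isCompact_inter_chart (f : X ⟶ Y) [QuasiSeparated f] (U : X.Opens) [QuasiCompact (U.ι ≫ f)] {V : Y.Opens}
    (hV : IsAffineOpen V) {W : X.Opens} (hW : IsAffineOpen W) (e : W ≤ f ⁻¹ᵁ V) :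
    IsCompact ((U : Set X) ∩ W) := by
  have h1 : IsCompact (U.ι '' ((U.ι ≫ f) ⁻¹' (V : Set Y))) :=
    ((U.ι ≫ f).isCompact_preimage hV.isCompact).image U.ι.continuous
  have h2 : U.ι '' ((U.ι ≫ f) ⁻¹' (V : Set Y)) = (U : Set X) ∩ f ⁻¹' (V : Set Y) := by
    ext x
    constructor
    · rintro ⟨v, hv, rfl⟩
      exact ⟨v.2, hv⟩
    · exact fun hx => ⟨⟨x, hx.1⟩, hx.2, rfl⟩
  rw [h2] at h1
  have h3 := f.isQuasiSeparated_preimage hV.isQuasiSeparated _ _ Set.inter_subset_right
    (U.isOpen.inter (f ⁻¹ᵁ V).isOpen) h1 e W.isOpen hW.isCompact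
  rwa [Set.inter_assoc, Set.inter_eq_right.2 (show (W : Set X) ⊆ ((f ⁻¹ᵁ V : X.Opens) : Set X) from e)] at h3

theorem exists_finset_notMem_iff {W : X.Opens} (hW : IsAffineOpen W) (U : X.Opens)
    (hU : IsCompact ((U : Set X) ∩ W)) :
    ∃ G : Finset Γ(X, W), ∀ (x : X) (hx : x ∈ W),
      x ∉ U ↔ Ideal.span (G : Set Γ(X, W)) ≤ (hW.primeIdealOf ⟨x, hx⟩).asIdeal := by
  have hc : IsCompact (hW.fromSpec ⁻¹' (U : Set X)) := by
    rw [hW.fromSpec.isOpenEmbedding.isInducing.isCompact_iff, Set.image_preimage_eq_inter_range, hW.range_fromSpec]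
    exact hU
  obtain ⟨G, hG⟩ := PrimeSpectrum.isCompact_isOpen_iff.1 ⟨hc, U.isOpen.preimage hW.fromSpec.continuous⟩
  refine ⟨G, fun x hx => ?_⟩
  have h1 : hW.primeIdealOf ⟨x, hx⟩ ∈ hW.fromSpec ⁻¹' (U : Set X) ↔ x ∈ U := by
    rw [Set.mem_preimage, hW.fromSpec_primeIdealOf]
    rfl
  rw [← h1, ← hG, Set.mem_compl_iff, not_not, mem_zeroLocus, Ideal.span_le]

/-- The locus where the associated points of the fibre lie in an open is locally constructible. -/
theorem isLocallyConstructible_avoid (f : X ⟶ Y) [LocallyOfFinitePresentation f] [QuasiCompact f] [QuasiSeparated f]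
    (F : X.Modules) (hq : Coh.IsQCoh F) (hfp : CohB1.IsFP F) (hft : CohB1.IsFT F) (U : X.Opens)
    [QuasiCompact (U.ι ≫ f)] :
    IsLocallyConstructible {y : Y | ∀ x ∈ MoreMor.relAss f F, f x = y → x ∈ U} := by
  intro y₀
  obtain ⟨V, hV, hy₀, -⟩ := exists_isAffineOpen_mem_and_subset (X := Y) (x := y₀) (U := ⊤) trivial
  obtain ⟨T, hT, hcov⟩ := (f.isCompact_preimage hV.isCompact).elim_finite_subcover_image
    (b := {W : X.Opens | IsAffineOpen W ∧ W ≤ f ⁻¹ᵁ V}) (c := fun W => (W : Set X)) (fun W _ => W.isOpen)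
    (fun x hx => by
      obtain ⟨W, hW, hxW, hle⟩ := exists_isAffineOpen_mem_and_subset (X := X) (x := x) (U := f ⁻¹ᵁ V) hx
      exact Set.mem_biUnion (show W ∈ {W : X.Opens | IsAffineOpen W ∧ W ≤ f ⁻¹ᵁ V} from ⟨hW, hle⟩) hxW)
  haveI := hcov.1.to_subtype
  haveI := Fintype.ofFinite T
  let E : T → Set (PrimeSpectrum Γ(Y, V)) := fun W =>
    {p | ∀ x ∈ MoreMor.relAss f F, x ∈ W.1 → f x = hV.fromSpec p → x ∈ U}
  have hE : ∀ W, IsLocallyConstructible (E W) := by
    rintro ⟨W, hWT⟩
    obtain ⟨hW, e⟩ := hT hWT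
    letI : Algebra Γ(Y, V) Γ(X, W) := (f.appLE V W e).hom.toAlgebra
    letI : Module Γ(Y, V) Γ(F, W) := Module.compHom Γ(F, W) (f.appLE V W e).hom
    haveI : IsScalarTower Γ(Y, V) Γ(X, W) Γ(F, W) := IsScalarTower.of_algebraMap_smul fun _ _ => rfl
    haveI : Algebra.FinitePresentation Γ(Y, V) Γ(X, W) := f.finitePresentation_appLE hV hW e
    haveI := LocFree.finitePresentation_sections_of_isFP hq hfp hW
    obtain ⟨G, hG⟩ := exists_finset_notMem_iff hW U (isCompact_inter_chart f U hV hW e)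
    have e' : E ⟨W, hWT⟩ = avoidSet Γ(Y, V) Γ(F, W) (Ideal.span (G : Set Γ(X, W))) := by
      ext p
      obtain ⟨hp, hp'⟩ := InjFibre.primeIdealOf_fromSpec hV p
      refine (avoid_chart_iff f F hq hft U hV hW e _ hG (hV.fromSpec p) hp).trans ?_
      rw [hp']
      rfl
    rw [e']
    exact (isConstructible_avoid G).isLocallyConstructible
  refine ⟨V, V.isOpen.mem_nhds hy₀, V.isOpen, ?_⟩
  let s : (V : Set Y) ≃ₜ PrimeSpectrum Γ(Y, V) := hV.isoSpec.hom.homeomorph
  have key : Subtype.val ⁻¹' {y : Y | ∀ x ∈ MoreMor.relAss f F, f x = y → x ∈ U} = s ⁻¹' ⋂ W : T, E W := by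
    ext ⟨y, hy⟩
    have hs : hV.fromSpec (s ⟨y, hy⟩) = y := hV.fromSpec_primeIdealOf ⟨y, hy⟩
    simp only [Set.mem_preimage, Set.mem_iInter, Set.mem_setOf_eq, E, hs]
    refine ⟨fun h W x hx _ he => h x hx he, fun h x hx he => ?_⟩
    obtain ⟨W, hWT, hxW⟩ := Set.mem_iUnion₂.1 (hcov.2 (show f x ∈ V by rw [he]; exact hy : x ∈ (f ⁻¹ᵁ V)))
    exact h ⟨W, hWT⟩ x hx hxW he
  rw [key]
  exact (IsLocallyConstructible.iInter hE).isConstructible.preimage_of_isOpenEmbedding s.isOpenEmbedding

end Groth.Agent.FlatFunLib
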