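import Mathlib
import Groth.Agent.FlatFunLib.RelAssBC
import Groth.Agent.GenFree.Main
import Groth.Agent.RG.Pure.Spread
import Groth.Agent.RG.Loc.OpenPure

/-!
Associated points of fibres avoiding (or meeting) a closed set near a generic point.
-/

set_option autoImplicit false
set_option linter.style.haveILetI false
set_option backward.isDefEq.respectTransparency false

universe u

open TensorProduct
open Groth.Agent.RG Groth.Agent.RG.Pure

attribute [local instance] Algebra.TensorProduct.rightAlgebra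

namespace Groth.Agent.FlatFunLib

section Killed

variable {A B N : Type u} [CommRing A] [CommRing B] [Algebra A B] [Algebra.FiniteType A B] [AddCommGroup N]
  [Module B N] [Module A N] [IsScalarTower A B N]

theorem exists_fibreMod_equiv (p : Ideal A) [p.IsPrime] :
    ∃ eF : (p.Fiber B) ⊗[B] N ≃ₗ[p.ResidueField] p.ResidueField ⊗[A] N,
      ∀ (s : B) (w : (p.Fiber B) ⊗[B] N), eF (algebraMap B (p.Fiber B) s • w) = act A p.ResidueField s (eF w) := by
  refine ⟨Algebra.IsPushout.cancelBaseChange A p.ResidueField B (p.Fiber B) N, fun s w => ?_⟩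
  rw [algebraMap_smul]
  induction w using TensorProduct.induction_on with
  | zero => simp
  | tmul t n =>
    induction t using TensorProduct.induction_on with
    | zero => simp
    | tmul k b =>
      have h1 : (k ⊗ₜ[A] b : p.Fiber B) ⊗ₜ[B] n = algebraMap p.ResidueField (p.Fiber B) k ⊗ₜ[B] (b • n) := by
        rw [← smul_tmul, Algebra.smul_def]
        simp [Algebra.TensorProduct.right_algebraMap_apply]
      rw [h1, ← tmul_smul, Algebra.algebraMap_eq_smul_one, ← smul_tmul', map_smul,
        Algebra.IsPushout.cancelBaseChange_tmul, ← smul_tmul', map_smul, Algebra.IsPushout.cancelBaseChange_tmul]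
      simp [act_tmul, smul_tmul']
    | add a b ha hb => simp only [add_tmul, smul_add, map_add, ha, hb]
  | add a b ha hb => simp only [smul_add, map_add, ha, hb]

/-- An associated point of a fibre is the annihilator of a vector. -/
theorem exists_killed_of_mem_assPts {p : Ideal A} [p.IsPrime] {σ : Ideal B} (hσ : σ ∈ assPts A B N p) :
    ∃ y : p.ResidueField ⊗[A] N, y ≠ 0 ∧ ∀ (s : B), s ∈ σ → act A p.ResidueField s y = 0 := by
  obtain ⟨Q, hQ, rfl⟩ := hσ
  haveI : IsNoetherianRing (p.Fiber B) := Algebra.FiniteType.isNoetherianRing p.ResidueField _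
  obtain ⟨hQp, z, hz⟩ := isAssociatedPrime_iff.1 hQ
  obtain ⟨eF, heF⟩ := exists_fibreMod_equiv (B := B) (N := N) p
  let z' : (p.Fiber B) ⊗[B] N := z
  refine ⟨eF z', fun h0 => hQp.ne_top ?_, fun s hs => ?_⟩
  · rw [LinearEquiv.map_eq_zero_iff] at h0
    rw [hz, Ideal.eq_top_iff_one, Submodule.mem_colon_singleton, Submodule.mem_bot]
    exact (one_smul _ _).trans h0
  · rw [Ideal.mem_comap, hz, Submodule.mem_colon_singleton, Submodule.mem_bot] at hs
    rw [← heF, LinearEquiv.map_eq_zero_iff]
    exact hs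

/-- A vector killed by an ideal gives an associated point of the fibre containing it. -/
theorem exists_assPts_of_killed (p : Ideal A) [p.IsPrime] (J : Set B) (y : p.ResidueField ⊗[A] N) (hy : y ≠ 0)
    (h : ∀ (s : B), s ∈ J → act A p.ResidueField s y = 0) : ∃ σ ∈ assPts A B N p, J ⊆ σ := by
  haveI : IsNoetherianRing (p.Fiber B) := Algebra.FiniteType.isNoetherianRing p.ResidueField _
  obtain ⟨eF, heF⟩ := exists_fibreMod_equiv (B := B) (N := N) p
  obtain ⟨Q, hQ, hle⟩ := exists_le_isAssociatedPrime_of_isNoetherianRing (p.Fiber B) (eF.symm y)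
    (by rwa [Ne, LinearEquiv.map_eq_zero_iff])
  refine ⟨_, ⟨Q, hQ, rfl⟩, fun s hs => hle ?_⟩
  rw [Submodule.mem_colon_singleton, Submodule.mem_bot]
  apply eF.injective
  rw [map_zero]
  exact (heF s _).trans (by rw [LinearEquiv.apply_symm_apply]; exact h s hs)

end Killed

section Generic

variable {A B N : Type u} [CommRing A] [IsDomain A] [CommRing B] [Algebra A B] [Algebra.FiniteType A B]
  [AddCommGroup N] [Module B N] [Module A N] [IsScalarTower A B N] [Module.Finite B N]

theorem residueField_bot_injective : Function.Injective (algebraMap A (⊥ : Ideal A).ResidueField) :=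
  (injective_iff_map_eq_zero _).2 fun _ ha => Ideal.mem_bot.1 (Ideal.algebraMap_residueField_eq_zero.1 ha)

theorem exists_tower {f : A} (K : Type u) [Field K] [Algebra A K] (hK : algebraMap A K f ≠ 0) :
    ∃ (_ : Algebra (Localization.Away f) K), IsScalarTower A (Localization.Away f) K := by
  letI : Algebra (Localization.Away f) K :=
    (IsLocalization.Away.lift f (isUnit_iff_ne_zero.2 hK) : Localization.Away f →+* K).toAlgebra
  exact ⟨inferInstance, IsScalarTower.of_algebraMap_eq fun x => (IsLocalization.Away.lift_eq f _ x).symm⟩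

omit [IsDomain A] in
theorem repr_eq_zero_of_tmul {L K W ι : Type*} [CommRing L] [CommRing K] [Algebra L K] [AddCommGroup W] [Module L W]
    (b : Module.Basis ι L W) (z : W) (h : (1 : K) ⊗ₜ[L] z = 0) (i : ι) :
    algebraMap L K (b.repr z i) = algebraMap L K 0 := by
  have := b.baseChange_repr_tmul (S := K) (1 : K) z i
  rw [h, map_zero, Finsupp.zero_apply, Algebra.smul_def, mul_one] at this
  rw [map_zero, ← this]

theorem one_tmul_injective_of_free {f : A} (hf : f ≠ 0) (M : Type u) [AddCommGroup M] [Module A M]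
    [Module.Free (Localization.Away f) (Localization.Away f ⊗[A] M)] (z : Localization.Away f ⊗[A] M)
    [Algebra (Localization.Away f) (⊥ : Ideal A).ResidueField]
    [IsScalarTower A (Localization.Away f) (⊥ : Ideal A).ResidueField]
    (h : (1 : (⊥ : Ideal A).ResidueField) ⊗ₜ[Localization.Away f] z = 0) : z = 0 := by
  let L := Localization.Away f
  let K := (⊥ : Ideal A).ResidueField
  have hinj : Function.Injective (algebraMap L K) := by
    rw [injective_iff_map_eq_zero]
    intro x hx
    obtain ⟨⟨a, s⟩, hs⟩ := IsLocalization.surj (Submonoid.powers f) x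
    have := congrArg (algebraMap L K) hs
    rw [map_mul, hx, zero_mul, ← IsScalarTower.algebraMap_apply] at this
    rw [residueField_bot_injective (this.symm.trans (map_zero _).symm), map_zero] at hs
    exact (IsUnit.mul_left_eq_zero (IsLocalization.map_units L s)).1 hs
  let b := Module.Free.chooseBasis L (L ⊗[A] M)
  refine (b.repr.map_eq_zero_iff).1 (Finsupp.ext fun i => hinj ?_)
  exact repr_eq_zero_of_tmul b z h i

/-- multiplication by a family of elements -/
def mulMap {ι : Type u} (g : ι → B) : N →ₗ[B] (ι → N) := LinearMap.pi fun i => LinearMap.lsmul B N (g i)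

omit [IsDomain A] [Algebra.FiniteType A B] [Module.Finite B N] in
theorem lTensor_mulMap_eq_zero_iff {ι : Type u} [Fintype ι] [DecidableEq ι] (g : ι → B) (K : Type u) [Field K]
    [Algebra A K] (y : K ⊗[A] N) :
    ((mulMap g).restrictScalars A).lTensor K y = 0 ↔ ∀ i, act A K (g i) y = 0 := by
  have hi : ∀ i, TensorProduct.piRight A K K (fun _ : ι => N) (((mulMap g).restrictScalars A).lTensor K y) i =
      act A K (g i) y := by
    intro i
    induction y using TensorProduct.induction_on with
    | zero => simp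
    | tmul k n => simp [mulMap, act_tmul]
    | add a b ha hb => simp only [map_add, Pi.add_apply, ha, hb]
  rw [← (TensorProduct.piRight A K K (fun _ : ι => N)).map_eq_zero_iff, funext_iff]
  simp [hi]

theorem injective_lTensor_of_free_away {X Y Q : Type u} [AddCommGroup X] [Module A X] [AddCommGroup Y] [Module A Y]
    [AddCommGroup Q] [Module A Q] (u : X →ₗ[A] Y) (π : Y →ₗ[A] Q) (hex : Function.Exact u π)
    (hπ : Function.Surjective π) {f : A} (hf : f ≠ 0)
    [Module.Free (Localization.Away f) (Localization.Away f ⊗[A] X)]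
    [Module.Free (Localization.Away f) (Localization.Away f ⊗[A] Q)]
    (hgen : Function.Injective (u.lTensor (⊥ : Ideal A).ResidueField)) (p : Ideal A) [p.IsPrime] (hp : f ∉ p) :
    Function.Injective (u.lTensor p.ResidueField) := by
  let L := Localization.Away f
  let K := (⊥ : Ideal A).ResidueField
  obtain ⟨_, _⟩ := exists_tower (f := f) K fun h0 => hf (residueField_bot_injective (h0.trans (map_zero _).symm))
  have hu' : Function.Injective (u.baseChange L) := by
    rw [injective_iff_map_eq_zero]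
    intro z hz
    refine one_tmul_injective_of_free hf X z ?_
    refine (Pure.injective_lTensor_baseChange (R' := L) u K).2 hgen ?_
    rw [map_zero, LinearMap.lTensor_tmul]
    exact (congrArg _ hz).trans (tmul_zero _ _)
  obtain ⟨_, _⟩ := exists_tower (f := f) p.ResidueField fun h0 => hp (Ideal.algebraMap_residueField_eq_zero.1 h0)
  exact (Pure.injective_lTensor_baseChange (R' := L) u _).1
    (Loc.injective_lTensor_of_projective_coker' (u.baseChange L) (π.baseChange L) hu' (lTensor_exact L hex hπ)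
      (LinearMap.lTensor_surjective L hπ) _)

theorem exists_injective_near_bot' {P Q : Type u} [AddCommGroup P] [Module B P] [Module A P] [IsScalarTower A B P]
    [AddCommGroup Q] [Module B Q] [Module A Q] [IsScalarTower A B Q] [Module.Finite B Q] (u : N →ₗ[B] P)
    (π : P →ₗ[B] Q) (hex : Function.Exact u π) (hπ : Function.Surjective π)
    (hgen : Function.Injective ((u.restrictScalars A).lTensor (⊥ : Ideal A).ResidueField)) :
    ∃ f : A, f ≠ 0 ∧ ∀ (p : Ideal A) [p.IsPrime], f ∉ p →
      Function.Injective ((u.restrictScalars A).lTensor p.ResidueField) := by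
  obtain ⟨f₁, hf₁, hfree₁, -, -, -⟩ := GenFree.generic_freeness (R := A) (S := B) (M := N)
  obtain ⟨f₂, hf₂, hfree₂, -, -, -⟩ := GenFree.generic_freeness (R := A) (S := B) (M := Q)
  refine ⟨f₁ * f₂, mul_ne_zero hf₁ hf₂, fun p _ hp => ?_⟩
  haveI := GenFree.free_away_of_dvd (dvd_mul_right f₁ f₂) N hfree₁
  haveI := GenFree.free_away_of_dvd (dvd_mul_left f₂ f₁) Q hfree₂
  exact injective_lTensor_of_free_away (u.restrictScalars A) (π.restrictScalars A) hex hπ
    (mul_ne_zero hf₁ hf₂) hgen p hp

theorem exists_injective_near_bot {ι : Type u} [Finite ι] (u : N →ₗ[B] (ι → N))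
    (hgen : Function.Injective ((u.restrictScalars A).lTensor (⊥ : Ideal A).ResidueField)) :
    ∃ f : A, f ≠ 0 ∧ ∀ (p : Ideal A) [p.IsPrime], f ∉ p →
      Function.Injective ((u.restrictScalars A).lTensor p.ResidueField) :=
  exists_injective_near_bot' u (LinearMap.range u).mkQ (LinearMap.exact_map_mkQ_range u)
    (Submodule.mkQ_surjective _) hgen

/-- If no associated point of the generic fibre lies on a closed set, the same holds near the generic point. -/
theorem generic_avoid (I : Ideal B) (h : ∀ σ ∈ assPts A B N ⊥, ¬ I ≤ σ) :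
    ∃ a : A, a ≠ 0 ∧ ∀ (p : Ideal A) [p.IsPrime], a ∉ p → ∀ σ ∈ assPts A B N p, ¬ I ≤ σ := by
  classical
  have hfin := finite_assPts A B N (⊥ : Ideal A)
  choose g hgI hgσ using fun σ : hfin.toFinset => SetLike.not_le_iff_exists.1 (h σ.1 (hfin.mem_toFinset.1 σ.2))
  let u : N →ₗ[B] (hfin.toFinset → N) := mulMap g
  have hu_act := lTensor_mulMap_eq_zero_iff (A := A) (N := N) g
  have hgen : Function.Injective ((u.restrictScalars A).lTensor (⊥ : Ideal A).ResidueField) := by
    rw [injective_iff_map_eq_zero]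
    intro y hy
    by_contra hy0
    obtain ⟨σ, hσ, hle⟩ := exists_assPts_of_killed ⊥ (Set.range g) y hy0
      (Set.forall_mem_range.2 ((hu_act _ y).1 hy))
    exact hgσ ⟨σ, hfin.mem_toFinset.2 hσ⟩ (hle ⟨_, rfl⟩)
  obtain ⟨f, hf, hpf⟩ := exists_injective_near_bot u hgen
  refine ⟨f, hf, fun p _ hp σ hσ hle => ?_⟩
  have hp' : Function.Injective ((u.restrictScalars A).lTensor p.ResidueField) := hpf p hp
  obtain ⟨y, hy, hyσ⟩ := exists_killed_of_mem_assPts hσ
  exact hy (hp' (((hu_act _ y).2 fun i => hyσ _ (hle (hgI i))).trans (map_zero _).symm))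

/-- If an associated point of the generic fibre lies on a closed set, so does one of every fibre near the
generic point. -/
theorem generic_meet (I : Ideal B) (h : ∃ σ ∈ assPts A B N ⊥, I ≤ σ) :
    ∃ a : A, a ≠ 0 ∧ ∀ (p : Ideal A) [p.IsPrime], a ∉ p → ∃ σ ∈ assPts A B N p, I ≤ σ := by
  classical
  obtain ⟨σ, hσ, hle⟩ := h
  obtain ⟨y, hy0, hy⟩ := exists_killed_of_mem_assPts hσ
  let K := (⊥ : Ideal A).ResidueField
  -- clear the denominator
  obtain ⟨n, c, hn⟩ : ∃ (n : N) (c : K), y = c ⊗ₜ[A] n := by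
    obtain ⟨⟨n, c⟩, hc⟩ := IsLocalizedModule.surj (nonZeroDivisors A) (TensorProduct.mk A K N 1) y
    have hc0 : algebraMap A K c ≠ 0 := fun h0 =>
      nonZeroDivisors.coe_ne_zero c (residueField_bot_injective (h0.trans (map_zero _).symm))
    refine ⟨n, (algebraMap A K c)⁻¹, ?_⟩
    have hc' : algebraMap A K c • y = (1 : K) ⊗ₜ[A] n := (algebraMap_smul K (c : A) y).trans hc
    rw [← inv_smul_smul₀ hc0 y, hc', smul_tmul', smul_eq_mul, mul_one]
  have hc0 : c ≠ 0 := fun h0 => hy0 (by rw [hn, h0, zero_tmul])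
  have hI : ∀ s ∈ I, (1 : K) ⊗ₜ[A] (s • n) = 0 := by
    intro s hs
    have := hy s (hle hs)
    rw [hn, act_tmul] at this
    have h2 := congrArg (c⁻¹ • ·) this
    simpa only [smul_tmul', smul_eq_mul, inv_mul_cancel₀ hc0, smul_zero] using h2
  have hn0 : (1 : K) ⊗ₜ[A] n ≠ 0 := fun h0 => hy0 (by
    rw [hn, ← mul_one c, ← smul_eq_mul, ← smul_tmul', h0, smul_zero])
  obtain ⟨f, hf, hfree, -, -, -⟩ := GenFree.generic_freeness (R := A) (S := B) (M := N)
  let L := Localization.Away f
  haveI : Module.Free L (L ⊗[A] N) := hfree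
  obtain ⟨_, _⟩ := exists_tower (f := f) K fun h0 => hf (residueField_bot_injective (h0.trans (map_zero _).symm))
  let eK := AlgebraTensorModule.cancelBaseChange A L K K N
  let n' : L ⊗[A] N := 1 ⊗ₜ n
  have hI' : ∀ s ∈ I, (1 : L) ⊗ₜ[A] (s • n) = 0 := fun s hs =>
    one_tmul_injective_of_free hf N _ (eK.injective (by
      rw [map_zero, AlgebraTensorModule.cancelBaseChange_tmul, one_smul]; exact hI s hs))
  let b := Module.Free.chooseBasis L (L ⊗[A] N)
  obtain ⟨i, hi⟩ : ∃ i, b.repr n' i ≠ 0 := by
    by_contra! hall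
    have : n' = 0 := b.repr.map_eq_zero_iff.1 (Finsupp.ext hall)
    refine hn0 ?_
    have h2 := congrArg (fun w => eK ((1 : K) ⊗ₜ[L] w)) this
    simpa [n', eK] using h2
  obtain ⟨⟨a, ⟨_, k, rfl⟩⟩, ha⟩ := IsLocalization.surj (Submonoid.powers f) (b.repr n' i)
  have ha0 : a ≠ 0 := by
    rintro rfl
    rw [map_zero] at ha
    exact hi ((IsUnit.mul_left_eq_zero (IsLocalization.map_units L (⟨f ^ k, ⟨k, rfl⟩⟩ : Submonoid.powers f))).1 ha)
  refine ⟨f * a, mul_ne_zero hf ha0, fun p _ hp => ?_⟩
  let κ := p.ResidueField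
  obtain ⟨_, _⟩ := exists_tower (f := f) κ fun h0 =>
    hp (p.mul_mem_right a (Ideal.algebraMap_residueField_eq_zero.1 h0))
  let e := AlgebraTensorModule.cancelBaseChange A L κ κ N
  have hne : (1 : κ) ⊗ₜ[A] n ≠ 0 := fun h0 => by
    have h1 : (1 : κ) ⊗ₜ[L] n' = 0 := e.injective (by
      rw [map_zero, AlgebraTensorModule.cancelBaseChange_tmul, one_smul]; exact h0)
    have h3 : algebraMap L κ (b.repr n' i) = 0 := (repr_eq_zero_of_tmul b n' h1 i).trans (map_zero _)
    have h4 := congrArg (algebraMap L κ) ha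
    rw [map_mul, h3, zero_mul, ← IsScalarTower.algebraMap_apply] at h4
    exact hp (p.mul_mem_left f (Ideal.algebraMap_residueField_eq_zero.1 h4.symm))
  exact exists_assPts_of_killed p (I : Set B) ((1 : κ) ⊗ₜ[A] n) hne fun s hs => by
    rw [act_tmul]
    have h2 := congrArg (fun w => e ((1 : κ) ⊗ₜ[L] w)) (hI' s hs)
    simpa [e] using h2

end Generic

section Prime

variable {A B C B' N N' : Type u} [CommRing A] [CommRing B] [CommRing C] [CommRing B'] [Algebra A B] [Algebra A C]
  [Algebra B B'] [Algebra C B'] [Algebra A B'] [IsScalarTower A B B'] [IsScalarTower A C B']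
  [Algebra.IsPushout A C B B'] [Algebra.FiniteType C B'] [AddCommGroup N] [Module B N] [Module A N]
  [IsScalarTower A B N] [AddCommGroup N'] [Module B' N'] [Module C N'] [IsScalarTower C B' N']

/-- Avoiding a closed set is insensitive to base change. -/
theorem avoid_iff_baseChange (l : B' ⊗[B] N ≃ₗ[B'] N') (I : Ideal B) (p : Ideal A) [p.IsPrime] (p' : Ideal C)
    [p'.IsPrime] (hp : p'.comap (algebraMap A C) = p) :
    (∀ σ ∈ assPts A B N p, ¬ I ≤ σ) ↔ ∀ σ ∈ assPts C B' N' p', ¬ I.map (algebraMap B B') ≤ σ := by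
  refine ⟨fun h σ hσ hle => ?_, fun h σ hσ hle => ?_⟩
  · refine h _ ?_ (Ideal.map_le_iff_le_comap.1 hle)
    subst hp
    exact mem_assPts_of_baseChange l p' σ hσ
  · obtain ⟨σ', hσ', he⟩ := exists_assPts_over l p p' hp σ hσ
    exact h σ' hσ' (Ideal.map_le_iff_le_comap.2 (hle.trans_eq he.symm))

end Prime

section Prime'

variable {A B N : Type u} [CommRing A] [CommRing B] [Algebra A B] [Algebra.FiniteType A B]
  [AddCommGroup N] [Module B N] [Module A N] [IsScalarTower A B N] [Module.Finite B N]

/-- The condition of avoiding a closed set is locally constant at every point of the base, along its closure. -/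
theorem avoid_near_prime (I : Ideal B) (η : Ideal A) [η.IsPrime] :
    ∃ a : A, a ∉ η ∧ ∀ (p : Ideal A) [p.IsPrime], η ≤ p → a ∉ p →
      ((∀ σ ∈ assPts A B N p, ¬ I ≤ σ) ↔ ∀ σ ∈ assPts A B N η, ¬ I ≤ σ) := by
  let C := A ⧸ η
  let B' := C ⊗[A] B
  let N' := B' ⊗[B] N
  haveI : Module.Finite B' N' := inferInstance
  let J := I.map (algebraMap B B')
  have key : ∀ (p : Ideal A) [p.IsPrime] (_ : η ≤ p) (p' : Ideal C) [p'.IsPrime],
      p'.comap (algebraMap A C) = p →
      ((∀ σ ∈ assPts A B N p, ¬ I ≤ σ) ↔ ∀ σ ∈ assPts C B' N' p', ¬ J ≤ σ) := fun p _ _ p' _ hp =>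
    avoid_iff_baseChange (LinearEquiv.refl B' N') I p p' hp
  have hη : (⊥ : Ideal C).comap (algebraMap A C) = η := Ideal.mk_ker
  by_cases hg : ∀ σ ∈ assPts C B' N' ⊥, ¬ J ≤ σ
  · obtain ⟨c, hc, hcp⟩ := generic_avoid J hg
    obtain ⟨a, rfl⟩ := Ideal.Quotient.mk_surjective c
    refine ⟨a, fun h => hc (Ideal.Quotient.eq_zero_iff_mem.2 h), fun p _ hle hap => ?_⟩
    haveI := Ideal.map_isPrime_of_surjective (f := algebraMap A C) Ideal.Quotient.mk_surjective
      (I := p) (by rw [Ideal.Quotient.algebraMap_eq, Ideal.mk_ker]; exact hle)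
    have hp' : (p.map (algebraMap A C)).comap (algebraMap A C) = p := by
      show (p.map (Ideal.Quotient.mk η)).comap (Ideal.Quotient.mk η) = p
      rw [Ideal.comap_map_of_surjective _ Ideal.Quotient.mk_surjective]
      simpa [← RingHom.ker_eq_comap_bot, Ideal.mk_ker] using hle
    refine ⟨fun _ => (key η le_rfl ⊥ hη).2 hg, fun _ => (key p hle _ hp').2 (hcp _ fun hm => hap ?_)⟩
    rw [← hp']
    exact hm
  · have hg' : ∃ σ ∈ assPts C B' N' ⊥, J ≤ σ := by
      push Not at hg
      exact hg
    obtain ⟨c, hc, hcp⟩ := generic_meet J hg'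
    obtain ⟨a, rfl⟩ := Ideal.Quotient.mk_surjective c
    refine ⟨a, fun h => hc (Ideal.Quotient.eq_zero_iff_mem.2 h), fun p _ hle hap => ?_⟩
    haveI := Ideal.map_isPrime_of_surjective (f := algebraMap A C) Ideal.Quotient.mk_surjective
      (I := p) (by rw [Ideal.Quotient.algebraMap_eq, Ideal.mk_ker]; exact hle)
    have hp' : (p.map (algebraMap A C)).comap (algebraMap A C) = p := by
      show (p.map (Ideal.Quotient.mk η)).comap (Ideal.Quotient.mk η) = p
      rw [Ideal.comap_map_of_surjective _ Ideal.Quotient.mk_surjective]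
      simpa [← RingHom.ker_eq_comap_bot, Ideal.mk_ker] using hle
    refine ⟨fun h => absurd ((key p hle _ hp').1 h) ?_, fun h => absurd ((key η le_rfl ⊥ hη).1 h) hg⟩
    obtain ⟨σ, hσ, hσJ⟩ := hcp (p.map (algebraMap A C)) fun hm => hap (hp' ▸ hm)
    exact fun h => h σ hσ hσJ

end Prime'

end Groth.Agent.FlatFunLib
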