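import Groth.Agent.FlatFunLib.RelAssGeneric

/-!
Relative associated points and an open of the source, near a point of the base.
-/

set_option autoImplicit false
set_option linter.style.haveILetI false
set_option backward.isDefEq.respectTransparency false

universe u

open CategoryTheory CategoryTheory.Limits AlgebraicGeometry Opposite TensorProduct Topology
open Groth.Agent.RG Groth.Agent.RG.Pure

namespace Groth.Agent.FlatFunLib

variable {X Y : Scheme.{u}}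

theorem exists_ideal_notMem_iff {W : X.Opens} (hW : IsAffineOpen W) (U : X.Opens) :
    ∃ I : Ideal Γ(X, W), ∀ (x : X) (hx : x ∈ W), x ∉ U ↔ I ≤ (hW.primeIdealOf ⟨x, hx⟩).asIdeal := by
  obtain ⟨I, hI⟩ := (PrimeSpectrum.isClosed_iff_zeroLocus_ideal (hW.fromSpec ⁻¹' ((U : Set X)ᶜ))).1
    (U.isOpen.isClosed_compl.preimage hW.fromSpec.continuous)
  refine ⟨I, fun x hx => ?_⟩
  have h1 : hW.primeIdealOf ⟨x, hx⟩ ∈ hW.fromSpec ⁻¹' ((U : Set X)ᶜ) ↔ x ∉ U := by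
    rw [Set.mem_preimage, hW.fromSpec_primeIdealOf]
    rfl
  rw [← h1, hI, PrimeSpectrum.mem_zeroLocus]
  rfl

/-- Avoiding an open is read on the sections over an affine chart. -/
theorem avoid_chart_iff (f : X ⟶ Y) [LocallyOfFiniteType f] (F : X.Modules) (hq : Coh.IsQCoh F) (hft : CohB1.IsFT F)
    (U : X.Opens) {V : Y.Opens} (hV : IsAffineOpen V) {W : X.Opens} (hW : IsAffineOpen W) (e : W ≤ f ⁻¹ᵁ V)
    (I : Ideal Γ(X, W)) (hI : ∀ (x : X) (hx : x ∈ W), x ∉ U ↔ I ≤ (hW.primeIdealOf ⟨x, hx⟩).asIdeal)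
    (y : Y) (hy : y ∈ V) :
    letI : Algebra Γ(Y, V) Γ(X, W) := (f.appLE V W e).hom.toAlgebra
    letI : Module Γ(Y, V) Γ(F, W) := Module.compHom Γ(F, W) (f.appLE V W e).hom
    haveI : IsScalarTower Γ(Y, V) Γ(X, W) Γ(F, W) := IsScalarTower.of_algebraMap_smul fun _ _ => rfl
    (∀ x ∈ MoreMor.relAss f F, x ∈ W → f x = y → x ∈ U) ↔
      ∀ σ ∈ assPts Γ(Y, V) Γ(X, W) Γ(F, W) (hV.primeIdealOf ⟨y, hy⟩).asIdeal, ¬ I ≤ σ := by
  letI : Algebra Γ(Y, V) Γ(X, W) := (f.appLE V W e).hom.toAlgebra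
  letI : Module Γ(Y, V) Γ(F, W) := Module.compHom Γ(F, W) (f.appLE V W e).hom
  haveI : IsScalarTower Γ(Y, V) Γ(X, W) Γ(F, W) := IsScalarTower.of_algebraMap_smul fun _ _ => rfl
  constructor
  · intro h σ hσ hle
    obtain ⟨hσp, hσc⟩ := isPrime_of_mem_assPts _ _ _ hσ
    haveI := hσp
    obtain ⟨hx, hx'⟩ := InjFibre.primeIdealOf_fromSpec hW ⟨σ, hσp⟩
    let x : X := hW.fromSpec ⟨σ, hσp⟩
    have hxσ : (hW.primeIdealOf ⟨x, hx⟩).asIdeal = σ := congrArg PrimeSpectrum.asIdeal hx'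
    have hfx : f x = y := by
      have h1 : hV.primeIdealOf ⟨f x, e hx⟩ = hV.primeIdealOf ⟨y, hy⟩ :=
        PrimeSpectrum.ext ((congrArg PrimeSpectrum.asIdeal
          (IsAffineOpen.comap_primeIdealOf_appLE V hV W hW e hx)).symm.trans
            ((congrArg (Ideal.comap (algebraMap Γ(Y, V) Γ(X, W))) hxσ).trans hσc))
      have := congrArg hV.fromSpec h1
      rwa [hV.fromSpec_primeIdealOf, hV.fromSpec_primeIdealOf] at this
    have hrel : x ∈ MoreMor.relAss f F :=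
      RG.Pure.mem_relAss_of_assPts f F hq hV hW e x hx (hV.primeIdealOf ⟨y, hy⟩).asIdeal (hxσ.symm ▸ hσ)
    exact (hI x hx).2 (hxσ.symm ▸ hle) (h x hrel hx hfx)
  · rintro h x hx hxW rfl
    by_contra hxU
    exact h _ (mem_assPts_of_mem_relAss f F hq hft hV hW e x hxW hx) ((hI x hxW).1 hxU)

/-- In an affine chart, avoiding an open is constant on the closure of a point, near that point. -/
theorem exists_open_avoid_iff_chart (f : X ⟶ Y) [LocallyOfFiniteType f] (F : X.Modules) (hq : Coh.IsQCoh F)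
    (hft : CohB1.IsFT F) (U : X.Opens) {V : Y.Opens} (hV : IsAffineOpen V) {W : X.Opens} (hW : IsAffineOpen W)
    (e : W ≤ f ⁻¹ᵁ V) (η : Y) (hη : η ∈ V) :
    ∃ V' : Y.Opens, η ∈ V' ∧ V' ≤ V ∧ ∀ y ∈ V', η ⤳ y →
      ((∀ x ∈ MoreMor.relAss f F, x ∈ W → f x = y → x ∈ U) ↔
        ∀ x ∈ MoreMor.relAss f F, x ∈ W → f x = η → x ∈ U) := by
  letI : Algebra Γ(Y, V) Γ(X, W) := (f.appLE V W e).hom.toAlgebra
  letI : Module Γ(Y, V) Γ(F, W) := Module.compHom Γ(F, W) (f.appLE V W e).hom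
  haveI : IsScalarTower Γ(Y, V) Γ(X, W) Γ(F, W) := IsScalarTower.of_algebraMap_smul fun _ _ => rfl
  haveI : Algebra.FiniteType Γ(Y, V) Γ(X, W) := f.finiteType_appLE hV hW e
  haveI := QC.finite_sections hW (hM := hq) hft
  obtain ⟨I, hI⟩ := exists_ideal_notMem_iff hW U
  obtain ⟨a, ha, hap⟩ := avoid_near_prime (A := Γ(Y, V)) (B := Γ(X, W)) (N := Γ(F, W)) I
    (hV.primeIdealOf ⟨η, hη⟩).asIdeal
  have hmem : ∀ (y : Y) (hy : y ∈ V), y ∈ Y.basicOpen a ↔ a ∉ (hV.primeIdealOf ⟨y, hy⟩).asIdeal := fun y hy => by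
    have := hV.fromSpec_preimage_basicOpen a
    rw [← SetLike.mem_coe, show (y ∈ (Y.basicOpen a : Set Y)) ↔
      hV.primeIdealOf ⟨y, hy⟩ ∈ hV.fromSpec ⁻¹ᵁ Y.basicOpen a from by
        rw [Scheme.Hom.mem_preimage, hV.fromSpec_primeIdealOf]; rfl, this]
    rfl
  refine ⟨Y.basicOpen a, (hmem η hη).2 ha, Y.basicOpen_le a, fun y hy hsp => ?_⟩
  have hyV : y ∈ V := Y.basicOpen_le a hy
  rw [avoid_chart_iff f F hq hft U hV hW e I hI y hyV, avoid_chart_iff f F hq hft U hV hW e I hI η hη]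
  refine hap _ ?_ ((hmem y hyV).1 hy)
  have h' : hV.fromSpec (hV.primeIdealOf ⟨η, hη⟩) ⤳ hV.fromSpec (hV.primeIdealOf ⟨y, hyV⟩) := by
    rw [hV.fromSpec_primeIdealOf, hV.fromSpec_primeIdealOf]
    exact hsp
  rw [hV.fromSpec.isOpenEmbedding.isInducing.specializes_iff] at h'
  exact (PrimeSpectrum.le_iff_specializes _ _).2 h'

/-- Over a quasi-compact morphism the same holds for the whole fibres. -/
theorem exists_open_avoid_iff (f : X ⟶ Y) [LocallyOfFiniteType f] [QuasiCompact f] (F : X.Modules) (hq : Coh.IsQCoh F)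
    (hft : CohB1.IsFT F) (U : X.Opens) (η : Y) :
    ∃ V' : Y.Opens, η ∈ V' ∧ ∀ y ∈ V', η ⤳ y →
      ((∀ x ∈ MoreMor.relAss f F, f x = y → x ∈ U) ↔ ∀ x ∈ MoreMor.relAss f F, f x = η → x ∈ U) := by
  obtain ⟨V, hV, hη, -⟩ := exists_isAffineOpen_mem_and_subset (X := Y) (x := η) (U := ⊤) trivial
  obtain ⟨T, hT, hcov⟩ := (f.isCompact_preimage hV.isCompact).elim_finite_subcover_image
    (b := {W : X.Opens | IsAffineOpen W ∧ W ≤ f ⁻¹ᵁ V}) (c := fun W => (W : Set X)) (fun W _ => W.isOpen)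
    (fun x hx => by
      obtain ⟨W, hW, hxW, hle⟩ := exists_isAffineOpen_mem_and_subset (X := X) (x := x) (U := f ⁻¹ᵁ V) hx
      exact Set.mem_biUnion (show W ∈ {W : X.Opens | IsAffineOpen W ∧ W ≤ f ⁻¹ᵁ V} from ⟨hW, hle⟩) hxW)
  have h : ∀ W ∈ T, ∃ V' : Y.Opens, η ∈ V' ∧ V' ≤ V ∧ ∀ y ∈ V', η ⤳ y →
      ((∀ x ∈ MoreMor.relAss f F, x ∈ W → f x = y → x ∈ U) ↔
        ∀ x ∈ MoreMor.relAss f F, x ∈ W → f x = η → x ∈ U) := fun W hW =>
    exists_open_avoid_iff_chart f F hq hft U hV (hT hW).1 (hT hW).2 η hη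
  choose V' hη' hle hiff using h
  haveI := hcov.1.to_subtype
  refine ⟨⟨(V : Set Y) ∩ ⋂ W : T, (V' W.1 W.2 : Set Y),
    V.isOpen.inter (isOpen_iInter_of_finite fun W => (V' W.1 W.2).isOpen)⟩,
    ⟨hη, Set.mem_iInter.2 fun W => hη' W.1 W.2⟩, fun y hy hsp => ?_⟩
  have key : ∀ z ∈ V, (∀ x ∈ MoreMor.relAss f F, f x = z → x ∈ U) ↔
      ∀ W ∈ T, ∀ x ∈ MoreMor.relAss f F, x ∈ W → f x = z → x ∈ U := fun z hz =>
    ⟨fun h W _ x hx _ he => h x hx he, fun h x hx he => by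
      obtain ⟨W, hWT, hxW⟩ := Set.mem_iUnion₂.1 (hcov.2 (show f x ∈ V by rw [he]; exact hz : x ∈ (f ⁻¹ᵁ V)))
      exact h W hWT x hx hxW he⟩
  rw [key y hy.1, key η hη]
  exact forall₂_congr fun W hW => hiff W hW y (Set.mem_iInter.1 hy.2 ⟨W, hW⟩) hsp

end Groth.Agent.FlatFunLib
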