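import Mathlib
import Groth.Agent.FibCrit.Scheme
import Groth.Agent.InjFibre.Stalk
import Groth.Agent.FibreFlat.PointCrit
import Groth.Agent.FlatModBC.Basic
import Groth.Agent.FlatModBC.FlatAt
import Groth.Agent.FlatLimMod.Stage

/-!
The fibrewise criterion of flatness for modules at a point, and descent of relative flatness along base change.
-/

set_option autoImplicit false
set_option linter.style.haveILetI false
set_option backward.isDefEq.respectTransparency false

universe u

open CategoryTheory CategoryTheory.Limits AlgebraicGeometry IsLocalRing TensorProduct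

namespace Groth.Agent.FlatFunLib

/-- Flatness over a quotient ring, transported along compatible surjections. -/
theorem flat_quot_of_surjections {A B A' B' N : Type u} [CommRing A] [CommRing B] [CommRing A'] [CommRing B']
    [Algebra A B] [Algebra A' B'] [Algebra B B'] (a : A →+* A') (ha : Function.Surjective a)
    (hb : Function.Surjective (algebraMap B B'))
    (hc : (algebraMap A' B').comp a = (algebraMap B B').comp (algebraMap A B))
    (I : Ideal A) (hI : RingHom.ker a = I) (hJ : RingHom.ker (algebraMap B B') = I.map (algebraMap A B))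
    [AddCommGroup N] [Module B N] [Module A N] [IsScalarTower A B N]
    (h : Module.Flat A' (B' ⊗[B] N)) : Module.Flat (A ⧸ I) ((A ⧸ I) ⊗[A] N) := by
  subst hI
  let eA := RingHom.quotientKerEquivOfSurjective ha
  letI : Algebra (A ⧸ RingHom.ker a) A' := eA.toRingHom.toAlgebra
  letI : Algebra (A ⧸ RingHom.ker a) B' := ((algebraMap A' B').comp eA.toRingHom).toAlgebra
  letI : Algebra A B' := ((algebraMap B B').comp (algebraMap A B)).toAlgebra
  haveI : IsScalarTower A B B' := IsScalarTower.of_algebraMap_eq fun _ => rfl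
  haveI : IsScalarTower (A ⧸ RingHom.ker a) A' B' := IsScalarTower.of_algebraMap_eq fun _ => rfl
  haveI : IsScalarTower A (A ⧸ RingHom.ker a) B' := IsScalarTower.of_algebraMap_eq fun x =>
    (RingHom.congr_fun hc x).symm
  haveI : Module.Flat (A ⧸ RingHom.ker a) A' :=
    Module.Flat.of_linearEquiv (LinearEquiv.ofBijective (Algebra.linearMap (A ⧸ RingHom.ker a) A') eA.bijective).symm
  haveI : Algebra.IsPushout A (A ⧸ RingHom.ker a) B B' := by
    refine Algebra.IsPushout.symm ?_
    let eB : (B ⧸ (RingHom.ker a).map (algebraMap A B)) ≃ₗ[B] B' :=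
      ((Ideal.quotientEquivAlgOfEq B hJ.symm).trans
        (Ideal.quotientKerAlgEquivOfSurjective (f := Algebra.ofId B B') hb)).toLinearEquiv
    refine ⟨IsBaseChange.of_equiv
      ((Algebra.TensorProduct.quotIdealMapEquivTensorQuot B (RingHom.ker a)).symm.toLinearEquiv.trans eB) fun x => ?_⟩
    obtain ⟨x, rfl⟩ := Ideal.Quotient.mk_surjective x
    show eB ((Algebra.TensorProduct.quotIdealMapEquivTensorQuot B (RingHom.ker a)).symm
      ((1 : B) ⊗ₜ[A] (Ideal.Quotient.mk (RingHom.ker a) x))) = _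
    rw [Algebra.TensorProduct.quotIdealMapEquivTensorQuot_symm_tmul]
    show eB (x • (Ideal.Quotient.mk _ (1 : B))) = (algebraMap A' B') (a x)
    rw [← algebraMap_smul B, map_smul, Algebra.smul_def]
    show algebraMap B B' (algebraMap A B x) * algebraMap B B' 1 = _
    rw [map_one, mul_one]
    exact (RingHom.congr_fun hc x).symm
  haveI : Module.Flat A' (B' ⊗[B] N) := h
  haveI : Module.Flat (A ⧸ RingHom.ker a) (B' ⊗[B] N) := Module.Flat.trans (A ⧸ RingHom.ker a) A' (B' ⊗[B] N)
  exact Module.Flat.of_linearEquiv (Algebra.IsPushout.cancelBaseChange A (A ⧸ RingHom.ker a) B B' N).symm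

variable {X Y S : Scheme.{u}}

/-- The module form of the fibrewise criterion, on stalks. -/
theorem isFlatOverAt_of_fibre_alg (f : X ⟶ Y) (g : Y ⟶ S) [LocallyOfFinitePresentation (f ≫ g)] [LocallyOfFiniteType g]
    (F : X.Modules) (hq : Coh.IsQCoh F) (hfp : CohB1.IsFP F) (x : X)
    (hflat : FlatMod.IsFlatOverAt (f ≫ g) F x) (hne : Nontrivial (F.presheaf.stalk x))
    (hfib : letI := FlatMod.moduleStalkOver f F x
      Module.Flat (Y.presheaf.stalk (f x) ⧸ (maximalIdeal (S.presheaf.stalk (g (f x)))).map (g.stalkMap (f x)).hom)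
        ((Y.presheaf.stalk (f x) ⧸ (maximalIdeal (S.presheaf.stalk (g (f x)))).map (g.stalkMap (f x)).hom)
          ⊗[Y.presheaf.stalk (f x)] F.presheaf.stalk x)) :
    FlatMod.IsFlatOverAt f F x := by
  obtain ⟨U, hU, hsU, -⟩ := exists_isAffineOpen_mem_and_subset (X := S) (x := g (f x)) (U := ⊤) trivial
  obtain ⟨V, hV, hyV, hVU⟩ := exists_isAffineOpen_mem_and_subset (X := Y) (x := f x) (U := g ⁻¹ᵁ U) hsU
  obtain ⟨W, hW, hx, hWV⟩ := exists_isAffineOpen_mem_and_subset (X := X) (x := x) (U := f ⁻¹ᵁ V) hyV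
  have hWU : W ≤ (f ≫ g) ⁻¹ᵁ U := fun x hx => hVU (hWV hx)
  letI : Algebra Γ(S, U) Γ(Y, V) := (g.appLE U V hVU).hom.toAlgebra
  letI : Algebra Γ(Y, V) Γ(X, W) := (f.appLE V W hWV).hom.toAlgebra
  letI : Algebra Γ(S, U) Γ(X, W) := ((f ≫ g).appLE U W hWU).hom.toAlgebra
  haveI : IsScalarTower Γ(S, U) Γ(Y, V) Γ(X, W) := IsScalarTower.of_algebraMap_eq fun a => by
    change ((f ≫ g).appLE U W hWU).hom a = (f.appLE V W hWV).hom ((g.appLE U V hVU).hom a)
    rw [← CommRingCat.comp_apply, Scheme.Hom.appLE_comp_appLE]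
  haveI : Algebra.FiniteType Γ(S, U) Γ(Y, V) := g.finiteType_appLE hU hV hVU
  haveI : Algebra.FinitePresentation Γ(S, U) Γ(X, W) := (f ≫ g).finitePresentation_appLE hU hW hWU
  let q := (hW.primeIdealOf ⟨x, hx⟩).asIdeal
  have hqS : q.comap (algebraMap Γ(Y, V) Γ(X, W)) = (hV.primeIdealOf ⟨f x, hWV hx⟩).asIdeal :=
    congrArg PrimeSpectrum.asIdeal (IsAffineOpen.comap_primeIdealOf_appLE V hV W hW hWV hx)
  have hqR : q.comap (algebraMap Γ(S, U) Γ(X, W)) = (hU.primeIdealOf ⟨g (f x), hWU hx⟩).asIdeal :=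
    congrArg PrimeSpectrum.asIdeal (IsAffineOpen.comap_primeIdealOf_appLE U hU W hW hWU hx)
  let R' := S.presheaf.stalk (g (f x))
  let S' := Y.presheaf.stalk (f x)
  let Q' := X.presheaf.stalk x
  let N := F.presheaf.stalk x
  letI := TopCat.Presheaf.algebra_section_stalk S.presheaf (⟨g (f x), hWU hx⟩ : U)
  letI := TopCat.Presheaf.algebra_section_stalk Y.presheaf (⟨f x, hWV hx⟩ : V)
  letI := TopCat.Presheaf.algebra_section_stalk X.presheaf (⟨x, hx⟩ : W)
  haveI : IsLocalization.AtPrime R' (q.comap (algebraMap Γ(S, U) Γ(X, W))) := by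
    simp only [hqR]; exact hU.isLocalization_stalk ⟨g (f x), hWU hx⟩
  haveI : IsLocalization.AtPrime S' (q.comap (algebraMap Γ(Y, V) Γ(X, W))) := by
    simp only [hqS]; exact hV.isLocalization_stalk ⟨f x, hWV hx⟩
  haveI : IsLocalization.AtPrime Q' q := hW.isLocalization_stalk ⟨x, hx⟩
  letI : Algebra R' S' := (g.stalkMap (f x)).hom.toAlgebra
  letI : Algebra S' Q' := (f.stalkMap x).hom.toAlgebra
  letI : Algebra R' Q' := ((f ≫ g).stalkMap x).hom.toAlgebra
  haveI : IsScalarTower R' S' Q' :=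
    IsScalarTower.of_algebraMap_eq fun a => by
      change ((f ≫ g).stalkMap x).hom a = _
      rw [Scheme.Hom.stalkMap_comp]
      rfl
  letI : Algebra Γ(S, U) S' := ((algebraMap Γ(Y, V) S').comp (algebraMap Γ(S, U) Γ(Y, V))).toAlgebra
  haveI : IsScalarTower Γ(S, U) Γ(Y, V) S' := IsScalarTower.of_algebraMap_eq fun _ => rfl
  haveI : IsScalarTower Γ(S, U) R' S' :=
    IsScalarTower.of_algebraMap_eq fun a => (FibCrit.germ_comm g U V hVU (f x) (hWV hx) a).symm
  letI : Algebra Γ(Y, V) Q' := ((algebraMap Γ(X, W) Q').comp (algebraMap Γ(Y, V) Γ(X, W))).toAlgebra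
  haveI : IsScalarTower Γ(Y, V) Γ(X, W) Q' := IsScalarTower.of_algebraMap_eq fun _ => rfl
  haveI : IsScalarTower Γ(Y, V) S' Q' :=
    IsScalarTower.of_algebraMap_eq fun a => (FibCrit.germ_comm f V W hWV x hx a).symm
  letI : Algebra Γ(S, U) Q' := ((algebraMap Γ(X, W) Q').comp (algebraMap Γ(S, U) Γ(X, W))).toAlgebra
  haveI : IsScalarTower Γ(S, U) Γ(X, W) Q' := IsScalarTower.of_algebraMap_eq fun _ => rfl
  haveI : IsScalarTower Γ(S, U) R' Q' :=
    IsScalarTower.of_algebraMap_eq fun a => (FibCrit.germ_comm (f ≫ g) U W hWU x hx a).symm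
  haveI := LocFree.finitePresentation_sections_of_isFP (M := F) hq hfp hW
  obtain ⟨ν, hν⟩ := LocFree.exists_stalkMap hW hq hx
  letI := Module.compHom N (X.presheaf.germ W x hx).hom
  haveI : IsScalarTower Γ(X, W) Q' N := ⟨fun a c m => mul_smul ((X.presheaf.germ W x hx).hom a) c m⟩
  haveI := hν
  let e : Q' ⊗[Γ(X, W)] Γ(F, W) ≃ₗ[Q'] N := (IsLocalizedModule.isBaseChange q.primeCompl Q' ν).equiv
  letI : Module S' N := FlatMod.moduleStalkOver f F x
  haveI : IsScalarTower S' Q' N := IsScalarTower.of_algebraMap_smul fun _ _ => rfl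
  letI : Module R' N := FlatMod.moduleStalkOver (f ≫ g) F x
  haveI : IsScalarTower R' Q' N := IsScalarTower.of_algebraMap_smul fun _ _ => rfl
  haveI : Module.Flat R' N := hflat
  haveI : Module.Flat R' (Q' ⊗[Γ(X, W)] Γ(F, W)) := Module.Flat.of_linearEquiv (e.restrictScalars R')
  haveI : Module.Flat Γ(S, U) (Q' ⊗[Γ(X, W)] Γ(F, W)) :=
    (Module.flat_iff_of_isLocalization R' (q.comap (algebraMap Γ(S, U) Γ(X, W))).primeCompl
      (Q' ⊗[Γ(X, W)] Γ(F, W))).1 inferInstance
  haveI : Module.Flat (S' ⧸ (maximalIdeal R').map (algebraMap R' S'))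
      ((S' ⧸ (maximalIdeal R').map (algebraMap R' S')) ⊗[S'] N) := hfib
  haveI : Module.Flat (S' ⧸ (maximalIdeal R').map (algebraMap R' S'))
      ((S' ⧸ (maximalIdeal R').map (algebraMap R' S')) ⊗[S'] (Q' ⊗[Γ(X, W)] Γ(F, W))) :=
    Module.Flat.of_linearEquiv (AlgebraTensorModule.congr (LinearEquiv.refl _ _) (e.restrictScalars S'))
  obtain ⟨r1, -, -⟩ := FibCrit.ft_fibre (R := Γ(S, U)) (S := Γ(Y, V)) (R' := R') (S' := S') (Q' := Q')
    (M := Γ(F, W)) q inferInstance (haveI := hne; e.toEquiv.nontrivial) inferInstance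
  exact Module.Flat.of_linearEquiv (e.restrictScalars S').symm

/-- The fibrewise criterion of flatness for modules at a point. -/
theorem isFlatOverAt_of_fibre (f : X ⟶ Y) (g : Y ⟶ S) [LocallyOfFinitePresentation (f ≫ g)] [LocallyOfFiniteType g]
    (F : X.Modules) (hq : Coh.IsQCoh F) (hfp : CohB1.IsFP F) (s : S) (z : ↥((f ≫ g).fiber s))
    (hflat : FlatMod.IsFlatOverAt (f ≫ g) F ((f ≫ g).fiberι s z))
    (hz : FlatMod.IsFlatOverAt (MoreMor.fiberMap f g s) ((Scheme.Modules.pullback ((f ≫ g).fiberι s)).obj F) z) :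
    FlatMod.IsFlatOverAt f F ((f ≫ g).fiberι s z) := by
  let x := (f ≫ g).fiberι s z
  cases subsingleton_or_nontrivial (F.presheaf.stalk x) with
  | inl h =>
    letI := FlatMod.moduleStalkOver f F x
    exact (inferInstance : Module.Flat (Y.presheaf.stalk (f x)) (F.presheaf.stalk x))
  | inr hne =>
  refine isFlatOverAt_of_fibre_alg f g F hq hfp x hflat hne ?_
  let w := MoreMor.fiberMap f g s z
  have hw : g.fiberι s w = f x := by
    change (MoreMor.fiberMap f g s ≫ g.fiberι s) z = ((f ≫ g).fiberι s ≫ f) z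
    rw [FibCrit.fiberMap_fiberι]
  obtain ⟨-, hkA, hsA⟩ := FibCrit.ker_stalkCongr_comp g s w (f x) hw
  obtain ⟨hsB, hkB⟩ := FibCrit.fiberι_stalkMap (f ≫ g) s z
  have hmap : (maximalIdeal (S.presheaf.stalk ((f ≫ g) x))).map ((f ≫ g).stalkMap x).hom =
      ((maximalIdeal (S.presheaf.stalk (g (f x)))).map (g.stalkMap (f x)).hom).map (f.stalkMap x).hom := by
    rw [Ideal.map_map, ← CommRingCat.hom_comp, ← Scheme.Hom.stalkMap_comp]
    rfl
  have hsq : (Y.presheaf.stalkCongr (.of_eq hw)).inv ≫ (g.fiberι s).stalkMap w ≫ (MoreMor.fiberMap f g s).stalkMap z =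
      f.stalkMap x ≫ ((f ≫ g).fiberι s).stalkMap z := by
    rw [← Scheme.Hom.stalkMap_comp, ← Scheme.Hom.stalkMap_comp,
      Scheme.Hom.stalkMap_congr_hom _ _ (FibCrit.fiberMap_fiberι f g s) z]
    simp [TopCat.Presheaf.stalkCongr_inv, TopCat.Presheaf.stalkCongr_hom]
    exact Category.id_comp _
  let A := Y.presheaf.stalk (f x)
  let B := X.presheaf.stalk x
  let A' := (g.fiber s).presheaf.stalk w
  let B' := ((f ≫ g).fiber s).presheaf.stalk z
  let N := F.presheaf.stalk x
  let M := ((Scheme.Modules.pullback ((f ≫ g).fiberι s)).obj F).presheaf.stalk z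
  letI : Algebra A B := (f.stalkMap x).hom.toAlgebra
  letI : Algebra A' B' := ((MoreMor.fiberMap f g s).stalkMap z).hom.toAlgebra
  letI : Algebra B B' := (((f ≫ g).fiberι s).stalkMap z).hom.toAlgebra
  letI : Module A N := FlatMod.moduleStalkOver f F x
  haveI : IsScalarTower A B N := IsScalarTower.of_algebraMap_smul fun _ _ => rfl
  letI : Module A' M := FlatMod.moduleStalkOver (MoreMor.fiberMap f g s) _ z
  haveI : IsScalarTower A' B' M := IsScalarTower.of_algebraMap_smul fun _ _ => rfl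
  let e : M ≃ₗ[B'] B' ⊗[B] N := ((KFlat.pullStalkIso ((f ≫ g).fiberι s) z).app F).toLinearEquiv
  haveI : Module.Flat A' M := hz
  refine flat_quot_of_surjections (B := B) (B' := B')
    ((Y.presheaf.stalkCongr (.of_eq hw)).inv ≫ (g.fiberι s).stalkMap w).hom hsA hsB ?_ _ hkA (hkB.trans hmap)
    (Module.Flat.of_linearEquiv (e.restrictScalars A').symm)
  show ((MoreMor.fiberMap f g s).stalkMap z).hom.comp _ = (((f ≫ g).fiberι s).stalkMap z).hom.comp (f.stalkMap x).hom
  rw [← CommRingCat.hom_comp, ← CommRingCat.hom_comp, Category.assoc, hsq]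

/-- Relative flatness descends along any base change. -/
theorem isFlatOverAt_of_baseChange_base {X' Y' S' : Scheme.{u}} {f : X ⟶ Y} {g : Y ⟶ S} {f' : X' ⟶ Y'}
    {g' : Y' ⟶ S'} {h : S' ⟶ S} {gX : X' ⟶ X} {gY : Y' ⟶ Y} [LocallyOfFinitePresentation (f ≫ g)] [LocallyOfFiniteType g]
    (sqY : IsPullback gY g' g h) (sqX : IsPullback gX f' f gY) (F : X.Modules) (hq : Coh.IsQCoh F) (hfp : CohB1.IsFP F)
    (x' : X') (hflat : FlatMod.IsFlatOverAt (f ≫ g) F (gX x'))
    (hx : FlatMod.IsFlatOverAt f' ((Scheme.Modules.pullback gX).obj F) x') :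
    FlatMod.IsFlatOverAt f F (gX x') := by
  let z' : S' := g' (f' x')
  have sqXS : IsPullback gX (f' ≫ g') (f ≫ g) h := sqX.paste_vert sqY
  let mX : (f' ≫ g').fiber z' ⟶ (f ≫ g).fiber (h z') :=
    pullback.map (f' ≫ g') (S'.fromSpecResidueField z') (f ≫ g) (S.fromSpecResidueField (h z'))
      gX (Spec.map (h.residueFieldMap z')) h sqXS.w.symm (by simp)
  let mY : g'.fiber z' ⟶ g.fiber (h z') :=
    pullback.map g' (S'.fromSpecResidueField z') g (S.fromSpecResidueField (h z'))
      gY (Spec.map (h.residueFieldMap z')) h sqY.w.symm (by simp)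
  haveI : Flat (Spec.map (h.residueFieldMap z')) := by
    rw [Flat.SpecMap_iff]
    let : Algebra (S.residueField (h z')) (S'.residueField z') := (h.residueFieldMap z').hom.toAlgebra
    exact (inferInstance : Module.Flat (S.residueField (h z')) (S'.residueField z'))
  haveI : Flat mY := MorphismProperty.of_isPullback (P := @Flat)
    (isPullback_fiberToSpecResidueField_of_isPullback sqY z').flip ‹Flat (Spec.map (h.residueFieldMap z'))›
  let fm := MoreMor.fiberMap f g (h z')
  let fm' := MoreMor.fiberMap f' g' z'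
  let ι := (f ≫ g).fiberι (h z')
  let ι' := (f' ≫ g').fiberι z'
  have hsq : IsPullback mX fm' fm mY := by
    have ht : IsPullback ι fm f (g.fiberι (h z')) := FibreFlat.isPullback_fibMap f g _
    have hs : IsPullback (ι' ≫ gX) fm' f (g'.fiberι z' ≫ gY) :=
      (FibreFlat.isPullback_fibMap f' g' _).paste_horiz sqX
    have e1 : mX ≫ ι = ι' ≫ gX := pullback.lift_fst _ _ _
    have e2 : mY ≫ g.fiberι (h z') = g'.fiberι z' ≫ gY := pullback.lift_fst _ _ _
    rw [← e1, ← e2] at hs
    refine IsPullback.of_right hs ?_ ht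
    apply pullback.hom_ext
    · show (mX ≫ fm) ≫ g.fiberι (h z') = (fm' ≫ mY) ≫ g.fiberι (h z')
      simp only [fm, fm', Category.assoc, FibCrit.fiberMap_fiberι, e2]
      rw [← Category.assoc mX, e1, Category.assoc, sqX.w, ← Category.assoc (MoreMor.fiberMap f' g' z'), FibCrit.fiberMap_fiberι, Category.assoc]
    · show (mX ≫ fm) ≫ g.fiberToSpecResidueField (h z') = (fm' ≫ mY) ≫ g.fiberToSpecResidueField (h z')
      simp only [Category.assoc]
      rw [show fm ≫ g.fiberToSpecResidueField (h z') = (f ≫ g).fiberToSpecResidueField (h z') from pullback.lift_snd _ _ _,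
        show mY ≫ g.fiberToSpecResidueField (h z') = g'.fiberToSpecResidueField z' ≫ Spec.map (h.residueFieldMap z')
          from pullback.lift_snd _ _ _, ← Category.assoc fm',
        show fm' ≫ g'.fiberToSpecResidueField z' = (f' ≫ g').fiberToSpecResidueField z' from pullback.lift_snd _ _ _]
      exact pullback.lift_snd _ _ _
  let p' := (f' ≫ g').asFiber x'
  have hp' : ι' p' = x' := (f' ≫ g').fiberι_asFiber x'
  have hpt : ι (mX p') = gX x' := by
    rw [← Scheme.Hom.comp_apply, show mX ≫ ι = ι' ≫ gX from pullback.lift_fst _ _ _, Scheme.Hom.comp_apply]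
    exact congrArg _ hp'
  have h1 : FlatMod.IsFlatOverAt fm' ((Scheme.Modules.pullback ι').obj ((Scheme.Modules.pullback gX).obj F)) p' :=
    FlatModBC.isFlatOverAt_baseChange (FibreFlat.isPullback_fibMap f' g' _) _ p' (by
      show FlatMod.IsFlatOverAt f' _ (ι' p')
      rw [hp']
      exact hx)
  have h2 : FlatMod.IsFlatOverAt fm' ((Scheme.Modules.pullback mX).obj ((Scheme.Modules.pullback ι).obj F)) p' :=
    FlatLimMod.isFlatOverAt_of_iso _ (((ModDesc.trIso ι' gX rfl).app F) ≪≫
      ((ModDesc.trIso mX ι (pullback.lift_fst _ _ _)).app F).symm) h1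
  have h3 := FlatModBC.isFlatOverAt_of_baseChange hsq _ (QC.isQCoh_pullback _ hq) p' (Flat.stalkMap mY _) h2
  rw [← hpt] at hflat ⊢
  exact isFlatOverAt_of_fibre f g F hq hfp _ _ hflat h3

end Groth.Agent.FlatFunLib
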