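import Mathlib
import Groth.Agent.FlatFunLib.ModCond
import Groth.Agent.ModDesc.Descend

/-!
Conditions on a pulled back homomorphism descend to a stage of a limit.
-/

set_option autoImplicit false
set_option linter.style.haveILetI false
set_option backward.isDefEq.respectTransparency false

universe u

open CategoryTheory CategoryTheory.Limits AlgebraicGeometry Opposite

namespace Groth.Agent.FlatFunLib

variable {X : Scheme.{u}} {F G : X.Modules} (u : F ⟶ G) [Coh.IsQCoh F] [Coh.IsQCoh G]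
  {J : Type u} [SmallCategory J] [IsCofiltered J] (E : J ⥤ Scheme.{u})
  [∀ {i j : J} (a : i ⟶ j), IsAffineHom (E.map a)] (e : Cone E) (he : IsLimit e) (j₀ : J)
  [CompactSpace (E.obj j₀)] (r : E.obj j₀ ⟶ X)

include he in
theorem exists_stage_eq_zero (hF : CohB1.IsFT F) (h : (Scheme.Modules.pullback (e.π.app j₀ ≫ r)).map u = 0) :
    ∃ (j : J) (a : j ⟶ j₀), (Scheme.Modules.pullback (E.map a ≫ r)).map u = 0 := by
  let F₀ := (Scheme.Modules.pullback r).obj F
  let G₀ := (Scheme.Modules.pullback r).obj G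
  haveI : Coh.IsQCoh F₀ := QC.isQCoh_pullback r inferInstance
  haveI : Coh.IsQCoh G₀ := QC.isQCoh_pullback r inferInstance
  let u₀ : F₀ ⟶ G₀ := (Scheme.Modules.pullback r).map u
  have h' : (Scheme.Modules.pullback (e.π.app j₀)).map u₀ = 0 := (map_eq_zero_trans u _ r).1 h
  obtain ⟨k, a, hk⟩ := ModDesc.exists_bc_eq E e he G₀ (ModDesc.isFT_pullback r inferInstance hF) (𝟙 j₀)
    ((Scheme.Modules.pullback (E.map (𝟙 j₀))).map u₀) 0 (by
      rw [ModDesc.bc_map, h']
      simp [ModDesc.bc])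
  refine ⟨k, a ≫ 𝟙 j₀, (map_eq_zero_trans u _ r).2 ?_⟩
  rw [ModDesc.bc_map] at hk
  refine hk.trans ?_
  simp [ModDesc.bc]

include he in
theorem exists_stage_epi (hG : CohB1.IsFT G) (h : Epi ((Scheme.Modules.pullback (e.π.app j₀ ≫ r)).map u)) :
    ∃ (j : J) (a : j ⟶ j₀), Epi ((Scheme.Modules.pullback (E.map a ≫ r)).map u) := by
  haveI : Coh.IsQCoh ((Scheme.Modules.pullback r).obj F) := QC.isQCoh_pullback r inferInstance
  haveI : Coh.IsQCoh ((Scheme.Modules.pullback r).obj G) := QC.isQCoh_pullback r inferInstance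
  haveI := (epi_trans u _ r).1 h
  obtain ⟨j, a, hj⟩ := ModDesc.exists_epi_stage E e he (ModDesc.isFT_pullback r inferInstance hG)
    ((Scheme.Modules.pullback r).map u)
  exact ⟨j, a, (epi_trans u _ r).2 hj⟩

include he in
theorem exists_stage_isIso (hF : CohB1.IsFT F) (hG : CohB1.IsFP G)
    (h : IsIso ((Scheme.Modules.pullback (e.π.app j₀ ≫ r)).map u)) :
    ∃ (j : J) (a : j ⟶ j₀), IsIso ((Scheme.Modules.pullback (E.map a ≫ r)).map u) := by
  haveI : Coh.IsQCoh ((Scheme.Modules.pullback r).obj F) := QC.isQCoh_pullback r inferInstance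
  haveI : Coh.IsQCoh ((Scheme.Modules.pullback r).obj G) := QC.isQCoh_pullback r inferInstance
  haveI := (isIso_trans u _ r).1 h
  obtain ⟨j, a, hj⟩ := ModDesc.exists_isIso_stage E e he (ModDesc.isFT_pullback r inferInstance hF)
    (ModDesc.isFP_pullback r inferInstance hG) ((Scheme.Modules.pullback r).map u)
  exact ⟨j, a, (isIso_trans u _ r).2 hj⟩

end Groth.Agent.FlatFunLib
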